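import Mathlib

/-!
# Pairs of involutions

Elementary facts on the dihedral subgroup generated by two involutions.
-/

set_option autoImplicit false

namespace CfsgLib.Invol

variable {G : Type*} [Group G]

theorem mul_self_of_orderOf_two {x : G} (hx : orderOf x = 2) : x * x = 1 := by
  rw [← sq, ← hx, pow_orderOf_eq_one]

theorem inv_eq_of_orderOf_two {x : G} (hx : orderOf x = 2) : x⁻¹ = x :=
  inv_eq_of_mul_eq_one_right (mul_self_of_orderOf_two hx)

theorem ne_one_of_orderOf_two {x : G} (hx : orderOf x = 2) : x ≠ 1 := by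
  rintro rfl; simp at hx

theorem mul_mul_cancel_of_orderOf_two {x : G} (hx : orderOf x = 2) (a : G) : x * (x * a) = a := by
  rw [← mul_assoc, mul_self_of_orderOf_two hx, one_mul]

theorem orderOf_eq_two_iff' {x : G} : orderOf x = 2 ↔ x ≠ 1 ∧ x * x = 1 :=
  ⟨fun h => ⟨ne_one_of_orderOf_two h, mul_self_of_orderOf_two h⟩,
    fun h => orderOf_eq_prime (by rw [sq]; exact h.2) h.1⟩

theorem orderOf_conj_eq (g x : G) : orderOf (g * x * g⁻¹) = orderOf x := by
  simpa using orderOf_injective (MulAut.conj g).toMonoidHom (MulAut.conj g).injective x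

theorem orderOf_eq_of_isConj {x y : G} (h : IsConj x y) : orderOf x = orderOf y := by
  obtain ⟨g, rfl⟩ := isConj_iff.mp h
  exact (orderOf_conj_eq g x).symm

theorem conj_mul_eq_inv {x y : G} (hx : orderOf x = 2) (hy : orderOf y = 2) :
    x * (x * y) * x⁻¹ = (x * y)⁻¹ := by
  rw [mul_inv_rev, inv_eq_of_orderOf_two hx, inv_eq_of_orderOf_two hy,
    mul_mul_cancel_of_orderOf_two hx]

theorem conj_zpow_eq_inv {x r : G} (h : x * r * x⁻¹ = r⁻¹) (k : ℤ) :
    x * r ^ k * x⁻¹ = r ^ (-k) := by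
  rw [← conj_zpow, h, inv_zpow, zpow_neg]

theorem inv_zpow_comm {x r : G} (h : x * r * x⁻¹ = r⁻¹) (k : ℤ) :
    r ^ k * x = x * r ^ (-k) := by
  have := conj_zpow_eq_inv h (-k)
  rw [neg_neg] at this
  rw [← this]
  group

theorem conj_mul_zpow {x y : G} (hx : orderOf x = 2) (hy : orderOf y = 2) (k : ℤ) :
    x * (x * y) ^ k * x⁻¹ = (x * y) ^ (-k) :=
  conj_zpow_eq_inv (conj_mul_eq_inv hx hy) k

theorem mul_zpow_comm {x y : G} (hx : orderOf x = 2) (hy : orderOf y = 2) (k : ℤ) :
    (x * y) ^ k * x = x * (x * y) ^ (-k) :=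
  inv_zpow_comm (conj_mul_eq_inv hx hy) k

theorem conj_zpow_self {x y : G} (hx : orderOf x = 2) (hy : orderOf y = 2) (i : ℤ) :
    (x * y) ^ i * x * ((x * y) ^ i)⁻¹ = x * (x * y) ^ (-2 * i) := by
  rw [mul_zpow_comm hx hy, ← zpow_neg, mul_assoc, ← zpow_add]
  congr 2
  ring

/-- Every element of the subgroup generated by two involutions is `r ^ k` or `x * r ^ k`. -/
theorem mem_closure_pair_invol {x y : G} (hx : orderOf x = 2) (hy : orderOf y = 2) {d : G} :
    d ∈ Subgroup.closure ({x, y} : Set G) ↔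
      ∃ k : ℤ, d = (x * y) ^ k ∨ d = x * (x * y) ^ k := by
  constructor
  · intro hd
    induction hd using Subgroup.closure_induction with
    | mem a ha =>
      rcases ha with rfl | ha
      · exact ⟨0, Or.inr (by simp)⟩
      · rw [Set.mem_singleton_iff] at ha
        subst ha
        exact ⟨1, Or.inr (by rw [zpow_one, mul_mul_cancel_of_orderOf_two hx])⟩
    | one => exact ⟨0, Or.inl (by simp)⟩
    | mul a b _ _ ha hb =>
      obtain ⟨i, hi⟩ := ha
      obtain ⟨j, hj⟩ := hb
      rcases hi with rfl | rfl <;> rcases hj with rfl | rfl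
      · exact ⟨i + j, Or.inl (zpow_add _ _ _).symm⟩
      · exact ⟨-i + j, Or.inr (by rw [← mul_assoc, mul_zpow_comm hx hy, mul_assoc, ← zpow_add])⟩
      · exact ⟨i + j, Or.inr (by rw [mul_assoc, ← zpow_add])⟩
      · refine ⟨-i + j, Or.inl ?_⟩
        rw [mul_assoc, ← mul_assoc _ x, mul_zpow_comm hx hy, mul_assoc,
          mul_mul_cancel_of_orderOf_two hx, ← zpow_add]
    | inv a _ ha =>
      obtain ⟨i, hi⟩ := ha
      rcases hi with rfl | rfl
      · exact ⟨-i, Or.inl (zpow_neg _ _).symm⟩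
      · refine ⟨i, Or.inr ?_⟩
        rw [mul_inv_rev, ← zpow_neg, inv_eq_of_orderOf_two hx, mul_zpow_comm hx hy, neg_neg]
  · rintro ⟨k, rfl | rfl⟩
    all_goals
      have hxm : x ∈ Subgroup.closure ({x, y} : Set G) := Subgroup.subset_closure (by simp)
      have hym : y ∈ Subgroup.closure ({x, y} : Set G) := Subgroup.subset_closure (by simp)
    · exact zpow_mem (mul_mem hxm hym) k
    · exact mul_mem hxm (zpow_mem (mul_mem hxm hym) k)

theorem not_mem_zpowers_mul {x y : G} (hx : orderOf x = 2) (hy : orderOf y = 2) (hxy : x ≠ y) :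
    x ∉ Subgroup.zpowers (x * y) := by
  intro h
  obtain ⟨k, hk⟩ := Subgroup.mem_zpowers_iff.mp h
  have h1 : x * (x * y) * x⁻¹ = x * y := by
    have hc : Commute ((x * y) ^ k) (x * y) := ((Commute.refl (x * y)).zpow_left k)
    rw [hk] at hc
    rw [hc.eq, mul_inv_cancel_right]
  rw [conj_mul_eq_inv hx hy] at h1
  have h2 : (x * y) ^ (2 : ℤ) = 1 := by
    rw [zpow_two]; nth_rewrite 1 [← h1]; exact inv_mul_cancel _
  rcases Int.even_or_odd k with ⟨j, hj⟩ | ⟨j, hj⟩
  · apply ne_one_of_orderOf_two hx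
    rw [← hk, hj, ← two_mul, zpow_mul, h2, one_zpow]
  · apply ne_one_of_orderOf_two hy
    have e : (x * y) ^ k = x * y := by rw [hj, zpow_add, zpow_mul, h2, one_zpow, one_mul, zpow_one]
    rw [hk] at e
    exact mul_eq_left.mp e.symm

theorem orderOf_mul_zpow {x y : G} (hx : orderOf x = 2) (hy : orderOf y = 2) (hxy : x ≠ y)
    (k : ℤ) : orderOf (x * (x * y) ^ k) = 2 := by
  rw [orderOf_eq_two_iff']
  refine ⟨fun h => not_mem_zpowers_mul hx hy hxy ?_, ?_⟩
  · exact Subgroup.mem_zpowers_iff.mpr ⟨-k, by rw [zpow_neg]; exact (eq_inv_of_mul_eq_one_left h).symm⟩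
  · rw [mul_assoc, ← mul_assoc _ x, mul_zpow_comm hx hy, mul_assoc,
      mul_mul_cancel_of_orderOf_two hx, ← zpow_add]
    simp

theorem mul_zpow_one {x y : G} (hx : orderOf x = 2) : x * (x * y) ^ (1 : ℤ) = y := by
  rw [zpow_one, mul_mul_cancel_of_orderOf_two hx]

theorem orderOf_mul_comm_invol (x y : G) : orderOf (y * x) = orderOf (x * y) := by
  rw [show y * x = y * (x * y) * y⁻¹ by group, orderOf_conj_eq]

theorem exists_conj_of_odd {x y : G} (hx : orderOf x = 2) (hy : orderOf y = 2)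
    (hodd : Odd (orderOf (x * y))) :
    ∃ d ∈ Subgroup.zpowers (x * y), d * x * d⁻¹ = y := by
  obtain ⟨m, hm⟩ := hodd
  refine ⟨(x * y) ^ (m : ℤ), Subgroup.zpow_mem_zpowers _ _, ?_⟩
  rw [conj_zpow_self hx hy]
  conv_rhs => rw [← mul_zpow_one (y := y) hx]
  congr 1
  rw [zpow_eq_zpow_iff_modEq, hm]
  refine Int.modEq_iff_dvd.mpr ⟨1, ?_⟩
  push_cast
  ring

theorem zpowers_le_closure_pair (x y : G) :
    Subgroup.zpowers (x * y) ≤ Subgroup.closure ({x, y} : Set G) := by
  rw [Subgroup.zpowers_le]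
  exact mul_mem (Subgroup.subset_closure (by simp)) (Subgroup.subset_closure (by simp))

section Even

variable {x y : G} [Finite G]

/-- The central involution of the dihedral group generated by two involutions. -/
theorem orderOf_half (heven : Even (orderOf (x * y))) :
    orderOf ((x * y) ^ (orderOf (x * y) / 2)) = 2 := by
  have hpos := orderOf_pos (x * y)
  obtain ⟨m, hm⟩ := heven
  have h2 : orderOf (x * y) / 2 = m := by omega
  rw [h2, orderOf_pow_of_dvd (by omega) ⟨2, by omega⟩, hm]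
  exact Nat.div_eq_of_eq_mul_left (by omega) (by omega)

theorem commute_half_left (hx : orderOf x = 2) (hy : orderOf y = 2)
    (heven : Even (orderOf (x * y))) :
    Commute ((x * y) ^ (orderOf (x * y) / 2)) x := by
  have hz := inv_eq_of_orderOf_two (orderOf_half heven)
  rw [← zpow_natCast, ← zpow_neg] at hz
  rw [← zpow_natCast]
  exact (mul_zpow_comm hx hy _).trans (by rw [hz])

theorem commute_half_right (hx : orderOf x = 2) (hy : orderOf y = 2)
    (heven : Even (orderOf (x * y))) :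
    Commute ((x * y) ^ (orderOf (x * y) / 2)) y := by
  have h2 := (commute_half_left hx hy heven).mul_right ((Commute.refl (x * y)).pow_left _)
  rwa [mul_mul_cancel_of_orderOf_two hx] at h2

omit [Finite G] in
theorem conj_half_of_four_dvd (hx : orderOf x = 2) (hy : orderOf y = 2)
    (h4 : 4 ∣ orderOf (x * y)) :
    ∃ d ∈ Subgroup.zpowers (x * y), d * x * d⁻¹ = x * (x * y) ^ (orderOf (x * y) / 2) := by
  obtain ⟨m, hm⟩ := h4
  refine ⟨(x * y) ^ (m : ℤ), Subgroup.zpow_mem_zpowers _ _, ?_⟩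
  rw [conj_zpow_self hx hy, ← zpow_natCast]
  congr 1
  rw [zpow_eq_zpow_iff_modEq]
  have h2 : orderOf (x * y) / 2 = 2 * m := by omega
  rw [h2, hm]
  refine Int.modEq_iff_dvd.mpr ⟨1, ?_⟩
  push_cast
  ring

omit [Finite G] in
theorem conj_half_of_not_four_dvd (hx : orderOf x = 2) (hy : orderOf y = 2)
    (heven : Even (orderOf (x * y))) (h4 : ¬ 4 ∣ orderOf (x * y)) :
    ∃ d ∈ Subgroup.zpowers (x * y), d * y * d⁻¹ = x * (x * y) ^ (orderOf (x * y) / 2) := by
  obtain ⟨m, hm⟩ := heven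
  have hmodd : Odd m := by
    rcases Nat.even_or_odd m with ⟨j, hj⟩ | h
    · exact absurd ⟨j, by omega⟩ h4
    · exact h
  obtain ⟨j, hj⟩ := hmodd
  refine ⟨(x * y) ^ (-(j : ℤ)), Subgroup.zpow_mem_zpowers _ _, ?_⟩
  conv_lhs => arg 1; arg 2; rw [← mul_zpow_one (y := y) hx]
  rw [← zpow_natCast, ← mul_assoc, mul_zpow_comm hx hy, ← zpow_neg, mul_assoc, ← zpow_add,
    mul_assoc, ← zpow_add]
  congr 2
  have h2 : orderOf (x * y) / 2 = 2 * j + 1 := by omega
  rw [h2]
  push_cast
  ring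

theorem mul_half_facts (hx : orderOf x = 2) (hy : orderOf y = 2) (hxy : x ≠ y)
    (heven : Even (orderOf (x * y))) :
    orderOf (x * (x * y) ^ (orderOf (x * y) / 2)) = 2 ∧
      Commute x (x * (x * y) ^ (orderOf (x * y) / 2)) ∧
      x * (x * y) ^ (orderOf (x * y) / 2) ≠ x := by
  refine ⟨by rw [← zpow_natCast]; exact orderOf_mul_zpow hx hy hxy _,
    (Commute.refl x).mul_right (commute_half_left hx hy heven).symm, fun h => ?_⟩
  exact ne_one_of_orderOf_two (orderOf_half heven) (mul_eq_left.mp h)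

omit [Finite G] in
theorem ne_of_even (heven : Even (orderOf (x * y))) (hx : orderOf x = 2) : x ≠ y := by
  rintro rfl
  rw [mul_self_of_orderOf_two hx, orderOf_one] at heven
  exact absurd heven (by decide)

end Even

/-- Two involutions not conjugate to each other have product of even order. -/
theorem even_of_not_isConj {x y : G} (hx : orderOf x = 2) (hy : orderOf y = 2)
    (h : ¬ IsConj x y) : Even (orderOf (x * y)) := by
  rcases Nat.even_or_odd (orderOf (x * y)) with he | ho
  · exact he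
  · obtain ⟨d, -, hd⟩ := exists_conj_of_odd hx hy ho
    exact absurd (isConj_iff.mpr ⟨d, hd⟩) h

end CfsgLib.Invol
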