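import Mathlib
import Cfsg.Agent.Lib.Invol.Dihedral

/-!
# Counting helpers for involutions
-/

set_option autoImplicit false

namespace CfsgLib.Invol

variable {G : Type*} [Group G]

/-- The fibres of `g ↦ g x g⁻¹` have the size of the centralizer. -/
theorem card_conjugates_mul [Finite G] (x : G) :
    Nat.card {y : G // IsConj x y} * Nat.card (Subgroup.centralizer ({x} : Set G)) = Nat.card G := by
  classical
  have e : G ≃ {y : G // IsConj x y} × Subgroup.centralizer ({x} : Set G) := by
    choose c hc using fun y : {y : G // IsConj x y} => isConj_iff.mp y.2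
    exact
    { toFun := fun g => ⟨⟨g * x * g⁻¹, isConj_iff.mpr ⟨g, rfl⟩⟩,
        ⟨(c ⟨g * x * g⁻¹, isConj_iff.mpr ⟨g, rfl⟩⟩)⁻¹ * g, by
          have h := hc ⟨g * x * g⁻¹, isConj_iff.mpr ⟨g, rfl⟩⟩
          generalize c ⟨g * x * g⁻¹, isConj_iff.mpr ⟨g, rfl⟩⟩ = a at h
          simp only at h
          rw [Subgroup.mem_centralizer_singleton_iff]
          calc a⁻¹ * g * x = a⁻¹ * (g * x * g⁻¹) * g := by group
            _ = a⁻¹ * (a * x * a⁻¹) * g := by rw [h]
            _ = x * (a⁻¹ * g) := by group⟩⟩
      invFun := fun p => c p.1 * p.2.1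
      left_inv := fun g => mul_inv_cancel_left _ _
      right_inv := fun p => by
        have key : c p.1 * p.2.1 * x * (c p.1 * p.2.1)⁻¹ = p.1.1 := by
          have h := Subgroup.mem_centralizer_singleton_iff.mp p.2.2
          rw [show c p.1 * p.2.1 * x * (c p.1 * p.2.1)⁻¹ = c p.1 * (p.2.1 * x) * p.2.1⁻¹ * (c p.1)⁻¹ by
            group, h, ← mul_assoc, mul_inv_cancel_right]
          exact hc p.1
        have e1 : (⟨c p.1 * p.2.1 * x * (c p.1 * p.2.1)⁻¹, isConj_iff.mpr ⟨_, rfl⟩⟩ : {y : G // IsConj x y}) = p.1 :=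
          Subtype.ext key
        refine Prod.ext e1 (Subtype.ext ?_)
        show (c _)⁻¹ * (c p.1 * p.2.1) = p.2.1
        rw [e1, inv_mul_cancel_left] }
  rw [← Nat.card_prod]
  exact (Nat.card_congr e).symm

theorem card_centralizer_of_isConj {x y : G} (h : IsConj x y) :
    Nat.card (Subgroup.centralizer ({y} : Set G)) = Nat.card (Subgroup.centralizer ({x} : Set G)) := by
  obtain ⟨g, rfl⟩ := isConj_iff.mp h
  apply Nat.card_congr
  refine (Equiv.subtypeEquiv (MulAut.conj g).toEquiv fun a => ?_).symm
  show a ∈ Subgroup.centralizer ({x} : Set G) ↔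
    g * a * g⁻¹ ∈ Subgroup.centralizer ({g * x * g⁻¹} : Set G)
  rw [Subgroup.mem_centralizer_singleton_iff, Subgroup.mem_centralizer_singleton_iff]
  exact (Commute.conj_iff g).symm

theorem card_centralizer_pos [Finite G] (x : G) :
    0 < Nat.card (Subgroup.centralizer ({x} : Set G)) := Nat.card_pos

/-- Two involutions with product of even order: a central involution of their dihedral group. -/
theorem exists_common_involution [Finite G] {x y : G} (hx : orderOf x = 2) (hy : orderOf y = 2)
    (h : ¬ IsConj x y) : ∃ z : G, orderOf z = 2 ∧ Commute z x ∧ Commute z y ∧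
      z ∈ Subgroup.zpowers (x * y) := by
  have he := even_of_not_isConj hx hy h
  exact ⟨(x * y) ^ (orderOf (x * y) / 2), orderOf_half he, commute_half_left hx hy he,
    commute_half_right hx hy he, Subgroup.npow_mem_zpowers _ _⟩

theorem mem_zpowers_unique_involution [Finite G] {r a b : G} (ha : a ∈ Subgroup.zpowers r)
    (hb : b ∈ Subgroup.zpowers r) (ha2 : orderOf a = 2) (hb2 : orderOf b = 2) : a = b := by
  classical
  haveI := Fintype.ofFinite G
  by_contra hne
  have h1 := IsCyclic.card_pow_eq_one_le (α := Subgroup.zpowers r) (n := 2) (by norm_num)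
  have h2 : ({1, ⟨a, ha⟩, ⟨b, hb⟩} : Finset (Subgroup.zpowers r)) ⊆
      Finset.univ.filter (fun t => t ^ 2 = 1) := by
    intro t ht
    simp only [Finset.mem_insert, Finset.mem_singleton] at ht
    simp only [Finset.mem_filter, Finset.mem_univ, true_and]
    rcases ht with rfl | rfl | rfl
    · simp
    · exact Subtype.ext (by simpa [ha2] using pow_orderOf_eq_one a)
    · exact Subtype.ext (by simpa [hb2] using pow_orderOf_eq_one b)
  have h3 := (Finset.card_le_card h2).trans h1
  rw [Finset.card_insert_of_notMem, Finset.card_pair] at h3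
  · omega
  · simpa [Subtype.ext_iff] using hne
  · simp [Subtype.ext_iff, (ne_one_of_orderOf_two ha2).symm, (ne_one_of_orderOf_two hb2).symm]

end CfsgLib.Invol
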