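import Mathlib

/-!
# Small Sylow and subgroup helpers for involution arguments
-/

set_option autoImplicit false

namespace CfsgLib.Invol

variable {G : Type*} [Group G]

theorem mem_map_conj {H : Subgroup G} {g x : G} :
    x ∈ H.map (MulAut.conj g).toMonoidHom ↔ g⁻¹ * x * g ∈ H := by
  rw [Subgroup.mem_map_equiv]
  simp [mul_assoc]

theorem conj_mem_map_conj {H : Subgroup G} {g x : G} (h : x ∈ H) :
    g * x * g⁻¹ ∈ H.map (MulAut.conj g).toMonoidHom := by
  rw [mem_map_conj]; simpa [mul_assoc] using h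

theorem card_map_conj (H : Subgroup G) (g : G) :
    Nat.card (H.map (MulAut.conj g).toMonoidHom) = Nat.card H :=
  Subgroup.card_map_of_injective (MulAut.conj g).injective

theorem map_conj_map_conj (H : Subgroup G) (g h : G) :
    (H.map (MulAut.conj h).toMonoidHom).map (MulAut.conj g).toMonoidHom =
      H.map (MulAut.conj (g * h)).toMonoidHom := by
  ext x
  rw [mem_map_conj, mem_map_conj, mem_map_conj]
  simp [mul_assoc]

theorem map_conj_one (H : Subgroup G) : H.map (MulAut.conj (1 : G)).toMonoidHom = H := by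
  ext x; simp [mem_map_conj]

theorem mem_normalizer_iff_map_conj {H : Subgroup G} {g : G} :
    g ∈ Subgroup.normalizer (H : Set G) ↔ H.map (MulAut.conj g).toMonoidHom = H := by
  rw [Subgroup.mem_normalizer_iff]
  constructor
  · intro h
    ext x
    rw [mem_map_conj]
    have := h (g⁻¹ * x * g)
    rw [show g * (g⁻¹ * x * g) * g⁻¹ = x by group] at this
    exact this
  · intro h x
    conv_rhs => rw [← h, mem_map_conj]
    simp [mul_assoc]

/-- Sylow subgroups are conjugate, stated on elements. -/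
theorem sylow_exists_conj [Finite G] {p : ℕ} [Fact p.Prime] (P Q : Sylow p G) :
    ∃ g : G, ∀ x : G, x ∈ (Q : Subgroup G) ↔ g⁻¹ * x * g ∈ (P : Subgroup G) := by
  obtain ⟨g, hg⟩ := MulAction.exists_smul_eq G P Q
  refine ⟨g, fun x => ?_⟩
  subst hg
  simp [Sylow.coe_subgroup_smul, Subgroup.mem_pointwise_smul_iff_inv_smul_mem, MulAut.smul_def,
    mul_assoc]

theorem pow_two_of_mem_closure_pair {x y : G} (hx : x * x = 1) (hy : y * y = 1)
    (hc : Commute x y) {a : G} (ha : a ∈ Subgroup.closure ({x, y} : Set G)) : a ^ 2 = 1 := by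
  have h1 : ∀ c ∈ Subgroup.closure ({x, y} : Set G), Commute c x ∧ Commute c y := by
    intro c hc'
    induction hc' using Subgroup.closure_induction with
    | mem a ha =>
      rcases ha with rfl | ha
      · exact ⟨Commute.refl _, hc⟩
      · rw [Set.mem_singleton_iff] at ha
        subst ha
        exact ⟨hc.symm, Commute.refl _⟩
    | one => exact ⟨Commute.one_left _, Commute.one_left _⟩
    | mul a b _ _ ha hb => exact ⟨ha.1.mul_left hb.1, ha.2.mul_left hb.2⟩
    | inv a _ ha => exact ⟨ha.1.inv_left, ha.2.inv_left⟩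
  have key : a * a = 1 ∧ ∀ c ∈ Subgroup.closure ({x, y} : Set G), Commute c a := by
    induction ha using Subgroup.closure_induction with
    | mem a ha =>
      rcases ha with rfl | ha
      · exact ⟨hx, fun c hc' => (h1 c hc').1⟩
      · rw [Set.mem_singleton_iff] at ha
        subst ha
        exact ⟨hy, fun c hc' => (h1 c hc').2⟩
    | one => exact ⟨one_mul 1, fun c _ => Commute.one_right c⟩
    | mul a b _ hb' ha hb =>
      refine ⟨?_, fun c hc' => (ha.2 c hc').mul_right (hb.2 c hc')⟩
      rw [mul_assoc, ← mul_assoc b, (ha.2 b hb').eq, mul_assoc, hb.1, mul_one, ha.1]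
    | inv a _ ha =>
      exact ⟨by rw [← mul_inv_rev, ha.1, inv_one], fun c hc' => (ha.2 c hc').inv_right⟩
  rw [sq]; exact key.1

/-- Two commuting involutions lie in a common Sylow 2-subgroup. -/
theorem exists_sylow_of_commute {x y : G} (hx : x * x = 1) (hy : y * y = 1) (hc : Commute x y) :
    ∃ P : Sylow 2 G, x ∈ (P : Subgroup G) ∧ y ∈ (P : Subgroup G) := by
  have hp : IsPGroup 2 ↥(Subgroup.closure ({x, y} : Set G)) := by
    rintro ⟨a, ha⟩
    exact ⟨1, Subtype.ext (by simpa using pow_two_of_mem_closure_pair hx hy hc ha)⟩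
  obtain ⟨P, hP⟩ := hp.exists_le_sylow
  exact ⟨P, hP (Subgroup.subset_closure (by simp)), hP (Subgroup.subset_closure (by simp))⟩

theorem exists_orderOf_eq_two_pow [Finite G] {p : ℕ} [Fact p.Prime] {H : Subgroup G}
    (hH : IsPGroup p H) {a : G} (ha : a ∈ H) : ∃ k : ℕ, orderOf a = p ^ k := by
  obtain ⟨k, hk⟩ := (IsPGroup.iff_orderOf.mp hH) ⟨a, ha⟩
  exact ⟨k, by rw [← hk, Subgroup.orderOf_mk]⟩

theorem eq_one_of_odd_of_mem [Finite G] {H : Subgroup G} (hH : IsPGroup 2 H) {a : G} (ha : a ∈ H)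
    (hodd : Odd (orderOf a)) : a = 1 := by
  obtain ⟨k, hk⟩ := exists_orderOf_eq_two_pow hH ha
  rcases k with _ | k
  · simpa using hk
  · rw [hk] at hodd
    exact absurd hodd (by simp [Nat.odd_pow_iff, parity_simps])

theorem exists_mem_sylow_orderOf_two [Finite G] (P : Sylow 2 G) {t : G} (ht : orderOf t = 2) :
    ∃ g : G, g * t * g⁻¹ ∈ (P : Subgroup G) := by
  obtain ⟨Q, hQ, -⟩ := exists_sylow_of_commute (x := t) (y := t)
    (by rw [← sq, ← ht, pow_orderOf_eq_one]) (by rw [← sq, ← ht, pow_orderOf_eq_one]) (Commute.refl t)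
  obtain ⟨g, hg⟩ := sylow_exists_conj P Q
  exact ⟨g⁻¹, by rw [inv_inv]; exact (hg t).mp hQ⟩

end CfsgLib.Invol
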