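import Mathlib
import Cfsg.Prelude.Def_TwoFusion
import Cfsg.Agent.Lib.Invol.Dihedral
import Cfsg.Agent.Lib.Invol.Sylow

/-!
# Isolated involutions: elementary facts
-/

set_option autoImplicit false

namespace CfsgLib.Invol

variable {G : Type*} [Group G]

theorem isolated_conj {z : G} (hz : Cfsg.IsIsolatedInvolution z) (a : G) :
    Cfsg.IsIsolatedInvolution (a * z * a⁻¹) := by
  refine ⟨(orderOf_conj_eq a z).trans hz.1, fun g hg => ?_⟩
  have e : g * (a * z * a⁻¹) * g⁻¹ = a * ((a⁻¹ * g * a) * z * (a⁻¹ * g * a)⁻¹) * a⁻¹ := by group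
  rw [e] at hg ⊢
  have h1 : Commute z ((a⁻¹ * g * a) * z * (a⁻¹ * g * a)⁻¹) := by
    have := (Commute.conj_iff a).mp hg
    exact this
  rw [hz.2 _ h1]

theorem isolated_odd_mul_conj [Finite G] {z : G} (hz : Cfsg.IsIsolatedInvolution z) (g : G) :
    Odd (orderOf (z * (g * z * g⁻¹))) := by
  by_contra h
  rw [Nat.not_odd_iff_even] at h
  have hy : orderOf (g * z * g⁻¹) = 2 := (orderOf_conj_eq g z).trans hz.1
  obtain ⟨-, hc, hne⟩ := mul_half_facts hz.1 hy (ne_of_even h hz.1) h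
  by_cases h4 : 4 ∣ orderOf (z * (g * z * g⁻¹))
  · obtain ⟨d, -, hd⟩ := conj_half_of_four_dvd hz.1 hy h4
    rw [← hd] at hc hne
    exact hne (hz.2 d hc)
  · obtain ⟨d, -, hd⟩ := conj_half_of_not_four_dvd hz.1 hy h h4
    rw [← hd] at hc hne
    have e : d * (g * z * g⁻¹) * d⁻¹ = (d * g) * z * (d * g)⁻¹ := by group
    rw [e] at hc hne
    exact hne (hz.2 (d * g) hc)

theorem isolated_odd_conj_mul_conj [Finite G] {z : G} (hz : Cfsg.IsIsolatedInvolution z) (g h : G) :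
    Odd (orderOf ((g * z * g⁻¹) * (h * z * h⁻¹))) := by
  have h1 := isolated_odd_mul_conj hz (g⁻¹ * h)
  rwa [← orderOf_conj_eq g (z * (g⁻¹ * h * z * (g⁻¹ * h)⁻¹)),
    show g * (z * (g⁻¹ * h * z * (g⁻¹ * h)⁻¹)) * g⁻¹ = (g * z * g⁻¹) * (h * z * h⁻¹) by group] at h1

theorem isolated_eq_of_isPGroup [Finite G] {z : G} (hz : Cfsg.IsIsolatedInvolution z)
    {P : Subgroup G} (hP : IsPGroup 2 P) (hzP : z ∈ P) (g : G) (hg : g * z * g⁻¹ ∈ P) :
    g * z * g⁻¹ = z := by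
  have h1 := eq_one_of_odd_of_mem hP (mul_mem hzP hg) (isolated_odd_mul_conj hz g)
  rw [eq_inv_of_mul_eq_one_right h1, inv_eq_of_orderOf_two hz.1]

/-- The Sylow form of isolation implies the commuting form. -/
theorem isolated_of_sylow [Finite G] (P : Sylow 2 G) {u : G} (hu : orderOf u = 2)
    (huP : u ∈ (P : Subgroup G))
    (hiso : ∀ g : G, g * u * g⁻¹ ∈ (P : Subgroup G) → g * u * g⁻¹ = u) :
    Cfsg.IsIsolatedInvolution u := by
  refine ⟨hu, fun g hc => ?_⟩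
  obtain ⟨Q, huQ, hgQ⟩ := exists_sylow_of_commute (mul_self_of_orderOf_two hu)
    (mul_self_of_orderOf_two ((orderOf_conj_eq g u).trans hu)) hc
  obtain ⟨h, hh⟩ := sylow_exists_conj P Q
  have h1 : h⁻¹ * u * h = u := by
    have := hiso h⁻¹ (by rw [inv_inv]; exact (hh u).mp huQ)
    rwa [inv_inv] at this
  have h2 : h⁻¹ * (g * u * g⁻¹) * h = u := by
    have e : h⁻¹ * (g * u * g⁻¹) * h = (h⁻¹ * g) * u * (h⁻¹ * g)⁻¹ := by group
    rw [e]
    exact hiso _ (by rw [← e]; exact (hh _).mp hgQ)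
  calc g * u * g⁻¹ = h * (h⁻¹ * (g * u * g⁻¹) * h) * h⁻¹ := by group
    _ = h * (h⁻¹ * u * h) * h⁻¹ := by rw [h2, h1]
    _ = u := by group

/-- Conjugates of an isolated involution inside a subgroup are conjugate in that subgroup. -/
theorem isolated_conj_in_subgroup [Finite G] {z : G} (hz : Cfsg.IsIsolatedInvolution z)
    {H : Subgroup G} (hzH : z ∈ H) (g : G) (hg : g * z * g⁻¹ ∈ H) :
    ∃ h ∈ H, h * z * h⁻¹ = g * z * g⁻¹ := by
  obtain ⟨d, hd, hdz⟩ := exists_conj_of_odd hz.1 ((orderOf_conj_eq g z).trans hz.1)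
    (isolated_odd_mul_conj hz g)
  exact ⟨d, (Subgroup.zpowers_le.mpr (mul_mem hzH hg)) hd, hdz⟩

end CfsgLib.Invol
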