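import Mathlib
import Cfsg.Prelude.Def_Local
import Cfsg.Prelude.Def_Blocks
import Cfsg.Agent.Lib.Invol.Isolated
import Cfsg.Agent.Lib.Cores.Basic
import Cfsg.Agent.Lib.Char.Integral
import Cfsg.Agent.Lib.Char.Linear
import Cfsg.Agent.Lib.CharNormal.Kernel
import Cfsg.Agent.Lib.Solvable.MinimalNormal

/-!
# Preliminaries for Glauberman's Z*-theorem
-/

set_option autoImplicit false

namespace CfsgLib.Invol

open Cfsg CfsgLib.Char

variable {G : Type*} [Group G]

/-- The image of an isolated involution under a surjection is isolated, if it is nontrivial. -/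
theorem isolated_map [Finite G] {H : Type*} [Group H] {z : G} (hz : IsIsolatedInvolution z)
    (f : G →* H) (hf : Function.Surjective f) (hz1 : f z ≠ 1) : IsIsolatedInvolution (f z) := by
  have hzz : f z * f z = 1 := by rw [← map_mul, mul_self_of_orderOf_two hz.1, map_one]
  refine ⟨orderOf_eq_prime (by rw [sq, hzz]) hz1, fun h hc => ?_⟩
  obtain ⟨g, rfl⟩ := hf h
  rw [← map_inv, ← map_mul, ← map_mul] at hc ⊢
  have hodd : Odd (orderOf (f z * f (g * z * g⁻¹))) := by
    rw [← map_mul]
    exact (isolated_odd_mul_conj hz g).of_dvd_nat (orderOf_map_dvd f _)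
  have hyy : f (g * z * g⁻¹) * f (g * z * g⁻¹) = 1 := by
    rw [← map_mul, mul_self_of_orderOf_two ((orderOf_conj_eq g z).trans hz.1), map_one]
  have h2 : (f z * f (g * z * g⁻¹)) ^ 2 = 1 := by rw [hc.mul_pow, sq, sq, hzz, hyy, one_mul]
  have h1 : f z * f (g * z * g⁻¹) = 1 := by
    rw [← orderOf_eq_one_iff]
    exact Nat.eq_one_of_dvd_coprimes (Nat.coprime_two_right.mpr hodd) dvd_rfl
      (orderOf_dvd_of_pow_eq_one h2)
  rw [eq_inv_of_mul_eq_one_right h1, inv_eq_of_mul_eq_one_right hzz]

theorem isolated_subtype {z : G} (hz : IsIsolatedInvolution z) (H : Subgroup G) (hzH : z ∈ H) :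
    IsIsolatedInvolution (⟨z, hzH⟩ : H) :=
  ⟨by rw [Subgroup.orderOf_mk]; exact hz.1,
    fun g hc => Subtype.ext (hz.2 (g : G) (congrArg Subtype.val hc))⟩

/-- A modular ideal exists. -/
theorem exists_isPModular (p : ℕ) (hp : p.Prime) : ∃ M : Ideal AlgInt, IsPModular p M := by
  have h : ¬ IsUnit (p : AlgInt) := by
    intro hu
    obtain ⟨b, hb⟩ := hu.exists_right_inv
    have hb' : (p : ℂ) * (b : ℂ) = 1 := by simpa using congrArg (fun t : AlgInt => (t : ℂ)) hb
    have hint : IsIntegral ℤ ((1 : ℕ) / (p : ℂ) : ℂ) := by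
      rw [Nat.cast_one, one_div, inv_eq_of_mul_eq_one_right hb']
      exact b.2
    exact hp.not_dvd_one (dvd_of_isIntegral_div hp.ne_zero hint)
  obtain ⟨M, hM, hle⟩ := Ideal.exists_le_maximal (Ideal.span {(p : AlgInt)})
    (by rwa [Ne, Ideal.span_singleton_eq_top])
  exact ⟨M, hp, hM, hle (Ideal.subset_span rfl)⟩

/-- An odd order subgroup of a centralizer normalized by it lies in its core. -/
theorem le_centralizerPPrimeCore {u : G} {K : Subgroup G}
    (hKC : K ≤ Subgroup.centralizer ({u} : Set G)) (hodd : Odd (Nat.card K))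
    (hn : ∀ c ∈ Subgroup.centralizer ({u} : Set G), ∀ k ∈ K, c * k * c⁻¹ ∈ K) :
    K ≤ centralizerPPrimeCore 2 u := by
  set C := Subgroup.centralizer ({u} : Set G)
  have : (K.subgroupOf C).Normal := ⟨fun k hk c => hn c c.2 k hk⟩
  have h := CfsgLib.Cores.le_oddCore_of_odd (N := K.subgroupOf C)
    (by rwa [Nat.card_congr (Subgroup.subgroupOfEquivOfLe hKC).toEquiv])
  intro k hk
  exact Subgroup.mem_map.mpr ⟨⟨k, hKC hk⟩, h hk, rfl⟩

/-- An irreducible character with `χ z ^ 2 = χ 1 ^ 2` is linear, if no proper normal subgroup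
contains `z`. -/
theorem linear_of_sq_eq [Fintype G] {z : G} (hN : ∀ N : Subgroup G, N.Normal → z ∈ N → N = ⊤)
    {χ : G → ℂ} (hχ : IsIrrCharacter G χ) (h : χ z ^ 2 = χ 1 ^ 2) : χ 1 = 1 := by
  classical
  have hc := isCharacter_of_isIrr hχ
  obtain ⟨d, hd, hd1⟩ := exists_degree_pos hχ
  have hn := CfsgLib.CharNormal.charKer_normal hc
  set K := CfsgLib.CharNormal.charKer hc
  obtain ⟨n, ρ, hirr, hρ⟩ := hχ
  obtain ⟨ω, hω⟩ : ∃ ω : ℂ, ρ z = ω • LinearMap.id := by
    apply (norm_character_eq_iff ρ z).mp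
    rw [hρ]
    have hn' : (Module.finrank ℂ (Fin n → ℂ) : ℂ) = χ 1 := by rw [← hρ, Representation.char_one]
    rcases sq_eq_sq_iff_eq_or_eq_neg.mp h with h' | h' <;>
      rw [h', ← hn'] <;> simp
  have hcomm : ∀ g, z * g * z⁻¹ * g⁻¹ ∈ K := by
    intro g
    refine CfsgLib.CharNormal.mem_charKer.mpr ?_
    rw [← hρ, ρ.char_one]
    refine (character_eq_degree_iff ρ _).mpr ?_
    have h1 : ρ (z * g) = ρ (g * z) := by
      rw [map_mul, map_mul, hω, smul_mul_assoc, mul_smul_comm]
      rfl
    have h2 : z * g * z⁻¹ * g⁻¹ = z * g * (g * z)⁻¹ := by group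
    rw [h2, map_mul, h1, ← map_mul, mul_inv_cancel, map_one]
    rfl
  have htop : (Subgroup.center (G ⧸ K)).comap (QuotientGroup.mk' K) = ⊤ := by
    refine hN _ inferInstance ?_
    rw [Subgroup.mem_comap, Subgroup.mem_center_iff]
    intro q
    induction q using QuotientGroup.induction_on with
    | H g =>
      rw [← QuotientGroup.mk'_apply, ← map_mul, ← map_mul, eq_comm, ← mul_inv_eq_one, ← map_inv,
        ← map_mul, QuotientGroup.mk'_apply, QuotientGroup.eq_one_iff,
        show z * g * (g * z)⁻¹ = z * g * z⁻¹ * g⁻¹ by group]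
      exact hcomm g
  have : Fintype (G ⧸ K) := Fintype.ofFinite _
  have hab : ∀ a b : G ⧸ K, a * b = b * a := by
    intro a b
    induction a using QuotientGroup.induction_on with
    | H g =>
      have hg : g ∈ (Subgroup.center (G ⧸ K)).comap (QuotientGroup.mk' K) := htop ▸ Subgroup.mem_top g
      exact (Subgroup.mem_center_iff.mp (Subgroup.mem_comap.mp hg) b).symm
  obtain ⟨ψ, hψ, hψχ⟩ := CfsgLib.CharNormal.exists_eq_comp_mk' K hc fun _ hk => hk
  have hψi := (CfsgLib.CharNormal.isIrr_comp_mk'_iff _ hψ).mp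
    (hψχ.symm ▸ (⟨n, ρ, hirr, hρ⟩ : IsIrrCharacter G χ))
  refine (congrFun hψχ 1).symm.trans ?_
  rw [Function.comp_apply, QuotientGroup.mk_one]
  exact irr_one_eq_one_of_comm hab hψi

theorem map_ne_one_of_odd [Finite G] {z : G} (hz : orderOf z = 2) (N : Subgroup G) [N.Normal]
    (hN : Odd (Nat.card N)) : QuotientGroup.mk' N z ≠ 1 := by
  rw [QuotientGroup.mk'_apply, Ne, QuotientGroup.eq_one_iff]
  intro h
  have h2 : 2 ∣ Nat.card N := by rw [← hz, ← Subgroup.orderOf_mk z h]; exact orderOf_dvd_natCard _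
  exact (Nat.not_even_iff_odd.mpr hN) (even_iff_two_dvd.mpr h2)

/-- Factoring out a central subgroup of order two keeps the odd core trivial. -/
theorem oddCore_quotient_two [Finite G] (hO : oddCore G = ⊥) (N : Subgroup G) [N.Normal]
    (hN2 : Nat.card N = 2) (hNc : N ≤ Subgroup.center G) : oddCore (G ⧸ N) = ⊥ := by
  set π := QuotientGroup.mk' N with hπ
  set R := oddCore (G ⧸ N)
  have hRn : R.Normal := by
    have := CfsgLib.Cores.pPrimeCore_characteristic (G := G ⧸ N) 2
    infer_instance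
  set M := R.comap π with hM
  have hNM : N ≤ M := fun x hx => by
    rw [hM, Subgroup.mem_comap, hπ, QuotientGroup.mk'_apply, (QuotientGroup.eq_one_iff x).mpr hx]
    exact one_mem R
  have : (N.subgroupOf M).Normal := inferInstance
  have hodd : Odd (Nat.card R) := CfsgLib.Cores.odd_card_oddCore
  have hcardM : Nat.card M = 2 * Nat.card R := by
    rw [hM, ← hN2]
    exact CfsgLib.Solvable.card_comap_mk' N R
  have hidx : (N.subgroupOf M).index = Nat.card R := by
    have h := (N.subgroupOf M).card_mul_index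
    rw [Nat.card_congr (Subgroup.subgroupOfEquivOfLe hNM).toEquiv, hN2, hcardM] at h
    omega
  obtain ⟨H, hH⟩ := Subgroup.exists_left_complement'_of_coprime (N := N.subgroupOf M) (by
    rw [Nat.card_congr (Subgroup.subgroupOfEquivOfLe hNM).toEquiv, hN2, hidx]
    exact Nat.coprime_two_left.mpr hodd)
  have hHcard : Nat.card H = Nat.card R := by rw [← hidx, hH.index_eq_card]
  have hmem : ∀ x : M, x ∈ H ↔ Odd (orderOf x) := by
    intro x
    constructor
    · intro hx
      exact hodd.of_dvd_nat (hHcard ▸ Subgroup.orderOf_dvd_natCard H hx)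
    · intro hx
      obtain ⟨⟨h, c⟩, hhc⟩ := hH.2 x
      simp only at hhc
      have hcomm : Commute (h : M) (c : M) := by
        apply Subtype.ext
        exact Subgroup.mem_center_iff.mp (hNc (Subgroup.mem_subgroupOf.mp c.2)) _
      have hc2 : (c : M) ^ 2 = 1 := by
        apply Subtype.ext
        have h2 := Subgroup.orderOf_dvd_natCard N (Subgroup.mem_subgroupOf.mp c.2)
        rw [hN2] at h2
        simpa using orderOf_dvd_iff_pow_eq_one.mp h2
      have hc1 : (c : M) = 1 := by
        have ho : Odd (orderOf x * orderOf (h : M)) := hx.mul (hodd.of_dvd_nat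
          (hHcard ▸ Subgroup.orderOf_dvd_natCard H h.2))
        obtain ⟨k, hk⟩ := ho
        have h1 : (c : M) ^ (orderOf x * orderOf (h : M)) = 1 := by
          have h3 : x ^ (orderOf x * orderOf (h : M)) = 1 := by
            rw [pow_mul, pow_orderOf_eq_one, one_pow]
          rw [← hhc, hcomm.mul_pow] at h3
          rw [pow_mul' (h : M), pow_orderOf_eq_one, one_pow, one_mul] at h3
          rw [hhc] at h3
          exact h3
        rwa [hk, pow_succ, pow_mul, hc2, one_pow, one_mul] at h1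
      rw [← hhc, hc1, mul_one]
      exact h.2
  set K := H.map M.subtype with hK
  have hKn : K.Normal := ⟨fun k hk g => by
    obtain ⟨x, hx, rfl⟩ := Subgroup.mem_map.mp hk
    have hgx : g * (x : G) * g⁻¹ ∈ M := by
      have := Subgroup.Normal.comap hRn π
      exact this.conj_mem _ x.2 g
    refine Subgroup.mem_map.mpr ⟨⟨_, hgx⟩, (hmem _).mpr ?_, rfl⟩
    rw [Subgroup.orderOf_mk, orderOf_conj_eq, Subgroup.orderOf_coe]
    exact (hmem x).mp hx⟩
  have hKcard : Nat.card K = Nat.card R := by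
    rw [hK, Subgroup.card_map_of_injective M.subtype_injective, hHcard]
  have hKbot : K = ⊥ := by
    rw [eq_bot_iff, ← hO]
    exact CfsgLib.Cores.le_oddCore_of_odd (hKcard ▸ hodd)
  rw [hKbot, Subgroup.card_bot] at hKcard
  exact Subgroup.eq_bot_of_card_eq _ hKcard.symm

end CfsgLib.Invol
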