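import Mathlib
import Cfsg.Agent.Lib.Invol.Sylow
import Cfsg.Agent.Lib.Invol.Dihedral

/-!
# Involution classes with a Klein four Sylow 2-subgroup
-/

set_option autoImplicit false

namespace CfsgLib.Invol

variable {G : Type*} [Group G] [Finite G]

/-- The map from the involutions of `P` to the classes of involutions. -/
noncomputable def kleinClass (P : Sylow 2 G) (hP : IsKleinFour (P : Subgroup G)) :
    {a : (P : Subgroup G) // a ≠ 1} → {C : ConjClasses G // ∃ t : G, orderOf t = 2 ∧ ConjClasses.mk t = C} :=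
  fun a => ⟨ConjClasses.mk (a.1 : G), a.1, by
    haveI := hP
    refine orderOf_eq_prime ?_ fun h => a.2 (Subtype.ext h)
    rw [← Subgroup.coe_pow, pow_two, IsKleinFour.mul_self a.1, Subgroup.coe_one], rfl⟩

theorem kleinClass_surjective (P : Sylow 2 G) (hP : IsKleinFour (P : Subgroup G)) :
    Function.Surjective (kleinClass P hP) := by
  rintro ⟨C, t, ht, rfl⟩
  obtain ⟨a, ha⟩ := exists_mem_sylow_orderOf_two P ht
  refine ⟨⟨⟨a * t * a⁻¹, ha⟩, fun h => ?_⟩, ?_⟩
  · have : orderOf (a * t * a⁻¹) = 1 := by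
      rw [show a * t * a⁻¹ = 1 from congrArg Subtype.val h, orderOf_one]
    rw [orderOf_conj_eq, ht] at this; omega
  · exact Subtype.ext (ConjClasses.mk_eq_mk_iff_isConj.mpr (isConj_iff.mpr ⟨a, rfl⟩).symm)

theorem card_kleinFour_ne_one {V : Type*} [Group V] (hV : IsKleinFour V) :
    Nat.card {a : V // a ≠ 1} = 3 := by
  classical
  haveI := hV
  haveI : Finite V := Nat.finite_of_card_ne_zero (by rw [IsKleinFour.card_four]; norm_num)
  haveI := Fintype.ofFinite V
  rw [Nat.card_eq_fintype_card, Fintype.card_subtype_compl (fun a => a = 1), Fintype.card_subtype_eq,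
    ← Nat.card_eq_fintype_card, IsKleinFour.card_four]

theorem commute_of_kleinFour {H : Subgroup G} (hH : IsKleinFour H) {x y : G} (hx : x ∈ H) (hy : y ∈ H) :
    x * y = y * x := by
  haveI := hH
  have hm := fun u : H => IsKleinFour.mul_self u
  have hinv : ∀ u : H, u⁻¹ = u := fun u => inv_eq_of_mul_eq_one_left (hm u)
  have : (⟨x, hx⟩ : H) * ⟨y, hy⟩ = ⟨y, hy⟩ * ⟨x, hx⟩ := by
    calc (⟨x, hx⟩ : H) * ⟨y, hy⟩ = (⟨x, hx⟩ * ⟨y, hy⟩ : H)⁻¹ := (hinv _).symm
      _ = ⟨y, hy⟩ * ⟨x, hx⟩ := by rw [mul_inv_rev, hinv, hinv]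
  exact congrArg Subtype.val this

theorem card_classes_of_central (P : Sylow 2 G) (hP : IsKleinFour (P : Subgroup G))
    (hc : ∀ n ∈ Subgroup.normalizer ((P : Subgroup G) : Set G), ∀ a ∈ (P : Subgroup G), n * a = a * n) :
    Nat.card {C : ConjClasses G // ∃ t : G, orderOf t = 2 ∧ ConjClasses.mk t = C} = 3 := by
  haveI hcomm : IsMulCommutative (P : Subgroup G) :=
    ⟨⟨fun a b => Subtype.ext (commute_of_kleinFour hP a.2 b.2)⟩⟩
  rw [← card_kleinFour_ne_one hP]
  refine (Nat.card_congr (Equiv.ofBijective _ ⟨?_, kleinClass_surjective P hP⟩)).symm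
  intro a b hab
  obtain ⟨g, hg⟩ := isConj_iff.mp (ConjClasses.mk_eq_mk_iff_isConj.mp (congrArg Subtype.val hab))
  obtain ⟨n, hn, hne⟩ := Sylow.conj_eq_normalizer_conj_of_mem P (a.1 : G) g⁻¹ a.1.2 (by simpa [hg] using b.1.2)
  refine Subtype.ext (Subtype.ext ?_)
  have h1 : n⁻¹ * a.1 * n = (a.1 : G) := by
    rw [mul_assoc, ← hc n hn _ a.1.2, ← mul_assoc, inv_mul_cancel, one_mul]
  rw [h1, inv_inv, hg] at hne
  exact hne.symm

theorem card_classes_of_not_central (P : Sylow 2 G) (hP : IsKleinFour (P : Subgroup G))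
    (hc : ¬ ∀ n ∈ Subgroup.normalizer ((P : Subgroup G) : Set G), ∀ a ∈ (P : Subgroup G), n * a = a * n) :
    Nat.card {C : ConjClasses G // ∃ t : G, orderOf t = 2 ∧ ConjClasses.mk t = C} = 1 := by
  push Not at hc
  obtain ⟨n, hn, a, ha, hna⟩ := hc
  haveI := hP
  set N := Subgroup.normalizer ((P : Subgroup G) : Set G) with hN
  have hmem : ∀ x ∈ (P : Subgroup G), n * x * n⁻¹ ∈ (P : Subgroup G) := fun x hx =>
    (Subgroup.mem_normalizer_iff.mp hn x).mp hx
  -- a 2-power order element of the normalizer is in `P`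
  have h2el : ∀ u ∈ N, IsPGroup 2 (Subgroup.zpowers u) → u ∈ (P : Subgroup G) := by
    intro u hu h2
    have hsup := h2.to_sup_of_normal_right' P.2 (Subgroup.zpowers_le.mpr hu)
    exact (P.3 hsup le_sup_right) ▸ Subgroup.mem_sup_left (Subgroup.mem_zpowers u)
  -- no involution of `P` is fixed by `n`
  have hfree : ∀ c ∈ (P : Subgroup G), c ≠ 1 → n * c ≠ c * n := by
    intro c hc hc1 hfix
    have hfx : n * c * n⁻¹ = c := by rw [hfix, mul_inv_cancel_right]
    have ha1 : a ≠ 1 := by rintro rfl; simp at hna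
    have hac : a ≠ c := by rintro rfl; exact hna hfix
    let a' : (P : Subgroup G) := ⟨a, ha⟩
    let c' : (P : Subgroup G) := ⟨c, hc⟩
    let b' : (P : Subgroup G) := ⟨n * a * n⁻¹, hmem a ha⟩
    have hb : (b' : G) = a * c := by
      have hba : b' ≠ a' := fun h => hna (mul_inv_eq_iff_eq_mul.mp (congrArg Subtype.val h))
      have hb1 : b' ≠ 1 := fun h => ha1 (conj_eq_one_iff.mp (congrArg Subtype.val h))
      have hbc : b' ≠ c' := fun h => hac (mul_left_cancel (mul_right_cancel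
        ((congrArg Subtype.val h).trans hfx.symm)))
      exact congrArg Subtype.val (IsKleinFour.eq_mul_of_ne_all (x := a') (y := c') (z := b')
        (fun h => ha1 (congrArg Subtype.val h)) (fun h => hc1 (congrArg Subtype.val h))
        (fun h => hac (congrArg Subtype.val h)) hb1 hba hbc)
    -- `n²` centralizes `P`
    have hsq : n * (n * a * n⁻¹) * n⁻¹ = a := by
      show n * (b' : G) * n⁻¹ = a
      rw [hb, show n * (a * c) * n⁻¹ = (b' : G) * (n * c * n⁻¹) by show _ = n * a * n⁻¹ * _; group, hfx, hb,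
        mul_assoc, show c * c = 1 from congrArg Subtype.val (IsKleinFour.mul_self c'), mul_one]
    have heven : ∀ j : ℕ, n ^ (2 * j) * a * (n ^ (2 * j))⁻¹ = a := by
      intro j
      induction j with
      | zero => simp
      | succ j ih =>
        rw [Nat.mul_succ, pow_add, pow_two]
        calc n ^ (2 * j) * (n * n) * a * (n ^ (2 * j) * (n * n))⁻¹
            = n ^ (2 * j) * (n * (n * a * n⁻¹) * n⁻¹) * (n ^ (2 * j))⁻¹ := by group
          _ = a := by rw [hsq, ih]
    obtain ⟨l, m, hm, hlm⟩ := Nat.exists_eq_two_pow_mul_odd (orderOf_pos n).ne'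
    have hu : n ^ m ∈ (P : Subgroup G) := by
      refine h2el _ (pow_mem hn m) ?_
      obtain ⟨j, -, hj⟩ := (Nat.dvd_prime_pow Nat.prime_two).mp (orderOf_dvd_of_pow_eq_one
        (show (n ^ m) ^ 2 ^ l = 1 by rw [← pow_mul, mul_comm, ← hlm, pow_orderOf_eq_one]))
      exact IsPGroup.of_card (by rw [Nat.card_zpowers, hj])
    obtain ⟨j, rfl⟩ := hm
    apply hna
    have h1 := commute_of_kleinFour hP hu ha
    have h2 := heven j
    rw [mul_inv_eq_iff_eq_mul] at h2
    rw [pow_succ] at h1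
    apply mul_left_cancel (a := n ^ (2 * j))
    rw [← mul_assoc, h1, ← mul_assoc, ← mul_assoc, h2]
  refine Nat.card_eq_one_iff_unique.mpr ⟨⟨?_⟩, ⟨⟨ConjClasses.mk a, a, ?_, rfl⟩⟩⟩
  · intro X Y
    obtain ⟨⟨⟨x, hx⟩, hx1⟩, rfl⟩ := kleinClass_surjective P hP X
    obtain ⟨⟨⟨y, hy⟩, hy1⟩, rfl⟩ := kleinClass_surjective P hP Y
    apply Subtype.ext
    show ConjClasses.mk x = ConjClasses.mk y
    rw [ConjClasses.mk_eq_mk_iff_isConj]
    by_cases hxy : x = y
    · rw [hxy]
    have hx0 : x ≠ 1 := fun h => hx1 (Subtype.ext h)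
    have hy0 : y ≠ 1 := fun h => hy1 (Subtype.ext h)
    let x' : (P : Subgroup G) := ⟨x, hx⟩
    let x1 : (P : Subgroup G) := ⟨n * x * n⁻¹, hmem x hx⟩
    let x2 : (P : Subgroup G) := ⟨n * (n * x * n⁻¹) * n⁻¹, hmem _ (hmem x hx)⟩
    have e01 : x1 ≠ x' := fun h => hfree x hx hx0 (mul_inv_eq_iff_eq_mul.mp (congrArg Subtype.val h))
    have e1 : x1 ≠ 1 := fun h => hx0 (conj_eq_one_iff.mp (congrArg Subtype.val h))
    have e2 : x2 ≠ 1 := fun h => e1 (Subtype.ext (conj_eq_one_iff.mp (congrArg Subtype.val h)))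
    have e12 : x2 ≠ x1 := fun h =>
      e01 (Subtype.ext (mul_left_cancel (mul_right_cancel (congrArg Subtype.val h))))
    have e02 : x2 ≠ x' := by
      intro h
      -- otherwise the product of the two is fixed
      refine hfree (x * (n * x * n⁻¹)) (mul_mem hx (hmem x hx)) ?_ ?_
      · intro h1
        have h3 : x' * x1 = x' * x' := (Subtype.ext h1 : x' * x1 = 1).trans (IsKleinFour.mul_self x').symm
        exact e01 (mul_left_cancel h3)
      · rw [← mul_inv_eq_iff_eq_mul, show n * (x * (n * x * n⁻¹)) * n⁻¹ =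
          (n * x * n⁻¹) * (n * (n * x * n⁻¹) * n⁻¹) by group,
          show n * (n * x * n⁻¹) * n⁻¹ = x from congrArg Subtype.val h]
        exact commute_of_kleinFour hP (hmem x hx) hx
    have hx' : x' ≠ 1 := fun h => hx0 (congrArg Subtype.val h)
    have hx2' : x2 = x' * x1 := IsKleinFour.eq_mul_of_ne_all hx' e1 e01.symm e2 e02 e12
    by_cases hy1' : y = n * x * n⁻¹
    · exact isConj_iff.mpr ⟨n, hy1'.symm⟩
    have := IsKleinFour.eq_mul_of_ne_all (x := x') (y := x1) (z := (⟨y, hy⟩ : (P : Subgroup G))) hx' e1 e01.symm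
      (fun h => hy0 (congrArg Subtype.val h)) (fun h => hxy (congrArg Subtype.val h).symm)
      (fun h => hy1' (congrArg Subtype.val h))
    rw [← hx2'] at this
    refine isConj_iff.mpr ⟨n * n, ?_⟩
    rw [show y = n * (n * x * n⁻¹) * n⁻¹ from congrArg Subtype.val this]
    group
  · refine orderOf_eq_prime ?_ (by rintro rfl; simp at hna)
    rw [pow_two]
    exact congrArg Subtype.val (IsKleinFour.mul_self (⟨a, ha⟩ : (P : Subgroup G)))

end CfsgLib.Invol
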