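import Mathlib
import Cfsg.Agent.Lib.Invol.Dihedral
import Cfsg.Agent.Lib.Invol.Sylow

/-!
# Groups with a generalized quaternion Sylow 2-subgroup: elementary facts
-/

set_option autoImplicit false

namespace CfsgLib.Invol

variable {G : Type*} [Group G]

/-- Standard generators of a subgroup isomorphic to a generalized quaternion group. -/
theorem quaternion_gens (S : Subgroup G) (n : ℕ) (e : S ≃* QuaternionGroup (2 ^ (n + 1))) :
    ∃ x y : G, x ∈ S ∧ y ∈ S ∧ orderOf x = 2 ^ (n + 2) ∧ orderOf y = 4 ∧ y * x * y⁻¹ = x⁻¹ ∧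
      y * y = x ^ (2 ^ (n + 1)) ∧ ∀ s ∈ S, ∃ i : ℕ, s = x ^ i ∨ s = y * x ^ i := by
  set m := 2 ^ (n + 1) with hm
  have : NeZero m := ⟨by positivity⟩
  let f : QuaternionGroup m →* G := S.subtype.comp e.symm.toMonoidHom
  have hf : Function.Injective f := S.subtype_injective.comp e.symm.injective
  refine ⟨f (QuaternionGroup.a 1), f (QuaternionGroup.xa 0), (e.symm _).2, (e.symm _).2,
    ?_, ?_, ?_, ?_, ?_⟩
  · rw [orderOf_injective f hf, QuaternionGroup.orderOf_a_one, hm]
    ring
  · rw [orderOf_injective f hf, QuaternionGroup.orderOf_xa]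
  · rw [← map_inv, ← map_inv, ← map_mul, ← map_mul]
    congr 1
    rw [mul_inv_eq_iff_eq_mul, eq_inv_mul_iff_mul_eq, QuaternionGroup.xa_mul_a,
      QuaternionGroup.a_mul_xa]
    simp
  · rw [← map_mul, ← map_pow, QuaternionGroup.xa_mul_xa, QuaternionGroup.a_one_pow]
    simp
  · intro s hs
    rcases hq : e ⟨s, hs⟩ with i | i
    all_goals
      refine ⟨i.val, ?_⟩
      have hi : (e.symm (e ⟨s, hs⟩) : G) = s := by rw [e.symm_apply_apply]
      rw [hq] at hi
    · left
      rw [← map_pow, QuaternionGroup.a_one_pow, ZMod.natCast_zmod_val]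
      exact hi.symm
    · right
      rw [← map_pow, ← map_mul, QuaternionGroup.a_one_pow, QuaternionGroup.xa_mul_a, zero_add,
        ZMod.natCast_zmod_val]
      exact hi.symm

/-- A subgroup isomorphic to a generalized quaternion group has a unique involution. -/
theorem quaternion_unique {S : Subgroup G} {n : ℕ} {x y : G} (hox : orderOf x = 2 ^ (n + 2))
    (hoy : orderOf y = 4) (hyx : y * x * y⁻¹ = x⁻¹)
    (hS : ∀ s ∈ S, ∃ i : ℕ, s = x ^ i ∨ s = y * x ^ i) {s : G} (hs : s ∈ S) (hs2 : orderOf s = 2) :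
    s = x ^ (2 ^ (n + 1)) := by
  obtain ⟨i, rfl | rfl⟩ := hS s hs
  · have h1 : x ^ (i * 2) = 1 := by rw [pow_mul, sq, mul_self_of_orderOf_two hs2]
    have h2 : 2 ^ (n + 1) ∣ i := by
      have := orderOf_dvd_of_pow_eq_one h1
      rw [hox, pow_succ] at this
      exact Nat.dvd_of_mul_dvd_mul_right (by norm_num) this
    obtain ⟨j, rfl⟩ := h2
    rcases Nat.even_or_odd j with ⟨k, hk⟩ | ⟨k, hk⟩
    · exfalso
      have : x ^ (2 ^ (n + 1) * j) = 1 := by
        rw [← orderOf_dvd_iff_pow_eq_one, hox, hk]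
        exact ⟨k, by ring⟩
      rw [this, orderOf_one] at hs2
      omega
    · rw [hk, show 2 ^ (n + 1) * (2 * k + 1) = 2 ^ (n + 2) * k + 2 ^ (n + 1) by ring, pow_add,
        pow_mul, ← hox, pow_orderOf_eq_one, one_pow, one_mul]
  · exfalso
    have hyi : y * x ^ i * y⁻¹ = x⁻¹ ^ i := by rw [← hyx, conj_pow]
    have h : (y * x ^ i) * (y * x ^ i) = y * y := by
      calc (y * x ^ i) * (y * x ^ i) = (y * x ^ i * y⁻¹) * (y * y) * x ^ i := by group
        _ = y * y := by
          rw [hyi]
          have hc : Commute (y * y) (x ^ i) := by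
            apply Commute.pow_right
            show y * y * x = x * (y * y)
            apply mul_inv_eq_iff_eq_mul.mp
            rw [show y * y * x * (y * y)⁻¹ = y * (y * x * y⁻¹) * y⁻¹ by group, hyx,
              show y * x⁻¹ * y⁻¹ = (y * x * y⁻¹)⁻¹ by group, hyx, inv_inv]
          rw [mul_assoc, hc.eq, ← mul_assoc, inv_pow, inv_mul_cancel, one_mul]
    rw [mul_self_of_orderOf_two hs2] at h
    have : orderOf y ∣ 2 := orderOf_dvd_of_pow_eq_one (by rw [sq, ← h])
    rw [hoy] at this
    omega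

/-- If all involutions of a Sylow 2-subgroup are equal, then commuting involutions are equal. -/
theorem eq_of_commute_of_unique [Finite G] (S : Sylow 2 G) {z : G}
    (hu : ∀ s ∈ (S : Subgroup G), orderOf s = 2 → s = z) {a b : G} (ha : orderOf a = 2)
    (hb : orderOf b = 2) (hc : Commute a b) : a = b := by
  obtain ⟨Q, haQ, hbQ⟩ := exists_sylow_of_commute (mul_self_of_orderOf_two ha)
    (mul_self_of_orderOf_two hb) hc
  obtain ⟨h, hh⟩ := sylow_exists_conj S Q
  have hA := hu _ ((hh a).mp haQ) (by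
    have := orderOf_conj_eq h⁻¹ a
    rwa [inv_inv, ha] at this)
  have hB := hu _ ((hh b).mp hbQ) (by
    have := orderOf_conj_eq h⁻¹ b
    rwa [inv_inv, hb] at this)
  exact mul_left_cancel (mul_right_cancel (hA.trans hB.symm))

/-- A cyclic Sylow 2-subgroup is a retract, with kernel the elements of odd order. -/
theorem exists_retraction_of_cyclic_sylow_two [Finite G] (P : Sylow 2 G)
    (hP : IsCyclic (P : Subgroup G)) (heven : Even (Nat.card G)) :
    ∃ ψ : G →* (P : Subgroup G), (∀ p : (P : Subgroup G), ψ p = p) ∧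
      ∀ w, (ψ w = 1 ↔ Odd (orderOf w)) := by
  have hmin : (Nat.card G).minFac = 2 := (Nat.minFac_eq_two_iff _).mpr heven.two_dvd
  have hN := hP.normalizer_le_centralizer (P := P) hmin
  set φ := MonoidHom.transferSylow P hN with hφ
  obtain ⟨k, hk⟩ : ∃ k, Nat.card (P : Subgroup G) = 2 ^ k := P.2.exists_card_eq
  have hodd : Odd (P : Subgroup G).index := by
    rw [← Nat.not_even_iff_odd, even_iff_two_dvd]; exact P.not_dvd_index
  have hco : Nat.Coprime (P : Subgroup G).index (Nat.card (P : Subgroup G)) := by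
    rw [hk]; exact (Nat.coprime_two_right.mpr hodd).pow_right k
  obtain ⟨l, hl⟩ : ∃ l : ℕ, ∀ q : (P : Subgroup G), q ^ ((P : Subgroup G).index * l) = q := by
    rcases Nat.eq_or_lt_of_le (Nat.card_pos (α := (P : Subgroup G))) with h | h
    · have := (Nat.card_eq_one_iff_unique.mp h.symm).1
      exact ⟨1, fun q => Subsingleton.elim _ _⟩
    obtain ⟨l, hl⟩ := Nat.exists_mul_mod_eq_one_of_coprime hco h
    exact ⟨l, fun q => by rw [← pow_mod_natCard, hl.2, pow_one]⟩
  have hcomm : ∀ a b : (P : Subgroup G), Commute a b := fun a b =>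
    (hP.isMulCommutative).is_comm.comm a b
  refine ⟨{ toFun := fun g => (φ g) ^ l
            map_one' := by simp
            map_mul' := fun a b => by rw [map_mul, (hcomm (φ a) (φ b)).mul_pow] }, ?_, ?_⟩
  · intro p
    show (φ p) ^ l = p
    rw [hφ, MonoidHom.transferSylow_eq_pow P hN p p.2]
    refine Eq.trans ?_ (hl p)
    rw [pow_mul]
    rfl
  · intro w
    show (φ w) ^ l = 1 ↔ _
    constructor
    · intro h
      have h1 : w ∈ φ.ker := by
        rw [MonoidHom.mem_ker, ← hl (φ w), mul_comm, pow_mul, h, one_pow]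
      have h2 : orderOf w ∣ Nat.card φ.ker := by
        rw [← Subgroup.orderOf_mk w h1]
        exact orderOf_dvd_natCard _
      rw [← Nat.not_even_iff_odd, even_iff_two_dvd]
      exact fun h3 => MonoidHom.not_dvd_card_ker_transferSylow P hN (h3.trans h2)
    · intro hw
      rw [← orderOf_eq_one_iff]
      refine Nat.eq_one_of_dvd_coprimes ((Nat.coprime_two_right.mpr hw).pow_right k)
        ((orderOf_pow_dvd l).trans (orderOf_map_dvd φ w)) ?_
      rw [← hk]
      exact orderOf_dvd_natCard _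

end CfsgLib.Invol
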