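import Mathlib
import Cfsg.Agent.Lib.Invol.Quaternion
import Cfsg.Agent.Lib.Char.Induced
import Cfsg.Agent.Lib.Char.Generalized
import Cfsg.Agent.Lib.CharBlocks.ClassMul
import Cfsg.Agent.Lib.CharNormal.Kernel

/-!
# Brauer–Suzuki: quaternion Sylow 2-subgroups of order at least 16 (character theory only)
-/

set_option autoImplicit false

namespace CfsgLib.Invol

open CfsgLib.Char
open scoped ComplexConjugate

variable {G : Type*} [Group G]

/-- A generalized character of norm two with value `-1` at the identity is a difference of two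
irreducible characters. -/
theorem gen_norm_two_neg_one [Fintype G] {θ : G → ℂ} (h : Cfsg.IsGeneralizedCharacter G θ)
    (h2 : Cfsg.classInner θ θ = 2) (h0 : θ 1 = -1) :
    ∃ a b : Cfsg.IrrCharacter G, a ≠ b ∧ θ = (a : G → ℂ) - b := by
  classical
  obtain ⟨m, hm, -, hsq⟩ := gen_decomp h
  rw [h2] at hsq
  have hsq' : ∑ χ, m χ ^ 2 = 2 := by exact_mod_cast hsq.symm
  choose d hd0 hd using fun χ : Cfsg.IrrCharacter G => exists_degree_pos χ.2
  have hdeg : ∑ χ, m χ * (d χ : ℤ) = -1 := by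
    have h1 := congrFun hm 1
    simp only [Finset.sum_apply, Pi.smul_apply, smul_eq_mul, hd, h0] at h1
    exact_mod_cast h1.symm
  set T := Finset.univ.filter fun χ => m χ ≠ 0 with hT
  have hsum : ∑ χ ∈ T, m χ ^ 2 = 2 := by
    rw [hT, Finset.sum_filter_of_ne]
    · exact hsq'
    · intro χ _ hχ h'; exact hχ (by simp [h'])
  have hsumd : ∑ χ ∈ T, m χ * (d χ : ℤ) = -1 := by
    rw [hT, Finset.sum_filter_of_ne]
    · exact hdeg
    · intro χ _ hχ h'; exact hχ (by simp [h'])
  have hone : ∀ χ ∈ T, 1 ≤ m χ ^ 2 := fun χ hχ =>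
    (sq_pos_of_ne_zero (Finset.mem_filter.mp hχ).2)
  have hcard : T.card = 2 := by
    have hle : (T.card : ℤ) ≤ 2 := by
      have := Finset.sum_le_sum hone
      simp only [Finset.sum_const, nsmul_eq_mul, mul_one] at this
      linarith
    have hle' : T.card ≤ 2 := by exact_mod_cast hle
    rcases Nat.lt_or_ge T.card 2 with hlt | hge
    · exfalso
      interval_cases hc : T.card
      · rw [Finset.card_eq_zero.mp hc] at hsum; simp at hsum
      · obtain ⟨a, ha⟩ := Finset.card_eq_one.mp hc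
        rw [ha, Finset.sum_singleton] at hsum
        rcases Int.even_or_odd (m a) with ⟨k, hk⟩ | ⟨k, hk⟩
        · rw [hk, show (k + k) ^ 2 = 4 * k ^ 2 by ring] at hsum; omega
        · rw [hk, show (2 * k + 1) ^ 2 = 4 * (k ^ 2 + k) + 1 by ring] at hsum; omega
    · omega
  obtain ⟨a, b, hab, hTab⟩ := Finset.card_eq_two.mp hcard
  have ha := hone a (by simp [hTab])
  have hb := hone b (by simp [hTab])
  rw [hTab, Finset.sum_pair hab] at hsum hsumd
  have hsa : m a ^ 2 = 1 := by omega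
  have hsb : m b ^ 2 = 1 := by omega
  have hmap : θ = (m a : ℂ) • (a : G → ℂ) + (m b : ℂ) • (b : G → ℂ) := by
    rw [hm]
    refine Finset.sum_eq_add a b hab (fun c _ hc => ?_) (by simp) (by simp)
    have : c ∉ T := by simp [hTab, hc.1, hc.2]
    simp only [hT, Finset.mem_filter, Finset.mem_univ, true_and, not_not] at this
    simp [this]
  rcases sq_eq_one_iff.mp hsa with h1 | h1 <;> rcases sq_eq_one_iff.mp hsb with h1' | h1' <;>
    rw [h1, h1'] at hsumd hmap
  · have := hd0 a; omega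
  · exact ⟨a, b, hab, by rw [hmap]; simp [sub_eq_add_neg]⟩
  · exact ⟨b, a, hab.symm, by rw [hmap]; simp [sub_eq_add_neg, add_comm]⟩
  · have := hd0 a; have := hd0 b; omega

/-- The exceptional pair of irreducible characters. -/
theorem quat16_pair [Fintype G] (S : Sylow 2 G) (n : ℕ)
    (e : (S : Subgroup G) ≃* QuaternionGroup (2 ^ (n + 2))) :
    ∃ χ₁ χ₂ : G → ℂ, Cfsg.IsIrrCharacter G χ₁ ∧ Cfsg.IsIrrCharacter G χ₂ ∧
      χ₁ ≠ (fun _ => 1) ∧ χ₂ ≠ (fun _ => 1) ∧ χ₁ 1 = χ₂ 1 + 1 ∧
      ∀ g : G, ¬ 4 ∣ orderOf g → χ₁ g - χ₂ g = 1 := by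
  classical
  obtain ⟨x, y, hxS, hyS, hox, hoy, hyx, -, hS⟩ := quaternion_gens (S : Subgroup G) (n + 1) e
  obtain ⟨x0, hx0⟩ : ∃ x0, x0 = x ^ (2 ^ (n + 1)) := ⟨_, rfl⟩
  have hox' : orderOf x = 2 ^ (n + 1) * 4 := by rw [hox]; ring
  have ho0 : orderOf x0 = 4 := by
    rw [hx0, orderOf_pow' x (by positivity), hox', Nat.gcd_eq_right (dvd_mul_right _ _),
      Nat.mul_div_cancel_left _ (by positivity)]
  have hyx0 : y * x0 * y⁻¹ = x0⁻¹ := by rw [hx0, ← conj_pow, hyx, inv_pow]
  have hne : x0⁻¹ ≠ x0 := fun h => by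
    have h2 : orderOf x0 ∣ 2 := orderOf_dvd_of_pow_eq_one (by
      rw [sq]; exact (congrArg (· * x0) h).symm.trans (inv_mul_cancel x0))
    rw [ho0] at h2; omega
  set C := Subgroup.centralizer ({x0} : Set G) with hCdef
  have hmemC : ∀ c : G, c ∈ C ↔ c * x0 * c⁻¹ = x0 := fun c => by
    rw [hCdef, Subgroup.mem_centralizer_singleton_iff, mul_inv_eq_iff_eq_mul]
  have hxC : x ∈ C := by rw [hmemC, hx0, ← conj_pow, mul_inv_cancel_right]
  have hyC : y ∉ C := fun h => hne (hyx0.symm.trans ((hmemC y).mp h))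
  let xC : C := ⟨x, hxC⟩
  -- ⟨x⟩ is a Sylow 2-subgroup of C
  have hoxC : orderOf xC = 2 ^ (n + 3) := by rw [Subgroup.orderOf_mk, hox]
  have hP2 : IsPGroup 2 (Subgroup.zpowers xC) :=
    IsPGroup.of_card (n := n + 3) (by rw [Nat.card_zpowers, hoxC])
  obtain ⟨P, hP⟩ := hP2.exists_le_sylow
  have hcardS : Nat.card (S : Subgroup G) = 2 ^ (n + 4) := by
    have : NeZero (2 ^ (n + 2)) := ⟨by positivity⟩
    rw [Nat.card_congr e.toEquiv, Nat.card_eq_fintype_card, QuaternionGroup.card]
    ring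
  have hPx : (P : Subgroup C) = Subgroup.zpowers xC := by
    set T : Subgroup G := (P : Subgroup C).map C.subtype with hT
    obtain ⟨Q, hQ⟩ := (P.2.map C.subtype).exists_le_sylow
    have hcT : Nat.card T = Nat.card (P : Subgroup C) :=
      Subgroup.card_map_of_injective C.subtype_injective
    have hcQ : Nat.card (Q : Subgroup G) = 2 ^ (n + 4) := by
      rw [← hcardS, Q.card_eq_multiplicity, S.card_eq_multiplicity]
    obtain ⟨j, hj⟩ : ∃ j, Nat.card (P : Subgroup C) = 2 ^ j := P.2.exists_card_eq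
    have hjle : j ≤ n + 4 := (Nat.pow_dvd_pow_iff_le_right (x := 2) (by norm_num)).mp
      (hj ▸ hcT ▸ hcQ ▸ Subgroup.card_dvd_of_le hQ)
    have hjge : n + 3 ≤ j := (Nat.pow_dvd_pow_iff_le_right (x := 2) (by norm_num)).mp (by
      rw [← hj, ← hoxC, ← Nat.card_zpowers]; exact Subgroup.card_dvd_of_le hP)
    rcases Nat.lt_or_ge j (n + 4) with hlt | hge
    · exact (Subgroup.eq_of_le_of_card_ge hP (by
        rw [hj, Nat.card_zpowers, hoxC, show j = n + 3 by omega])).symm
    · exfalso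
      have hTQ : T = (Q : Subgroup G) := Subgroup.eq_of_le_of_card_ge hQ (by
        rw [hcT, hj, hcQ, show j = n + 4 by omega])
      obtain ⟨h, hh⟩ := sylow_exists_conj S Q
      have hcent : ∀ s ∈ (S : Subgroup G), Commute s (h⁻¹ * x0 * h) := by
        intro s hs
        have hs' : h * s * h⁻¹ ∈ (Q : Subgroup G) :=
          (hh _).mpr (by rwa [show h⁻¹ * (h * s * h⁻¹) * h = s by group])
        rw [← hTQ] at hs'
        obtain ⟨c, -, hc⟩ := Subgroup.mem_map.mp hs'
        have h1 := (hmemC _).mp c.2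
        rw [Subgroup.coe_subtype] at hc
        rw [hc] at h1
        show s * (h⁻¹ * x0 * h) = h⁻¹ * x0 * h * s
        calc s * (h⁻¹ * x0 * h) = h⁻¹ * ((h * s * h⁻¹) * x0 * (h * s * h⁻¹)⁻¹) * h * s := by group
          _ = h⁻¹ * x0 * h * s := by rw [h1]
      have hx0T : x0 ∈ T := Subgroup.mem_map.mpr
        ⟨xC ^ (2 ^ (n + 1)), hP (Subgroup.pow_mem _ (Subgroup.mem_zpowers xC) _), by simp [xC, hx0]⟩
      rw [hTQ] at hx0T
      have ho : orderOf (h⁻¹ * x0 * h) = 4 := by
        have := orderOf_conj_eq h⁻¹ x0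
        rwa [inv_inv, ho0] at this
      have hcy := hcent y hyS
      have hcx := hcent x hxS
      obtain ⟨i, hi | hi⟩ := hS _ ((hh x0).mp hx0T)
      · rw [hi] at hcy ho
        have h1 : y * x ^ i * y⁻¹ = x ^ i := by rw [hcy.eq, mul_inv_cancel_right]
        rw [← conj_pow, hyx, inv_pow] at h1
        have h2 : orderOf (x ^ i) ∣ 2 := orderOf_dvd_of_pow_eq_one (by
          rw [sq]; exact (congrArg (· * x ^ i) h1).symm.trans (inv_mul_cancel _))
        rw [ho] at h2; omega
      · rw [hi] at hcx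
        have h1 : y * x = x * y := by
          have h3 : x * y * x ^ i = y * x * x ^ i := by
            rw [mul_assoc x, hcx.eq, mul_assoc y, mul_assoc y, (Commute.pow_self x i).eq]
          exact (mul_right_cancel h3).symm
        have h4 : x⁻¹ = x := by rw [← hyx, h1, mul_inv_cancel_right]
        have h2 : orderOf x ∣ 2 := orderOf_dvd_of_pow_eq_one (by
          rw [sq]; exact (congrArg (· * x) h4).symm.trans (inv_mul_cancel x))
        rw [hox] at h2
        have := Nat.le_of_dvd (by norm_num) h2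
        have : 2 ^ 3 ≤ 2 ^ (n + 1 + 2) := Nat.pow_le_pow_right (by norm_num) (by omega)
        omega
  have hPc : IsCyclic (P : Subgroup C) := by rw [hPx]; infer_instance
  have heven : Even (Nat.card C) := even_iff_two_dvd.mpr
    ((dvd_pow_self 2 (by omega : n + 3 ≠ 0)).trans (hoxC ▸ orderOf_dvd_natCard xC))
  obtain ⟨ψ, hψP, hψ⟩ := exists_retraction_of_cyclic_sylow_two P hPc heven
  -- the linear character
  let gP : (P : Subgroup C) := ⟨xC, by rw [hPx]; exact Subgroup.mem_zpowers xC⟩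
  have hogP : orderOf gP = 2 ^ (n + 3) := by rw [Subgroup.orderOf_mk, hoxC]
  have hgen : ∀ q : (P : Subgroup C), q ∈ Subgroup.zpowers gP := by
    intro q
    have hq : (q : C) ∈ Subgroup.zpowers xC := hPx ▸ q.2
    obtain ⟨k, hk⟩ := Subgroup.mem_zpowers_iff.mp hq
    exact Subgroup.mem_zpowers_iff.mpr ⟨k, Subtype.ext (by simpa [gP] using hk)⟩
  have hζ := Complex.isPrimitiveRoot_exp (2 ^ (n + 2)) (by positivity)
  set u : ℂˣ := Units.mk0 _ (hζ.ne_zero (by positivity)) with hu
  have hou : orderOf u = 2 ^ (n + 2) := by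
    rw [← orderOf_units, hu, Units.val_mk0, ← hζ.eq_orderOf]
  have hdvd : orderOf u ∣ orderOf gP := by
    rw [hou, hogP]; exact pow_dvd_pow 2 (by omega)
  let μ : (P : Subgroup C) →* ℂˣ := monoidHomOfForallMemZpowers hgen hdvd
  let lam : C →* ℂ := (Units.coeHom ℂ).comp (μ.comp ψ)
  have hμ : μ gP = u := monoidHomOfForallMemZpowers_apply_gen hgen hdvd
  have hlam_x : lam xC = (u : ℂ) := by
    show ((μ (ψ xC) : ℂˣ) : ℂ) = _
    have := hψP gP
    simp only [gP] at this
    rw [this, hμ]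
  -- elements with nontrivial value
  have hT : ∀ c : C, lam c ≠ 1 → x0 ∈ Subgroup.zpowers (c : G) := by
    intro c hc
    obtain ⟨i, hi⟩ : ∃ i : ℕ, gP ^ i = ψ c :=
      mem_powers_iff_mem_zpowers.mpr (hgen (ψ c))
    have hi2 : ¬ 2 ^ (n + 2) ∣ i := fun h => hc (by
      show ((μ (ψ c) : ℂˣ) : ℂ) = 1
      rw [← hi, map_pow, hμ, orderOf_dvd_iff_pow_eq_one.mp (hou ▸ h), Units.val_one])
    -- some power of `c` maps onto the element of order four
    obtain ⟨k, hk⟩ : ∃ k : ℕ, (ψ c) ^ k = gP ^ (2 ^ (n + 1)) := by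
      obtain ⟨j, hj, hji⟩ := (Nat.dvd_prime_pow Nat.prime_two).mp (Nat.gcd_dvd_right i (2 ^ (n + 3)))
      have hjn : j ≤ n + 1 := by
        by_contra h
        exact hi2 ((pow_dvd_pow 2 (by omega : n + 2 ≤ j)).trans (hji ▸ Nat.gcd_dvd_left _ _))
      obtain ⟨k, hk⟩ := Nat.exists_mul_mod_eq_gcd (n := i) (k := 2 ^ (n + 3))
        (hji ▸ Nat.pow_lt_pow_right (by norm_num) (by omega : j < n + 3))
      refine ⟨k * 2 ^ (n + 1 - j), ?_⟩
      rw [← hi, ← pow_mul, ← mul_assoc, pow_mul,
        ← pow_mod_orderOf gP (i * k), hogP, hk.2, hji, ← pow_mul, ← pow_add,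
        show j + (n + 1 - j) = n + 1 by omega]
    set w : C := c ^ k * (xC ^ (2 ^ (n + 1)))⁻¹ with hw
    have hψw : ψ w = 1 := by
      rw [hw, map_mul, map_pow, map_inv, map_pow, hk]
      have := hψP gP
      simp only [gP] at this
      rw [this, mul_inv_cancel]
    have hwodd := (hψ w).mp hψw
    have hcomm : Commute w (xC ^ (2 ^ (n + 1))) := by
      apply Subtype.ext
      have h1 := Subgroup.mem_centralizer_singleton_iff.mp w.2
      simpa [xC, hx0] using h1
    have hck : (c : C) ^ k = w * xC ^ (2 ^ (n + 1)) := by rw [hw, inv_mul_cancel_right]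
    have h1 : ((c : G)) ^ (k * orderOf w) = x0 ^ orderOf w := by
      have := congrArg (fun t : C => ((t ^ orderOf w : C) : G)) hck
      simp only [← pow_mul, hcomm.mul_pow, pow_orderOf_eq_one, one_mul, SubmonoidClass.coe_pow] at this
      rw [this, hx0, ← pow_mul]
    have h2 : x0 ^ orderOf w ∈ Subgroup.zpowers (c : G) :=
      h1 ▸ Subgroup.pow_mem _ (Subgroup.mem_zpowers _) _
    obtain ⟨j, hj⟩ := hwodd
    have h3 : x0 = (x0 ^ orderOf w) ^ (orderOf w) := by
      rw [← pow_mul, ← pow_mod_orderOf, ho0, hj,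
        show (2 * j + 1) * (2 * j + 1) = 4 * (j * j + j) + 1 by ring,
        Nat.mul_add_mod, pow_one]
    rw [h3]
    exact Subgroup.pow_mem _ h2 _
  have hyC' : ∀ c : C, y * c * y⁻¹ ∈ C := by
    intro c
    rw [hmemC, show y * (c : G) * y⁻¹ * x0 * (y * c * y⁻¹)⁻¹ = y * (c * (y⁻¹ * x0 * y) * (c : G)⁻¹) * y⁻¹ by group]
    have h1 : y⁻¹ * x0 * y = x0⁻¹ := by
      calc y⁻¹ * x0 * y = y⁻¹ * (y * x0 * y⁻¹)⁻¹ * y := by rw [hyx0, inv_inv]
        _ = x0⁻¹ := by group
    rw [h1, ← conj_inv, (hmemC c).mp c.2, show y * x0⁻¹ * y⁻¹ = (y * x0 * y⁻¹)⁻¹ by group, hyx0,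
      inv_inv]
  let τ : C →* C :=
    { toFun := fun c => ⟨y * c * y⁻¹, hyC' c⟩
      map_one' := by ext; simp
      map_mul' := fun a b => by ext; simp [mul_assoc] }
  have hlamτ : ∀ c : C, lam (τ c) * lam c = 1 := by
    intro c
    obtain ⟨i, hi⟩ : ∃ i : ℕ, gP ^ i = ψ c := mem_powers_iff_mem_zpowers.mpr (hgen (ψ c))
    set w : C := c * (xC ^ i)⁻¹ with hw
    have hψw : ψ w = 1 := by
      rw [hw, map_mul, map_inv, map_pow, ← hi]
      have := hψP gP
      simp only [gP] at this
      rw [this, mul_inv_cancel]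
    have hψτw : ψ (τ w) = 1 := (hψ _).mpr (((hψ w).mp hψw).of_dvd_nat (orderOf_map_dvd τ w))
    have hτx : τ xC = xC⁻¹ := Subtype.ext (by simpa [τ, xC] using hyx)
    have hc : c = w * xC ^ i := by rw [hw, inv_mul_cancel_right]
    have hlw : lam w = 1 := by simp [lam, hψw]
    have hltw : lam (τ w) = 1 := by simp [lam, hψτw]
    rw [hc, map_mul τ, map_pow, hτx, map_mul, map_mul lam, hlw, hltw, one_mul, one_mul,
      ← map_mul, inv_pow, inv_mul_cancel, map_one]
  -- the class function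
  set f : C → ℂ := fun c => 1 - lam c with hf
  have hfgen : Cfsg.IsGeneralizedCharacter C f :=
    isGen_sub isGen_one (isGen_of_irr (isIrrCharacter_hom lam))
  set Θ := Cfsg.indFun C f with hΘdef
  have hΘgen : Cfsg.IsGeneralizedCharacter G Θ := isGen_indFun C hfgen
  have hΘcf : Cfsg.IsClassFunction G Θ := isClassFunction_indFun C f
  have hΘ1 : Θ 1 = 0 := by rw [hΘdef, indFun_one]; simp [hf]
  have hsupp : ∀ g : G, ∀ (hg : g ∈ C), f ⟨g, hg⟩ ≠ 0 → x0 ∈ Subgroup.zpowers g := fun g hg h =>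
    hT ⟨g, hg⟩ fun h' => h (by simp [hf, h'])
  have hΘ0 : ∀ g : G, ¬ 4 ∣ orderOf g → Θ g = 0 := by
    intro g hg
    refine indFun_eq_zero_of_forall C fun a ha => ?_
    by_contra h
    obtain ⟨k, hk⟩ := Subgroup.mem_zpowers_iff.mp (hsupp _ ha h)
    apply hg
    have h1 : orderOf (a⁻¹ * g * a) = orderOf g := by
      have := orderOf_conj_eq a⁻¹ g
      rwa [inv_inv] at this
    rw [← h1, ← ho0, ← hk]
    exact orderOf_dvd_of_mem_zpowers ⟨k, rfl⟩
  have hΘc : ∀ c : C, lam c ≠ 1 → Θ c = 2 - lam c - lam c⁻¹ := by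
    intro c hc
    have hc0 := hT c hc
    set F : G → ℂ := fun a => Cfsg.extendByZero C f (a⁻¹ * c * a) with hF
    have hkey : ∀ a, F a ≠ 0 → a ∈ C ∨ y⁻¹ * a ∈ C := by
      intro a ha
      have hm : a⁻¹ * c * a ∈ C := by
        by_contra hm; exact ha (extendByZero_of_notMem _ hm)
      have h0 := hsupp _ hm (by simpa [hF, extendByZero_of_mem _ hm] using ha)
      obtain ⟨k, hk⟩ := Subgroup.mem_zpowers_iff.mp h0
      have h1 : a * x0 * a⁻¹ ∈ Subgroup.zpowers (c : G) := ⟨k, by
        show (c : G) ^ k = _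
        rw [← hk, ← conj_zpow, show a * (a⁻¹ * (c : G) * a) * a⁻¹ = c by group]⟩
      have h2 : a * x0 * a⁻¹ ∈ Subgroup.zpowers x0 := by
        have hc4 : Nat.card (Subgroup.zpowers x0) = 4 := by rw [Nat.card_zpowers, ho0]
        have hsub : ∀ t ∈ Subgroup.zpowers (c : G), t ^ 4 = 1 → t ∈ Subgroup.zpowers x0 := by
          intro t ht ht4
          have hK : IsCyclic (Subgroup.zpowers (c : G)) := inferInstance
          let s : Subgroup (Subgroup.zpowers (c : G)) := Subgroup.zpowers ⟨x0, hc0⟩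
          have hcard : Nat.card s = 4 := by rw [Nat.card_zpowers, Subgroup.orderOf_mk, ho0]
          have := IsCyclic.card_pow_eq_one_le (α := Subgroup.zpowers (c : G)) (n := 4) (by norm_num)
          have hin : (⟨t, ht⟩ : Subgroup.zpowers (c : G)) ∈ s := by
            by_contra hnot
            have hsubset : insert (⟨t, ht⟩ : Subgroup.zpowers (c : G))
                (Finset.univ.filter (· ∈ s)) ⊆
                Finset.univ.filter (fun q : Subgroup.zpowers (c : G) => q ^ 4 = 1) := by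
              intro q hq
              rcases Finset.mem_insert.mp hq with rfl | hq
              · simp only [Finset.mem_filter, Finset.mem_univ, true_and]
                ext
                simpa using ht4
              · simp only [Finset.mem_filter, Finset.mem_univ, true_and] at hq ⊢
                have := Subgroup.orderOf_dvd_natCard s hq
                rw [hcard] at this
                exact orderOf_dvd_iff_pow_eq_one.mp this
            have h5 := Finset.card_le_card hsubset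
            rw [Finset.card_insert_of_notMem (by simpa using hnot),
              ← Fintype.card_subtype, ← Nat.card_eq_fintype_card] at h5
            have : Nat.card {q // q ∈ s} = 4 := hcard
            omega
          obtain ⟨j, hj⟩ := Subgroup.mem_zpowers_iff.mp hin
          exact ⟨j, by simpa using congrArg Subtype.val hj⟩
        refine hsub _ h1 ?_
        rw [conj_pow, ← ho0, pow_orderOf_eq_one, mul_one, mul_inv_cancel]
      obtain ⟨j, hj⟩ := Subgroup.mem_zpowers_iff.mp h2
      have hoj : orderOf (a * x0 * a⁻¹) = 4 := (orderOf_conj_eq a x0).trans ho0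
      have hj4 : x0 ^ (j % 4) = a * x0 * a⁻¹ := by
        rw [← hj, show (4 : ℤ) = ((orderOf x0 : ℕ) : ℤ) by rw [ho0]; rfl, zpow_mod_orderOf]
      have hr : j % 4 = 0 ∨ j % 4 = 1 ∨ j % 4 = 2 ∨ j % 4 = 3 := by omega
      have hx4 : x0 ^ (4 : ℕ) = 1 := ho0 ▸ pow_orderOf_eq_one x0
      rcases hr with hr | hr | hr | hr <;> rw [hr] at hj4
      · rw [zpow_zero] at hj4; rw [← hj4, orderOf_one] at hoj; omega
      · rw [zpow_one] at hj4; exact Or.inl ((hmemC a).mpr hj4.symm)
      · exfalso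
        have : (a * x0 * a⁻¹) ^ 2 = 1 := by rw [← hj4, ← zpow_natCast, ← zpow_mul]; norm_cast
        have := orderOf_dvd_of_pow_eq_one this
        rw [hoj] at this; omega
      · right
        have h3 : x0 ^ (3 : ℤ) = x0⁻¹ := by
          rw [eq_inv_iff_mul_eq_one, ← zpow_add_one]; norm_num; exact_mod_cast hx4
        rw [hmemC, show y⁻¹ * a * x0 * (y⁻¹ * a)⁻¹ = y⁻¹ * (a * x0 * a⁻¹) * y by group, ← hj4, h3,
          ← hyx0]
        group
    have hsplit : ∀ a, F a = (if a ∈ C then f c else 0) +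
        (if y⁻¹ * a ∈ C then (1 - lam c⁻¹) else 0) := by
      intro a
      by_cases h1 : a ∈ C
      · have h2 : y⁻¹ * a ∉ C := fun h2 => hyC (by
          have := C.mul_mem h1 (C.inv_mem h2)
          simpa [mul_assoc] using this)
        rw [if_pos h1, if_neg h2, add_zero, hF]
        have := extendByZero_conj_mem f (isClassFunction_of_isGen hfgen) (C.inv_mem h1) (c : G)
        rw [inv_inv, extendByZero_coe] at this
        exact this
      · rw [if_neg h1, zero_add]
        by_cases h2 : y⁻¹ * a ∈ C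
        · rw [if_pos h2]
          have hb : y⁻¹ * c * y ∈ C := by
            rw [hmemC, show y⁻¹ * (c : G) * y * x0 * (y⁻¹ * c * y)⁻¹ =
              y⁻¹ * (c * (y * x0 * y⁻¹) * (c : G)⁻¹) * y by group, hyx0, ← conj_inv, (hmemC c).mp c.2,
              ← hyx0]
            group
          set d : C := ⟨y⁻¹ * c * y, hb⟩ with hd
          have hτd : τ d = c := Subtype.ext (by simp [τ, hd, mul_assoc])
          have hld : lam d = lam c⁻¹ := by
            have := hlamτ d
            rw [hτd] at this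
            have h5 : lam c⁻¹ * lam c = 1 := by rw [← map_mul, inv_mul_cancel, map_one]
            exact mul_left_cancel₀ (left_ne_zero_of_mul_eq_one this) (this.trans (by rw [mul_comm]; exact h5.symm))
          show Cfsg.extendByZero C f (a⁻¹ * c * a) = _
          have := extendByZero_conj_mem f (isClassFunction_of_isGen hfgen) (C.inv_mem h2) (d : G)
          rw [extendByZero_coe, show (y⁻¹ * a)⁻¹ * (d : G) * (y⁻¹ * a)⁻¹⁻¹ = a⁻¹ * c * a by
            rw [hd]; group] at this
          rw [this, hf, ← hld]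
        · rw [if_neg h2]
          by_contra hFa
          exact (hkey a hFa).elim h1 h2
    rw [hΘdef, indFun_apply]
    show (Nat.card C : ℂ)⁻¹ * ∑ a : G, F a = _
    rw [Finset.sum_congr rfl fun a _ => hsplit a, Finset.sum_add_distrib]
    have hfC : ∀ v : ℂ, ∑ a : G, (if a ∈ C then v else 0) = (Nat.card C : ℂ) * v := fun v => by
      rw [Finset.sum_ite, Finset.sum_const_zero, add_zero, Finset.sum_const, nsmul_eq_mul,
        ← Fintype.card_subtype, ← Nat.card_eq_fintype_card]
    rw [hfC]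
    have e2 : ∑ a : G, (if y⁻¹ * a ∈ C then (1 - lam c⁻¹) else 0) =
        ∑ a : G, (if a ∈ C then (1 - lam c⁻¹) else 0) :=
      Fintype.sum_equiv (Equiv.mulLeft y⁻¹) _ _ fun a => rfl
    rw [e2, hfC, ← mul_add, inv_mul_cancel_left₀ (card_subgroup_ne_zero C), hf]
    ring
  have hlam1 : lam ≠ 1 := fun h => by
    have h1 := hlam_x
    rw [h, MonoidHom.one_apply] at h1
    have : u = 1 := Units.ext h1.symm
    rw [this, orderOf_one] at hou
    have := Nat.one_lt_two_pow (n := n + 2) (by omega)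
    omega
  have hlam2 : lam * lam ≠ 1 := fun h => by
    have h1 : lam xC * lam xC = 1 := by rw [← MonoidHom.mul_apply, h, MonoidHom.one_apply]
    rw [hlam_x] at h1
    have h2 : u ^ 2 = 1 := Units.ext (by rw [sq]; simpa using h1)
    have h3 := Nat.le_of_dvd (by norm_num) (hou ▸ orderOf_dvd_of_pow_eq_one h2)
    have : 2 ^ 2 ≤ 2 ^ (n + 2) := Nat.pow_le_pow_right (by norm_num) (by omega)
    omega
  have hsum1 : ∑ c : C, lam c = 0 := sum_hom_units_eq_zero lam hlam1
  have hsum2 : ∑ c : C, lam c * lam c = 0 := sum_hom_units_eq_zero (lam * lam) hlam2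
  have hsum3 : ∑ c : C, lam c⁻¹ = 0 :=
    (Fintype.sum_equiv (Equiv.inv C) _ _ fun c => rfl).trans hsum1
  have hΘΘ : Cfsg.classInner Θ Θ = 3 := by
    rw [hΘdef, frobenius_reciprocity C f hΘcf, classInner_def]
    have hterm : ∀ c : C, f c * conj (Θ (c : G)) =
        3 - lam c⁻¹ - 3 * lam c + lam c * lam c := by
      intro c
      have hinv : lam c * lam c⁻¹ = 1 := by rw [← map_mul, mul_inv_cancel, map_one]
      by_cases hc : lam c = 1
      · have hc' : lam c⁻¹ = 1 := by rwa [hc, one_mul] at hinv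
        simp [hf, hc, hc']
      · have hc' : lam c⁻¹ ≠ 1 := fun h => hc (by rwa [h, mul_one] at hinv)
        rw [← gen_inv hΘgen, ← Subgroup.coe_inv, hΘc _ hc', inv_inv, hf]
        linear_combination hinv
    rw [Finset.sum_congr rfl fun c _ => hterm c, Finset.sum_add_distrib, Finset.sum_sub_distrib,
      Finset.sum_sub_distrib, hsum2, hsum3, ← Finset.mul_sum, hsum1, Finset.sum_const,
      Finset.card_univ, nsmul_eq_mul, ← Nat.card_eq_fintype_card]
    rw [sub_zero, mul_zero, sub_zero, add_zero, ← mul_assoc, inv_mul_cancel₀ card_ne_zero', one_mul]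
  have hΘone : Cfsg.classInner Θ (fun _ => 1) = 1 := by
    rw [hΘdef, frobenius_reciprocity C f (isClassFunction_of_isGen isGen_one), classInner_one_right,
      hf, Finset.sum_sub_distrib, hsum1, sub_zero, Finset.sum_const, Finset.card_univ,
      nsmul_eq_mul, mul_one, ← Nat.card_eq_fintype_card, inv_mul_cancel₀ card_ne_zero']
  set θ : G → ℂ := Θ - (fun _ => 1) with hθ
  have hone : Cfsg.classInner (fun _ : G => (1 : ℂ)) (fun _ => 1) = 1 :=
    classInner_irr_self isIrrCharacter_one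
  have hθ1 : Cfsg.classInner θ (fun _ => 1) = 0 := by
    rw [hθ, classInner_sub_left, hΘone, hone, sub_self]
  have hθθ : Cfsg.classInner θ θ = 2 := by
    rw [hθ, classInner_sub_left, classInner_sub_right, classInner_sub_right, hΘΘ, hΘone,
      ← classInner_conj_symm Θ, hΘone, hone]
    simp; norm_num
  obtain ⟨a, b, hab, heq⟩ := gen_norm_two_neg_one (θ := θ) (isGen_sub hΘgen isGen_one) hθθ (by simp [hθ, hΘ1])
  have hab' : (a : G → ℂ) ≠ (b : G → ℂ) := fun h => hab (Subtype.ext h)
  have ha1 : (a : G → ℂ) ≠ fun _ => 1 := fun h => by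
    have h1 := hθ1
    rw [heq, classInner_sub_left, ← h, classInner_irr_self a.2,
      classInner_irr_ne b.2 a.2 hab'.symm, sub_zero] at h1
    exact one_ne_zero h1
  have hb1 : (b : G → ℂ) ≠ fun _ => 1 := fun h => by
    have h1 := hθ1
    rw [heq, classInner_sub_left, ← h, classInner_irr_self b.2,
      classInner_irr_ne a.2 b.2 hab', zero_sub, neg_eq_zero] at h1
    exact one_ne_zero h1
  refine ⟨b, a, b.2, a.2, hb1, ha1, ?_, ?_⟩
  · have h1 := congrFun heq 1
    simp [hθ, hΘ1] at h1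
    linear_combination h1
  · intro g hg
    have h1 := congrFun heq g
    simp [hθ, hΘ0 g hg] at h1
    linear_combination h1

/-- A group with quaternion Sylow 2-subgroup of order at least 16 has an irreducible nontrivial
character with the involutions of the Sylow subgroup in its kernel. -/
theorem quat16_kernel [Fintype G] (S : Sylow 2 G) (n : ℕ)
    (e : (S : Subgroup G) ≃* QuaternionGroup (2 ^ (n + 2))) {z : G} (hz : orderOf z = 2)
    (hzS : z ∈ (S : Subgroup G)) :
    ∃ χ : G → ℂ, Cfsg.IsIrrCharacter G χ ∧ χ ≠ (fun _ => 1) ∧ χ 1 ≠ 1 ∧ χ z = χ 1 := by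
  obtain ⟨x, y, -, -, hox, hoy, hyx, -, hS⟩ := quaternion_gens (S : Subgroup G) (n + 1) e
  have hu : ∀ s ∈ (S : Subgroup G), orderOf s = 2 → s = z := fun s hs hs2 =>
    (quaternion_unique hox hoy hyx hS hs hs2).trans (quaternion_unique hox hoy hyx hS hzS hz).symm
  obtain ⟨χ₁, χ₂, h1, h2, hne, -, hdeg, hrel⟩ := quat16_pair S n e
  refine ⟨χ₁, h1, hne, fun h => irr_one_ne_zero h2 (by linear_combination h - hdeg), ?_⟩
  have hz4 : ¬ 4 ∣ orderOf z := by rw [hz]; norm_num
  have hodd : ∀ g : G, ¬ 4 ∣ orderOf (g * z * g⁻¹ * z) := by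
    intro g h4
    have hy : orderOf (g * z * g⁻¹) = 2 := (orderOf_conj_eq g z).trans hz
    have hev : Even (orderOf (g * z * g⁻¹ * z)) :=
      even_iff_two_dvd.mpr ((by norm_num : 2 ∣ 4).trans h4)
    obtain ⟨ho, hc, hne'⟩ := mul_half_facts hy hz (ne_of_even hev hy) hev
    exact hne' (eq_of_commute_of_unique S hu hy ho hc).symm
  have hd := hdeg
  have hzz := hrel z hz4
  have hsum : ∑ g : G, χ₁ (g * z * g⁻¹ * z) - ∑ g : G, χ₂ (g * z * g⁻¹ * z) = (Nat.card G : ℂ) := by
    rw [← Finset.sum_sub_distrib, Finset.sum_congr rfl fun g _ => hrel _ (hodd g), Finset.sum_const,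
      Finset.card_univ, nsmul_eq_mul, mul_one, ← Nat.card_eq_fintype_card]
  have e1 := CfsgLib.CharBlocks.sum_conj_mul h1 z z
  have e2 := CfsgLib.CharBlocks.sum_conj_mul h2 z z
  have hG : (Nat.card G : ℂ) ≠ 0 := card_ne_zero'
  have key : χ₂ 1 * (χ₁ z * χ₁ z) - χ₁ 1 * (χ₂ z * χ₂ z) = χ₁ 1 * χ₂ 1 := by
    refine mul_left_cancel₀ hG ?_
    linear_combination χ₁ 1 * χ₂ 1 * hsum - χ₂ 1 * e1 + χ₁ 1 * e2
  have hw : (χ₁ z - χ₁ 1) ^ 2 = 0 := by
    linear_combination (norm := skip) (-1 : ℂ) * key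
    rw [show χ₁ z = χ₂ z + 1 by linear_combination hzz, hd]
    ring
  exact sub_eq_zero.mp (pow_eq_zero_iff (two_ne_zero) |>.mp hw)

end CfsgLib.Invol
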