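import Mathlib
import Cfsg.Agent.Lib.Invol.ZStarBasic
import Cfsg.Agent.Lib.Blocks.Orth
import Cfsg.Agent.Lib.CharBlocks.ClassMul
import Cfsg.Agent.S1182

/-!
# Z*-theorem: the case of a second involution in the centralizer (block theory)
-/

set_option autoImplicit false

namespace CfsgLib.Invol

open Cfsg CfsgLib.Char
open scoped ComplexConjugate

/-- Constancy of principal 2-block characters on `u * O(C(u))`. -/
def ConstTwo (G : Type*) [Group G] [Finite G] : Prop :=
  ∀ (M : Ideal AlgInt), IsPModular 2 M → ∀ u v : G, (∃ k : ℕ, orderOf u = 2 ^ k) →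
    v ∈ centralizerPPrimeCore 2 u → ∀ χ ∈ principalBlock M G,
      ((χ : IrrCharacter G) : G → ℂ) (u * v) = ((χ : IrrCharacter G) : G → ℂ) u

variable {G : Type*} [Group G]

/-- For every character of the principal block `χ 1 * χ (z * t) = χ z * χ t`. -/
theorem block_identity [Fintype G] (hC : ConstTwo G) {M : Ideal AlgInt} (hM : IsPModular 2 M)
    {z : G} (hz : IsIsolatedInvolution z)
    (hcent : ∀ c : G, orderOf c = 2 → c ∈ Subgroup.center G → c = z)
    (hsub : ∀ H : Subgroup G, H ≠ ⊤ → z ∈ H → ∀ h ∈ H, ∃ N : Subgroup G, N ≤ H ∧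
      Odd (Nat.card N) ∧ (∀ c ∈ H, ∀ k ∈ N, c * k * c⁻¹ ∈ N) ∧ z * h * z⁻¹ * h⁻¹ ∈ N)
    {t : G} (ht : orderOf t = 2) (htz : Commute t z) (hne : t ≠ z)
    {χ : IrrCharacter G} (hχ : χ ∈ principalBlock M G) :
    (χ : G → ℂ) 1 * (χ : G → ℂ) (z * t) = (χ : G → ℂ) z * (χ : G → ℂ) t := by
  have hcf := isClassFunction_of_isIrr χ.2
  have key : ∀ g : G, (χ : G → ℂ) (g * t * g⁻¹ * z) = (χ : G → ℂ) (z * t) := by
    intro g
    set y := g * t * g⁻¹ with hy'
    have hy : orderOf y = 2 := (orderOf_conj_eq g t).trans ht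
    have hnc : ¬ IsConj z y := by
      intro h
      obtain ⟨c, hc⟩ := isConj_iff.mp h
      have h1 : (g⁻¹ * c) * z * (g⁻¹ * c)⁻¹ = t := by
        rw [show (g⁻¹ * c) * z * (g⁻¹ * c)⁻¹ = g⁻¹ * (c * z * c⁻¹) * g by group, hc, hy']
        group
      exact hne (h1.symm.trans (hz.2 _ (h1.symm ▸ htz.symm)))
    have hev := even_of_not_isConj hz.1 hy hnc
    have hzy : z ≠ y := fun h => hnc (h ▸ IsConj.refl z)
    obtain ⟨ho, hcomm, hne'⟩ := mul_half_facts hz.1 hy hzy hev
    have h4 : ¬ 4 ∣ orderOf (z * y) := by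
      intro h4
      obtain ⟨d, -, hd⟩ := conj_half_of_four_dvd hz.1 hy h4
      rw [← hd] at hcomm hne'
      exact hne' (hz.2 d hcomm)
    obtain ⟨d, -, hd⟩ := conj_half_of_not_four_dvd hz.1 hy hev h4
    set w := z * y with hw
    obtain ⟨m, hm⟩ : ∃ m, orderOf w = m + m := id hev
    have hmodd : Odd m := by
      rcases Nat.even_or_odd m with ⟨j, hj⟩ | h
      · exact absurd ⟨j, by omega⟩ h4
      · exact h
    have hm2 : orderOf w / 2 = m := by omega
    rw [hm2] at hd ho hcomm hne'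
    set u := w ^ m with hu
    have hou : orderOf u = 2 := by rw [hu, ← hm2]; exact orderOf_half hev
    have huz : Commute u z := by rw [hu, ← hm2]; exact commute_half_left hz.1 hy hev
    -- `z * u` is conjugate to `t` inside `C(z)`
    obtain ⟨c, -, hcz, hct⟩ := Cfsg.Agent.S1182.result z hz ⊤
      (Subgroup.mem_normalizer_iff.mpr fun h => by simp) t (z * u) (Subgroup.mem_top _)
      (Subgroup.mem_top _) htz ((Commute.refl z).mul_left huz) (d * g) (Subgroup.mem_top _)
      (by rw [← hd, hy']; group)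
    have hzu : c * (z * t) * c⁻¹ = u := by
      calc c * (z * t) * c⁻¹ = (c * z * c⁻¹) * (c * t * c⁻¹) := by group
        _ = u := by
          rw [hct, show c * z * c⁻¹ = z by rw [hcz.eq, mul_inv_cancel_right], ← mul_assoc,
            mul_self_of_orderOf_two hz.1, one_mul]
    have hune : u ≠ z := by
      intro h
      rw [h, mul_self_of_orderOf_two hz.1, orderOf_one] at ho
      omega
    have hCne : Subgroup.centralizer ({u} : Set G) ≠ ⊤ := by
      intro h
      refine hune (hcent u hou (Subgroup.mem_center_iff.mpr fun k => ?_))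
      have hk : k ∈ Subgroup.centralizer ({u} : Set G) := h ▸ Subgroup.mem_top k
      exact Subgroup.mem_centralizer_singleton_iff.mp hk
    set v := w ^ (m + 1) with hv
    have hvu : u * v = w := by
      rw [hu, hv, ← pow_add, show m + (m + 1) = orderOf w + 1 by omega, pow_succ, pow_orderOf_eq_one,
        one_mul]
    have hvC : v ∈ Subgroup.centralizer ({u} : Set G) :=
      Subgroup.mem_centralizer_singleton_iff.mpr (Commute.pow_pow (Commute.refl w) _ _).eq
    obtain ⟨j, hj⟩ := hmodd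
    have hvodd : v ^ m = 1 := by
      rw [hv, ← pow_mul, show (m + 1) * m = orderOf w * (j + 1) by rw [hm, hj]; ring, pow_mul,
        pow_orderOf_eq_one, one_pow]
    obtain ⟨N, hNC, hNodd, hNn, hvN⟩ :=
      hsub _ hCne (Subgroup.mem_centralizer_singleton_iff.mpr huz.symm.eq) v hvC
    have hzv : z * v * z⁻¹ * v⁻¹ = (v * v)⁻¹ := by
      have h1 : z * v * z⁻¹ = v⁻¹ := by
        have h2 := mul_zpow_comm hz.1 hy (-((m + 1 : ℕ) : ℤ))
        rw [neg_neg, zpow_neg, zpow_natCast, ← hw, ← hv] at h2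
        rw [← h2, mul_inv_cancel_right]
      rw [h1, ← mul_inv_rev]
    rw [hzv, inv_mem_iff] at hvN
    have hvN' : v ∈ N := by
      have h2 := pow_mem hvN (j + 1)
      rwa [← sq, ← pow_mul, show 2 * (j + 1) = m + 1 by omega, pow_succ, hvodd, one_mul] at h2
    have hcore : v ∈ centralizerPPrimeCore 2 u :=
      le_centralizerPPrimeCore hNC hNodd hNn hvN'
    have h5 := hC M hM u v ⟨1, by rw [hou, pow_one]⟩ hcore χ hχ
    rw [hvu] at h5
    rw [← hcf (g * t * g⁻¹ * z) z, show z * (g * t * g⁻¹ * z) * z⁻¹ = w by rw [hw, hy']; group, h5,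
      ← hzu, hcf]
  have h := CfsgLib.CharBlocks.sum_conj_mul χ.2 t z
  rw [Finset.sum_congr rfl fun g _ => key g, Finset.sum_const, Finset.card_univ, nsmul_eq_mul,
    ← Nat.card_eq_fintype_card] at h
  refine mul_left_cancel₀ (card_ne_zero' (G := G)) ?_
  linear_combination h

/-- Case A of the Z*-theorem. -/
theorem no_second_involution [Fintype G] (hC : ConstTwo G) {z : G} (hz : IsIsolatedInvolution z)
    (hN : ∀ N : Subgroup G, N.Normal → z ∈ N → N = ⊤)
    (hcent : ∀ c : G, orderOf c = 2 → c ∈ Subgroup.center G → c = z)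
    (hsub : ∀ H : Subgroup G, H ≠ ⊤ → z ∈ H → ∀ h ∈ H, ∃ N : Subgroup G, N ≤ H ∧
      Odd (Nat.card N) ∧ (∀ c ∈ H, ∀ k ∈ N, c * k * c⁻¹ ∈ N) ∧ z * h * z⁻¹ * h⁻¹ ∈ N)
    {t : G} (ht : orderOf t = 2) (htz : Commute t z) : t = z := by
  classical
  by_contra hne
  obtain ⟨M, hM⟩ := exists_isPModular 2 Nat.prime_two
  have := hM.2.1
  have hB : IsPBlock M (principalBlock M G) := by
    rw [CfsgLib.Blocks.principalBlock_eq]; exact CfsgLib.Blocks.isPBlock_blockOf _
  have h1B : (irrOne : IrrCharacter G) ∈ principalBlock M G := by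
    rw [CfsgLib.Blocks.principalBlock_eq]; exact CfsgLib.Blocks.mem_blockOf_self _
  have hzz := mul_self_of_orderOf_two hz.1
  -- partners
  have hpart : ∀ s : G, orderOf s = 2 → Commute s z → s ≠ z →
      orderOf (z * s) = 2 ∧ Commute (z * s) z ∧ z * s ≠ z := by
    intro s hs hsz hsne
    refine ⟨orderOf_eq_prime ?_ ?_, (Commute.refl z).mul_left hsz, fun h => ?_⟩
    · rw [hsz.symm.mul_pow, sq, sq, hzz, mul_self_of_orderOf_two hs, one_mul]
    · intro h
      exact hsne (by rw [eq_inv_of_mul_eq_one_right h, inv_eq_of_orderOf_two hz.1])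
    · exact ne_one_of_orderOf_two hs (mul_eq_left.mp h)
  have hlin : ∀ s : G, orderOf s = 2 → Commute s z → s ≠ z → ∀ χ ∈ principalBlock M G,
      ((χ : IrrCharacter G) : G → ℂ) s ≠ 0 → ((χ : IrrCharacter G) : G → ℂ) 1 = 1 := by
    intro s hs hsz hsne χ hχ hs0
    refine linear_of_sq_eq hN χ.2 (mul_right_cancel₀ hs0 ?_)
    have e1 := block_identity hC hM hz hcent hsub hs hsz hsne hχ
    obtain ⟨h1, h2, h3⟩ := hpart s hs hsz hsne
    have e2 := block_identity hC hM hz hcent hsub h1 h2 h3 hχ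
    rw [← mul_assoc, hzz, one_mul] at e2
    linear_combination -(χ : G → ℂ) z * e1 - (χ : G → ℂ) 1 * e2
  -- linear characters trivial at z are trivial
  have htriv : ∀ f : G →* ℂ, f z = 1 → ∀ g, f g = 1 := by
    intro f hf g
    have := hN f.ker inferInstance hf
    exact (this ▸ Subgroup.mem_top g : g ∈ f.ker)
  have hlinval : ∀ χ : IrrCharacter G, (χ : G → ℂ) 1 = 1 → ∀ s : G, orderOf s = 2 →
      (χ : G → ℂ) s = 1 ∨ (χ : G → ℂ) s = -1 := by
    intro χ h1 s hs
    have h2 : (χ : G → ℂ) s * (χ : G → ℂ) s = 1 := by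
      rw [← linear_map_mul (isCharacter_of_isIrr χ.2) h1, mul_self_of_orderOf_two hs, h1]
    exact mul_self_eq_one_iff.mp h2
  obtain ⟨s, hs, hsz, hsne, hgood⟩ : ∃ s : G, orderOf s = 2 ∧ Commute s z ∧ s ≠ z ∧
      ∀ χ : IrrCharacter G, (χ : G → ℂ) 1 = 1 → (χ : G → ℂ) s = 1 := by
    by_cases hall : ∀ χ : IrrCharacter G, (χ : G → ℂ) 1 = 1 → (χ : G → ℂ) t = 1
    · exact ⟨t, ht, htz, hne, hall⟩
    · push Not at hall
      obtain ⟨ε, hε1, hεt⟩ := hall
      obtain ⟨h1, h2, h3⟩ := hpart t ht htz hne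
      refine ⟨z * t, h1, h2, h3, fun χ hχ1 => ?_⟩
      have hεm := linear_map_mul (isCharacter_of_isIrr ε.2) hε1
      have hχm := linear_map_mul (isCharacter_of_isIrr χ.2) hχ1
      rw [hχm]
      have hεz : (ε : G → ℂ) z = -1 := (hlinval ε hε1 z hz.1).resolve_left fun h =>
        hεt (htriv ⟨⟨(ε : G → ℂ), hε1⟩, hεm⟩ h t)
      rcases hlinval χ hχ1 z hz.1 with hχz | hχz
      · rw [hχz, one_mul]
        exact htriv ⟨⟨(χ : G → ℂ), hχ1⟩, hχm⟩ hχz t
      · let f : G →* ℂ := ⟨⟨(ε : G → ℂ), hε1⟩, hεm⟩ * ⟨⟨(χ : G → ℂ), hχ1⟩, hχm⟩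
        have h6 : (ε : G → ℂ) t * (χ : G → ℂ) t = 1 :=
          htriv f (by show (ε : G → ℂ) z * (χ : G → ℂ) z = 1; rw [hεz, hχz]; norm_num) t
        have hεt' : (ε : G → ℂ) t = -1 := (hlinval ε hε1 t ht).resolve_left hεt
        rw [hεt'] at h6
        rw [hχz]
        linear_combination h6
  have hterm : ∀ η : IrrCharacter G,
      (if η ∈ principalBlock M G then (η : G → ℂ) 1 * conj ((η : G → ℂ) s) else 0) =
        if η ∈ principalBlock M G ∧ (η : G → ℂ) s ≠ 0 then 1 else 0 := by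
    intro η
    by_cases hη : η ∈ principalBlock M G
    · by_cases h0 : (η : G → ℂ) s = 0
      · simp [hη, h0]
      · have h1 := hlin s hs hsz hsne η hη h0
        simp [hη, h1, hgood η h1]
    · simp [hη]
  have h0 := CfsgLib.Blocks.weak_orthogonality hM hB (x := 1) (y := s)
    (by rw [orderOf_one]; norm_num) (by rw [hs])
  rw [Finset.sum_congr rfl fun η _ => hterm η, Finset.sum_boole] at h0
  have hne0 : (Finset.univ.filter fun η : IrrCharacter G =>
      η ∈ principalBlock M G ∧ (η : G → ℂ) s ≠ 0).Nonempty :=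
    ⟨irrOne, by simpa [irrOne] using h1B⟩
  exact hne0.card_pos.ne' (by exact_mod_cast h0)

end CfsgLib.Invol
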