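import Mathlib

/-!
# Arithmetic for the quaternion case of the Z*-theorem
-/

set_option autoImplicit false

namespace CfsgLib.Invol

theorem q8_arith_pos {d1 d2 w1 w2 : ℤ} (h1 : 0 < d1) (h2 : 0 < d2)
    (h : w1 ^ 2 * d2 * (d1 + d2 + 1) + w2 ^ 2 * d1 * (d1 + d2 + 1) - (w1 + w2) ^ 2 * d1 * d2 = 0) :
    w1 = 0 := by
  have e : (w1 * d2 - w2 * d1) ^ 2 + w1 ^ 2 * d2 + w2 ^ 2 * d1 = 0 := by linear_combination h
  by_contra hne
  have := sq_pos_of_ne_zero hne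
  nlinarith [sq_nonneg (w1 * d2 - w2 * d1), sq_nonneg w2, mul_pos this h2,
    mul_nonneg (sq_nonneg w2) h1.le]

theorem cast4_odd {v : ℤ} (h : v % 2 = 1) : (v : ZMod 4) = 1 ∨ (v : ZMod 4) = 3 := by
  rw [← ZMod.intCast_mod v 4]
  have : v % (4 : ℕ) = 1 ∨ v % (4 : ℕ) = 3 := by omega
  rcases this with h | h <;> rw [h] <;> decide

theorem cast4_even {v : ℤ} (h : v % 2 = 0) : (v : ZMod 4) = 0 ∨ (v : ZMod 4) = 2 := by
  rw [← ZMod.intCast_mod v 4]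
  have : v % (4 : ℕ) = 0 ∨ v % (4 : ℕ) = 2 := by omega
  rcases this with h | h <;> rw [h] <;> decide

theorem q8_mod4_11 : ∀ a b : ZMod 4, (a = 1 ∨ a = 3) → (b = 1 ∨ b = 3) →
    (a * 1 - b * 1) ^ 2 ≠ a ^ 2 * 1 + b ^ 2 * 1 := by decide

theorem q8_mod4_13 : ∀ a b : ZMod 4, (a = 1 ∨ a = 3) → (b = 0 ∨ b = 2) →
    (a * 3 - b * 1) ^ 2 ≠ a ^ 2 * 3 + b ^ 2 * 1 := by decide

theorem q8_mod4_33 : ∀ a b : ZMod 4, (a * 3 - b * 3) ^ 2 = a ^ 2 * 3 + b ^ 2 * 3 →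
    (a = 0 ∨ a = 2) ∧ (b = 0 ∨ b = 2) := by decide

theorem cast4_of_mod {d : ℤ} {r : ℤ} (h : d % 4 = r) : (d : ZMod 4) = (r : ZMod 4) := by
  rw [← h]
  exact (ZMod.intCast_mod d 4).symm

theorem q8_descent {e f : ℤ} (he : e % 4 = 3) (hf : f % 4 = 3) :
    ∀ (n : ℕ) (a b : ℤ), a.natAbs + b.natAbs = n →
      (a * f - b * e) ^ 2 = a ^ 2 * f + b ^ 2 * e → a = 0 := by
  intro n
  induction n using Nat.strong_induction_on with
  | _ n ih =>
    intro a b hn h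
    by_contra ha
    have h' : ((a : ZMod 4) * 3 - (b : ZMod 4) * 3) ^ 2 = (a : ZMod 4) ^ 2 * 3 + (b : ZMod 4) ^ 2 * 3 := by
      have := congrArg (Int.cast : ℤ → ZMod 4) h
      push_cast at this
      rw [cast4_of_mod he, cast4_of_mod hf] at this
      exact_mod_cast this
    obtain ⟨hA, hB⟩ := q8_mod4_33 _ _ h'
    have ha2 : a % 2 = 0 := by
      rcases Int.emod_two_eq_zero_or_one a with h0 | h1
      · exact h0
      · rcases cast4_odd h1 with h2 | h2 <;> rw [h2] at hA <;> exact absurd hA (by decide)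
    have hb2 : b % 2 = 0 := by
      rcases Int.emod_two_eq_zero_or_one b with h0 | h1
      · exact h0
      · rcases cast4_odd h1 with h2 | h2 <;> rw [h2] at hB <;> exact absurd hB (by decide)
    obtain ⟨a', rfl⟩ : (2 : ℤ) ∣ a := by omega
    obtain ⟨b', rfl⟩ : (2 : ℤ) ∣ b := by omega
    have := ih _ (by omega : a'.natAbs + b'.natAbs < n) a' b' rfl
      (mul_left_cancel₀ (by norm_num : (4 : ℤ) ≠ 0) (by linear_combination h))
    omega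

theorem q8_arith_neg {d1 d2 w1 w2 : ℤ} (h1 : (8 : ℤ) ∣ w1 + 2 * d1 - 6) (h1' : (4 : ℤ) ∣ w1)
    (h2 : (8 : ℤ) ∣ w2 + 2 * d2 - 6) (h2' : (4 : ℤ) ∣ w2)
    (h : w1 ^ 2 * d2 * (d1 + d2 - 1) + w2 ^ 2 * d1 * (d1 + d2 - 1) - (w1 + w2) ^ 2 * d1 * d2 = 0) :
    w1 = 0 := by
  obtain ⟨a, rfl⟩ := h1'
  obtain ⟨b, rfl⟩ := h2'
  have e : (a * d2 - b * d1) ^ 2 = a ^ 2 * d2 + b ^ 2 * d1 :=
    mul_left_cancel₀ (by norm_num : (16 : ℤ) ≠ 0) (by linear_combination h)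
  have he := congrArg (Int.cast : ℤ → ZMod 4) e
  push_cast at he
  have hd1 : d1 % 4 = 1 ∨ d1 % 4 = 3 := by omega
  have hd2 : d2 % 4 = 1 ∨ d2 % 4 = 3 := by omega
  rcases hd1 with hd1 | hd1 <;> rcases hd2 with hd2 | hd2 <;>
    rw [cast4_of_mod hd1, cast4_of_mod hd2] at he <;> push_cast at he
  · exact absurd he (q8_mod4_11 _ _ (cast4_odd (by omega)) (cast4_odd (by omega)))
  · exact absurd he (q8_mod4_13 _ _ (cast4_odd (by omega)) (cast4_even (by omega)))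
  · refine absurd ?_ (q8_mod4_13 _ _ (cast4_odd (by omega : b % 2 = 1)) (cast4_even (by omega : a % 2 = 0)))
    linear_combination he
  · rw [q8_descent hd1 hd2 _ a b rfl e, mul_zero]

end CfsgLib.Invol
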