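import Mathlib
import Cfsg.Agent.Lib.Invol.Dihedral

/-!
# Elementary facts on subgroups isomorphic to the quaternion group of order 8
-/

set_option autoImplicit false

namespace CfsgLib.Invol

theorem q8_pow_four : ∀ q : QuaternionGroup 2, q ^ 4 = 1 := by decide

theorem q8_sq_eq_one : ∀ q : QuaternionGroup 2, q ^ 2 = 1 → q = 1 ∨ q = QuaternionGroup.a 2 := by
  decide

theorem q8_central : ∀ q : QuaternionGroup 2, (∀ r, r * q = q * r) → q ^ 2 = 1 := by decide

theorem q8_inverted : ∀ q : QuaternionGroup 2, ∃ r, r * q * r⁻¹ = q⁻¹ := by decide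

theorem q8_sq : ∀ q : QuaternionGroup 2, q ^ 2 ≠ 1 →
    ∃ r s, r * s * r⁻¹ * s⁻¹ = q ^ 2 := by decide

variable {G : Type*} [Group G]

theorem q8_card {S : Subgroup G} (e : S ≃* QuaternionGroup 2) : Nat.card S = 8 := by
  rw [Nat.card_congr e.toEquiv, Nat.card_eq_fintype_card, QuaternionGroup.card]

theorem q8_order_cases {S : Subgroup G} (e : S ≃* QuaternionGroup 2) {z : G} (hz : orderOf z = 2)
    (hzS : z ∈ S) {s : G} (hs : s ∈ S) : s = 1 ∨ s = z ∨ (orderOf s = 4 ∧ s ^ 2 = z) := by
  have hu : ∀ t ∈ S, t ^ 2 = 1 → t = 1 ∨ t = z := by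
    intro t ht ht2
    have h1 : e ⟨z, hzS⟩ = QuaternionGroup.a 2 := by
      refine (q8_sq_eq_one _ ?_).resolve_left ?_
      · rw [← map_pow, map_eq_one_iff e e.injective]
        exact Subtype.ext (hz ▸ pow_orderOf_eq_one z)
      · rw [map_eq_one_iff e e.injective]
        exact fun h => ne_one_of_orderOf_two hz (congrArg Subtype.val h)
    rcases q8_sq_eq_one (e ⟨t, ht⟩) (by
      rw [← map_pow, map_eq_one_iff e e.injective]; exact Subtype.ext ht2) with h | h
    · exact Or.inl (congrArg Subtype.val ((map_eq_one_iff e e.injective).mp h))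
    · exact Or.inr (congrArg Subtype.val (e.injective (h.trans h1.symm)))
  have h4 : s ^ 4 = 1 := by
    have := q8_pow_four (e ⟨s, hs⟩)
    rw [← map_pow, map_eq_one_iff e e.injective] at this
    exact congrArg Subtype.val this
  by_cases h2 : s ^ 2 = 1
  · rcases hu s hs h2 with h | h
    · exact Or.inl h
    · exact Or.inr (Or.inl h)
  · refine Or.inr (Or.inr ⟨orderOf_eq_prime_pow (p := 2) (n := 1) (by simpa using h2)
      (by simpa using h4), ?_⟩)
    exact (hu _ (pow_mem hs 2) (by rw [← pow_mul]; exact h4)).resolve_left h2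

end CfsgLib.Invol
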