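import Mathlib
import Cfsg.Agent.Lib.Invol.Q8Facts

/-!
# Fusion in a perfect group with a quaternion Sylow 2-subgroup of order 8
-/

set_option autoImplicit false

namespace CfsgLib.Invol

variable {G : Type*} [Group G]

theorem q8_fused [Finite G] (hperf : commutator G = ⊤) (S : Sylow 2 G)
    (e : (S : Subgroup G) ≃* QuaternionGroup 2) {a b : G} (ha : a ∈ (S : Subgroup G))
    (hb : b ∈ (S : Subgroup G)) (hoa : orderOf a = 4) (hob : orderOf b = 4) : IsConj a b := by
  classical
  obtain ⟨z, hzS, hz⟩ : ∃ z ∈ (S : Subgroup G), orderOf z = 2 :=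
    ⟨a ^ 2, pow_mem ha 2, by rw [orderOf_pow' a two_ne_zero, hoa]; rfl⟩
  have hcases := fun {s : G} (hs : s ∈ (S : Subgroup G)) => q8_order_cases e hz hzS hs
  have hsq : ∀ s ∈ (S : Subgroup G), orderOf s = 4 → s ^ 2 = z := by
    intro s hs hs4
    rcases hcases hs with h | h | h
    · rw [h, orderOf_one] at hs4; omega
    · rw [h, hz] at hs4; omega
    · exact h.2
  -- an element and its inverse
  have hinv : ∀ s ∈ (S : Subgroup G), IsConj s s⁻¹ := by
    intro s hs
    obtain ⟨r, hr⟩ := q8_inverted (e ⟨s, hs⟩)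
    refine isConj_iff.mpr ⟨(e.symm r : (S : Subgroup G)), ?_⟩
    have := congrArg (fun q => ((e.symm q : (S : Subgroup G)) : G)) hr
    simpa using this
  have hmemz : ∀ s ∈ (S : Subgroup G), orderOf s = 4 →
      ∀ t : G, t ∈ Subgroup.zpowers s → orderOf t = 4 → t = s ∨ t = s⁻¹ := by
    intro s hs hs4 t ht ht4
    obtain ⟨j, hj⟩ := Subgroup.mem_zpowers_iff.mp ht
    have hjm : s ^ (j % 4) = t := by
      rw [← hj, show (4 : ℤ) = ((orderOf s : ℕ) : ℤ) by rw [hs4]; rfl, zpow_mod_orderOf]
    have hx4 : s ^ (4 : ℕ) = 1 := hs4 ▸ pow_orderOf_eq_one s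
    have hr : j % 4 = 0 ∨ j % 4 = 1 ∨ j % 4 = 2 ∨ j % 4 = 3 := by omega
    rcases hr with hr | hr | hr | hr <;> rw [hr] at hjm
    · rw [zpow_zero] at hjm; rw [← hjm, orderOf_one] at ht4; omega
    · rw [zpow_one] at hjm; exact Or.inl hjm.symm
    · exfalso
      have : t ^ 2 = 1 := by rw [← hjm, ← zpow_natCast, ← zpow_mul]; norm_cast
      have := orderOf_dvd_of_pow_eq_one this
      rw [ht4] at this; omega
    · right
      rw [← hjm, eq_inv_iff_mul_eq_one, ← zpow_add_one]; norm_num; exact_mod_cast hx4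
  have hclass : ∀ s ∈ (S : Subgroup G), orderOf s = 4 →
      ∀ t : G, t ∈ Subgroup.zpowers s → orderOf t = 4 → IsConj s t := by
    intro s hs hs4 t ht ht4
    rcases hmemz s hs hs4 t ht ht4 with rfl | rfl
    · exact IsConj.refl _
    · exact hinv s hs
  -- every cyclic subgroup of order four is left by some conjugation
  have hleave : ∀ c ∈ (S : Subgroup G), orderOf c = 4 →
      ∃ u ∈ (S : Subgroup G), u ∉ Subgroup.zpowers c ∧ IsConj c u := by
    intro c hc hc4
    by_contra hno
    push Not at hno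
    have hcle : Subgroup.zpowers c ≤ (S : Subgroup G) := Subgroup.zpowers_le.mpr hc
    set K := (Subgroup.zpowers c).subgroupOf (S : Subgroup G) with hK
    have hKi : K.index = 2 := by
      have h := K.card_mul_index
      rw [hK] at h ⊢
      rw [Nat.card_congr (Subgroup.subgroupOfEquivOfLe hcle).toEquiv, Nat.card_zpowers, hc4,
        q8_card e] at h
      omega
    have hstay : ∀ u ∈ (S : Subgroup G), ∀ v ∈ (S : Subgroup G), IsConj u v →
        u ∈ Subgroup.zpowers c → v ∈ Subgroup.zpowers c := by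
      intro u hu v hv huv huc
      obtain ⟨g, hg⟩ := isConj_iff.mp huv
      rcases hcases hu with h | h | h
      · rw [h] at hg; simp at hg; rw [← hg]; exact one_mem _
      · have hov : orderOf v = 2 := by rw [← hg, orderOf_conj_eq, h, hz]
        rcases hcases hv with h' | h' | h'
        · rw [h', orderOf_one] at hov; omega
        · rw [h', ← h]; exact huc
        · omega
      · by_contra hvc
        exact hno v hv hvc ((hclass c hc hc4 u huc h.1).trans huv)
    have hfoc : (S : Subgroup G).focalSubgroup ≤ Subgroup.zpowers c := by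
      rw [Subgroup.focalSubgroup_def, Subgroup.closure_le]
      rintro _ ⟨hmem, x, hx, w, rfl⟩
      rw [commutatorElement_def] at hmem ⊢
      have hv : w * x⁻¹ * w⁻¹ ∈ (S : Subgroup G) := by
        have := mul_mem (inv_mem hx) hmem
        rwa [show x⁻¹ * (x * w * x⁻¹ * w⁻¹) = w * x⁻¹ * w⁻¹ by group] at this
      have hconj : IsConj x⁻¹ (w * x⁻¹ * w⁻¹) := isConj_iff.mpr ⟨w, rfl⟩
      have hiff : x ∈ Subgroup.zpowers c ↔ w * x⁻¹ * w⁻¹ ∈ Subgroup.zpowers c :=
        ⟨fun h => hstay _ (inv_mem hx) _ hv hconj (inv_mem h),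
          fun h => inv_mem_iff.mp (hstay _ hv _ (inv_mem hx) hconj.symm h)⟩
      have h2 := (Subgroup.mul_mem_iff_of_index_two hKi (a := (⟨x, hx⟩ : (S : Subgroup G)))
        (b := ⟨_, hv⟩)).mpr (by simpa [hK, Subgroup.mem_subgroupOf] using hiff)
      rw [show x * w * x⁻¹ * w⁻¹ = x * (w * x⁻¹ * w⁻¹) by group]
      simpa [hK, Subgroup.mem_subgroupOf] using h2
    have h1 := Subgroup.commutator_inf_eq_focalSubgroup S
    rw [hperf, top_inf_eq] at h1
    have h8 := Subgroup.card_le_of_le (h1.le.trans hfoc)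
    rw [q8_card e, Nat.card_zpowers, hc4] at h8
    omega
  have hidx : ∀ c ∈ (S : Subgroup G), orderOf c = 4 → ∀ u ∈ (S : Subgroup G),
      ∀ v ∈ (S : Subgroup G), u ∉ Subgroup.zpowers c → v ∉ Subgroup.zpowers c →
      u * v ∈ Subgroup.zpowers c := by
    intro c hc hc4 u hu v hv huc hvc
    have hcle : Subgroup.zpowers c ≤ (S : Subgroup G) := Subgroup.zpowers_le.mpr hc
    have hKi : ((Subgroup.zpowers c).subgroupOf (S : Subgroup G)).index = 2 := by
      have h := ((Subgroup.zpowers c).subgroupOf (S : Subgroup G)).card_mul_index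
      rw [Nat.card_congr (Subgroup.subgroupOfEquivOfLe hcle).toEquiv, Nat.card_zpowers, hc4,
        q8_card e] at h
      omega
    have h2 := (Subgroup.mul_mem_iff_of_index_two hKi (a := (⟨u, hu⟩ : (S : Subgroup G)))
        (b := ⟨v, hv⟩)).mpr (by simp [Subgroup.mem_subgroupOf, huc, hvc])
    simpa [Subgroup.mem_subgroupOf] using h2
  have ho4 : ∀ c ∈ (S : Subgroup G), orderOf c = 4 → ∀ u ∈ (S : Subgroup G),
      u ∉ Subgroup.zpowers c → orderOf u = 4 := by
    intro c hc hc4 u hu huc
    rcases hcases hu with h | h | h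
    · exact absurd (h ▸ one_mem _) huc
    · exact absurd (h ▸ (hsq c hc hc4 ▸ pow_mem (Subgroup.mem_zpowers c) 2)) huc
    · exact h.1
  by_cases hab : b ∈ Subgroup.zpowers a
  · exact hclass a ha hoa b hab hob
  have hba : a ∉ Subgroup.zpowers b := by
    intro h
    apply hab
    rcases hmemz b hb hob a h hoa with h' | h'
    · rw [h']; exact Subgroup.mem_zpowers b
    · rw [h', Subgroup.zpowers_inv]; exact Subgroup.mem_zpowers b
  obtain ⟨u, hu, hua, hau⟩ := hleave a ha hoa
  obtain ⟨v, hv, hvb, hbv⟩ := hleave b hb hob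
  have hu4 := ho4 a ha hoa u hu hua
  have hv4 := ho4 b hb hob v hv hvb
  by_cases hub : u ∈ Subgroup.zpowers b
  · exact hau.trans (hclass b hb hob u hub hu4).symm
  by_cases hva : v ∈ Subgroup.zpowers a
  · exact (hclass a ha hoa v hva hv4).trans hbv.symm
  -- u and v lie in the third cyclic subgroup
  have hA := hidx a ha hoa u hu v hv hua hva
  have hB := hidx b hb hob u hu v hv hub hvb
  have h2 : (u * v) ^ 2 = 1 := by
    rcases hcases (mul_mem hu hv) with h | h | h
    · rw [h, one_pow]
    · rw [h, ← hz, pow_orderOf_eq_one]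
    · exfalso
      rcases hmemz a ha hoa _ hA h.1 with h' | h' <;> apply hba
      · rw [← h']; exact hB
      · rw [← inv_inv a, ← h', inv_mem_iff]; exact hB
  refine hau.trans ((hclass u hu hu4 v ?_ hv4).trans hbv.symm)
  have huv : u * v = 1 ∨ u * v = z := by
    rcases hcases (mul_mem hu hv) with h | h | h
    · exact Or.inl h
    · exact Or.inr h
    · exfalso
      have := orderOf_dvd_of_pow_eq_one h2
      rw [h.1] at this
      omega
  rcases huv with h | h
  · rw [eq_inv_of_mul_eq_one_right h]; exact inv_mem (Subgroup.mem_zpowers u)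
  · rw [eq_inv_mul_of_mul_eq h, ← hsq u hu hu4]
    exact mul_mem (inv_mem (Subgroup.mem_zpowers u)) (pow_mem (Subgroup.mem_zpowers u) 2)

end CfsgLib.Invol
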