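import Mathlib
import Cfsg.Agent.Lib.Invol.ZStarBlocks
import Cfsg.Agent.Lib.Invol.Quaternion
import Cfsg.Agent.Lib.Invol.Q8Fusion
import Cfsg.Agent.Lib.Invol.Q8Arith
import Cfsg.Agent.Lib.Char.Induced
import Cfsg.Agent.Lib.Char.Generalized

/-!
# Z*-theorem: the case of a quaternion Sylow 2-subgroup of order 8
-/

set_option autoImplicit false

namespace CfsgLib.Invol

open Cfsg CfsgLib.Char
open scoped ComplexConjugate

variable {G : Type*} [Group G]

/-- The class function `1 - sign` on the centralizer of an element of order four and its data. -/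
theorem q8_virtual [Fintype G] (S : Sylow 2 G) (e : (S : Subgroup G) ≃* QuaternionGroup 2) {y : G}
    (hy : y ∈ (S : Subgroup G)) (hoy : orderOf y = 4) :
    ∃ (f : Subgroup.centralizer ({y} : Set G) → ℂ),
      Cfsg.IsGeneralizedCharacter _ f ∧ f 1 = 0 ∧
      classInner (indFun _ f) (fun _ => 1) = 1 ∧
      (∀ c, f c ≠ 0 → 4 ∣ orderOf (c : G) ∧ ∃ u v : G, (u = y ∨ u = y⁻¹) ∧
        v ∈ centralizerPPrimeCore 2 u ∧ u * v = c) ∧
      classInner (indFun _ f) (indFun _ f) = 4 := by
  classical
  set C := Subgroup.centralizer ({y} : Set G) with hCdef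
  have hyC : y ∈ C := Subgroup.mem_centralizer_singleton_iff.mpr rfl
  let yC : C := ⟨y, hyC⟩
  have hoyC : orderOf yC = 4 := by rw [Subgroup.orderOf_mk, hoy]
  obtain ⟨r, hr⟩ := q8_inverted (e ⟨y, hy⟩)
  set x : G := ((e.symm r : (S : Subgroup G)) : G) with hxdef
  have hxy : x * y * x⁻¹ = y⁻¹ := by
    have := congrArg (fun q => ((e.symm q : (S : Subgroup G)) : G)) hr
    simpa using this
  have hy2 : y⁻¹ ≠ y := fun h => by
    have h2 : orderOf y ∣ 2 := orderOf_dvd_of_pow_eq_one (by
      rw [sq]; exact (congrArg (· * y) h).symm.trans (inv_mul_cancel y))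
    rw [hoy] at h2; omega
  have hxC : x ∉ C := fun h => hy2 (by
    rw [← hxy, Subgroup.mem_centralizer_singleton_iff.mp h, mul_inv_cancel_right])
  -- ⟨y⟩ is a Sylow 2-subgroup of C
  have hP2 : IsPGroup 2 (Subgroup.zpowers yC) :=
    IsPGroup.of_card (n := 2) (by rw [Nat.card_zpowers, hoyC]; norm_num)
  obtain ⟨P, hP⟩ := hP2.exists_le_sylow
  have hPy : (P : Subgroup C) = Subgroup.zpowers yC := by
    set T : Subgroup G := (P : Subgroup C).map C.subtype with hT
    obtain ⟨Q, hQ⟩ := (P.2.map C.subtype).exists_le_sylow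
    have hcT : Nat.card T = Nat.card (P : Subgroup C) :=
      Subgroup.card_map_of_injective C.subtype_injective
    have hcQ : Nat.card (Q : Subgroup G) = 2 ^ 3 := by
      rw [show (2 : ℕ) ^ 3 = 8 by norm_num, ← q8_card e, Q.card_eq_multiplicity,
        S.card_eq_multiplicity]
    obtain ⟨j, hj⟩ : ∃ j, Nat.card (P : Subgroup C) = 2 ^ j := P.2.exists_card_eq
    have hjle : j ≤ 3 := (Nat.pow_dvd_pow_iff_le_right (x := 2) (by norm_num)).mp
      (hj ▸ hcT ▸ hcQ ▸ Subgroup.card_dvd_of_le hQ)
    have hjge : 2 ≤ j := (Nat.pow_dvd_pow_iff_le_right (x := 2) (by norm_num)).mp (by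
      rw [← hj, show (2 : ℕ) ^ 2 = orderOf yC by rw [hoyC]; norm_num, ← Nat.card_zpowers]
      exact Subgroup.card_dvd_of_le hP)
    rcases Nat.lt_or_ge j 3 with hlt | hge
    · exact (Subgroup.eq_of_le_of_card_ge hP (by
        rw [hj, Nat.card_zpowers, hoyC, show j = 2 by omega]; norm_num)).symm
    · exfalso
      have hTQ : T = (Q : Subgroup G) := Subgroup.eq_of_le_of_card_ge hQ (by
        rw [hcT, hj, hcQ, show j = 3 by omega])
      obtain ⟨h, hh⟩ := sylow_exists_conj S Q
      have hyT : y ∈ T := Subgroup.mem_map.mpr ⟨yC, hP (Subgroup.mem_zpowers yC), rfl⟩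
      rw [hTQ] at hyT
      have hy' : h⁻¹ * y * h ∈ (S : Subgroup G) := (hh y).mp hyT
      have hcentral : ∀ q, q * e ⟨_, hy'⟩ = e ⟨_, hy'⟩ * q := by
        intro q
        obtain ⟨s, rfl⟩ := e.surjective q
        have hs' : h * (s : G) * h⁻¹ ∈ (Q : Subgroup G) :=
          (hh _).mpr (by rw [show h⁻¹ * (h * (s : G) * h⁻¹) * h = s by group]; exact s.2)
        rw [← hTQ] at hs'
        obtain ⟨c, -, hc⟩ := Subgroup.mem_map.mp hs'
        have h1 := Subgroup.mem_centralizer_singleton_iff.mp c.2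
        rw [Subgroup.coe_subtype] at hc
        rw [hc] at h1
        rw [← map_mul, ← map_mul]
        congr 1
        apply Subtype.ext
        show (s : G) * (h⁻¹ * y * h) = h⁻¹ * y * h * s
        calc (s : G) * (h⁻¹ * y * h) = h⁻¹ * ((h * s * h⁻¹) * y) * h := by group
          _ = h⁻¹ * (y * (h * s * h⁻¹)) * h := by rw [h1]
          _ = h⁻¹ * y * h * s := by group
      have h2 := q8_central _ hcentral
      rw [← map_pow, map_eq_one_iff e e.injective] at h2
      have h3 : (h⁻¹ * y * h) ^ 2 = 1 := congrArg Subtype.val h2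
      have h4 := orderOf_dvd_of_pow_eq_one h3
      have h5 := orderOf_conj_eq h⁻¹ y
      rw [inv_inv, hoy] at h5
      rw [h5] at h4
      omega
  have hPc : IsCyclic (P : Subgroup C) := by rw [hPy]; infer_instance
  have heven : Even (Nat.card C) := even_iff_two_dvd.mpr
    ((by norm_num : 2 ∣ 4).trans (hoyC ▸ orderOf_dvd_natCard yC))
  obtain ⟨ψ, hψP, hψ⟩ := exists_retraction_of_cyclic_sylow_two P hPc heven
  let gP : (P : Subgroup C) := ⟨yC, by rw [hPy]; exact Subgroup.mem_zpowers yC⟩
  have hogP : orderOf gP = 4 := by rw [Subgroup.orderOf_mk, hoyC]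
  have hψy : ψ yC = gP := by
    have := hψP gP
    simpa [gP] using this
  have hgen : ∀ q : (P : Subgroup C), q ∈ Subgroup.zpowers gP := by
    intro q
    have hq : (q : C) ∈ Subgroup.zpowers yC := hPy ▸ q.2
    obtain ⟨k, hk⟩ := Subgroup.mem_zpowers_iff.mp hq
    exact Subgroup.mem_zpowers_iff.mpr ⟨k, Subtype.ext (by simpa [gP] using hk)⟩
  have hou : orderOf (-1 : ℂˣ) ∣ orderOf gP := by
    rw [hogP]; exact orderOf_dvd_of_pow_eq_one (by norm_num)
  let μ : (P : Subgroup C) →* ℂˣ := monoidHomOfForallMemZpowers hgen hou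
  have hμ : μ gP = -1 := monoidHomOfForallMemZpowers_apply_gen hgen hou
  let sgn : C →* ℂ := (Units.coeHom ℂ).comp (μ.comp ψ)
  have hsy : sgn yC = -1 := by simp [sgn, hψy, hμ]
  -- values
  have hval : ∀ c : C, sgn c = 1 ∨ (sgn c = -1 ∧ (ψ c = gP ∨ ψ c = gP⁻¹)) := by
    intro c
    obtain ⟨i, hi⟩ : ∃ i : ℕ, gP ^ i = ψ c := mem_powers_iff_mem_zpowers.mpr (hgen (ψ c))
    have hs : sgn c = (-1 : ℂ) ^ i := by simp [sgn, ← hi, hμ]
    have hred : gP ^ (i % 4) = ψ c := by rw [← hogP, pow_mod_orderOf, hi]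
    have hi4 : i % 4 = 0 ∨ i % 4 = 1 ∨ i % 4 = 2 ∨ i % 4 = 3 := by omega
    rcases hi4 with h | h | h | h
    · left; rw [hs, Even.neg_one_pow (Nat.even_iff.mpr (by omega))]
    · right; refine ⟨by rw [hs, Odd.neg_one_pow (Nat.odd_iff.mpr (by omega))], Or.inl ?_⟩
      rw [← hred, h, pow_one]
    · left; rw [hs, Even.neg_one_pow (Nat.even_iff.mpr (by omega))]
    · right; refine ⟨by rw [hs, Odd.neg_one_pow (Nat.odd_iff.mpr (by omega))], Or.inr ?_⟩
      rw [← hred, h, eq_inv_iff_mul_eq_one, ← pow_succ, show (3 + 1) = orderOf gP by rw [hogP], pow_orderOf_eq_one]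
  set f : C → ℂ := fun c => 1 - sgn c with hf
  have hfgen : IsGeneralizedCharacter C f :=
    isGen_sub isGen_one (isGen_of_irr (isIrrCharacter_hom sgn))
  have hsum : ∑ c : C, sgn c = 0 := sum_hom_units_eq_zero sgn fun h => by
    rw [h, MonoidHom.one_apply] at hsy; norm_num at hsy
  have hf1 : classInner f (fun _ => 1) = 1 := by
    rw [classInner_one_right, hf, Finset.sum_sub_distrib, hsum, sub_zero, Finset.sum_const,
      Finset.card_univ, nsmul_eq_mul, mul_one, ← Nat.card_eq_fintype_card,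
      inv_mul_cancel₀ card_ne_zero']
  -- the support
  have hsupp : ∀ c : C, f c ≠ 0 → sgn c = -1 ∧ (ψ c = gP ∨ ψ c = gP⁻¹) := fun c hc =>
    (hval c).resolve_left fun h => hc (by simp [hf, h])
  have hord : ∀ c : C, f c ≠ 0 → 4 ∣ orderOf (c : G) := by
    intro c hc
    rw [Subgroup.orderOf_coe]
    refine dvd_trans ?_ (orderOf_map_dvd ψ c)
    rcases (hsupp c hc).2 with h | h <;> simp [h, hogP]
  have hzC : ∀ c : C, f c ≠ 0 → y ∈ Subgroup.zpowers (c : G) := by
    intro c hc
    have h0 : ∃ k : ℕ, (ψ c) ^ k = gP := by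
      rcases (hsupp c hc).2 with h | h
      · exact ⟨1, by rw [h, pow_one]⟩
      · refine ⟨3, ?_⟩
        rw [h, inv_pow, inv_eq_iff_mul_eq_one, ← pow_succ, show (3 + 1) = orderOf gP by rw [hogP], pow_orderOf_eq_one]
    obtain ⟨k, hk⟩ := h0
    set w : C := c ^ k * yC⁻¹ with hw
    have hwodd := (hψ w).mp (by rw [hw, map_mul, map_pow, map_inv, hk, hψy, mul_inv_cancel])
    have hcomm : Commute w yC := by
      apply Subtype.ext
      simpa [yC] using Subgroup.mem_centralizer_singleton_iff.mp w.2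
    have h1 : (c : G) ^ (k * orderOf w) = y ^ orderOf w := by
      have h2 : (c : C) ^ k = w * yC := by rw [hw, inv_mul_cancel_right]
      have := congrArg (fun t : C => ((t ^ orderOf w : C) : G)) h2
      simpa only [← pow_mul, hcomm.mul_pow, pow_orderOf_eq_one, one_mul,
        SubmonoidClass.coe_pow] using this
    obtain ⟨j, hj⟩ := hwodd
    have h3 : y = (y ^ orderOf w) ^ orderOf w := by
      rw [← pow_mul, ← pow_mod_orderOf, hoy, hj,
        show (2 * j + 1) * (2 * j + 1) = 4 * (j * j + j) + 1 by ring, Nat.mul_add_mod, pow_one]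
    rw [h3, ← h1]
    exact Subgroup.pow_mem _ (Subgroup.pow_mem _ (Subgroup.mem_zpowers _) _) _
  have hWcore : ∀ u : G, Subgroup.centralizer ({u} : Set G) = C → ∀ w : C, ψ w = 1 →
      (w : G) ∈ centralizerPPrimeCore 2 u := by
    intro u hu w hw
    have hKC : ψ.ker.map C.subtype ≤ Subgroup.centralizer ({u} : Set G) := by
      rw [hu]; exact Subgroup.map_subtype_le _
    refine le_centralizerPPrimeCore hKC ?_ ?_ (Subgroup.mem_map_of_mem C.subtype hw)
    · rw [Subgroup.card_map_of_injective C.subtype_injective, ← Nat.not_even_iff_odd,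
        even_iff_two_dvd]
      intro h2
      have := Fact.mk Nat.prime_two
      obtain ⟨k, hk⟩ := exists_prime_orderOf_dvd_card' (G := ψ.ker) 2 h2
      have hk1 := (hψ (k : C)).mp k.2
      rw [Subgroup.orderOf_coe, hk] at hk1
      exact absurd hk1 (by decide)
    · rw [hu]
      intro c hc k hk
      obtain ⟨k', hk', rfl⟩ := Subgroup.mem_map.mp hk
      refine Subgroup.mem_map.mpr ⟨⟨c, hc⟩ * k' * ⟨c, hc⟩⁻¹, ?_, rfl⟩
      exact (MonoidHom.normal_ker ψ).conj_mem _ hk' _
  have hdecomp : ∀ c : C, f c ≠ 0 → 4 ∣ orderOf (c : G) ∧ ∃ u v : G, (u = y ∨ u = y⁻¹) ∧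
      v ∈ centralizerPPrimeCore 2 u ∧ u * v = c := by
    intro c hc
    refine ⟨hord c hc, ?_⟩
    rcases (hsupp c hc).2 with h | h
    · refine ⟨y, ((yC⁻¹ * c : C) : G), Or.inl rfl, hWcore y rfl _ ?_, by simp [yC]⟩
      rw [map_mul, map_inv, hψy, h, inv_mul_cancel]
    · refine ⟨y⁻¹, ((yC * c : C) : G), Or.inr rfl, hWcore _ ?_ _ ?_, by simp [yC]⟩
      · ext g
        rw [hCdef, Subgroup.mem_centralizer_singleton_iff, Subgroup.mem_centralizer_singleton_iff]
        exact ⟨fun h => (Commute.inv_right_iff.mp (show Commute g y⁻¹ from h)).eq,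
          fun h => ((show Commute g y from h).inv_right).eq⟩
      · rw [map_mul, hψy, h, mul_inv_cancel]
  refine ⟨f, hfgen, by simp [hf], ?_, hdecomp, ?_⟩
  · rw [frobenius_reciprocity C f (isClassFunction_of_isGen isGen_one)]
    exact hf1
  -- the norm
  set Θ := indFun C f with hΘdef
  have hΘgen : IsGeneralizedCharacter G Θ := isGen_indFun C hfgen
  have hΘc : ∀ c : C, f c ≠ 0 → Θ c = 4 := by
    intro c hc
    have hfc : f c = 2 := by simp [hf, (hsupp c hc).1]; norm_num
    set F : G → ℂ := fun a => extendByZero C f (a⁻¹ * c * a) with hF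
    have hin : ∀ a, F a ≠ 0 → a ∈ C ∨ x⁻¹ * a ∈ C := by
      intro a ha
      have hm : a⁻¹ * c * a ∈ C := by
        by_contra hm; exact ha (extendByZero_of_notMem _ hm)
      have h0 := hzC ⟨_, hm⟩ (by simpa [hF, extendByZero_of_mem _ hm] using ha)
      obtain ⟨k, hk⟩ := Subgroup.mem_zpowers_iff.mp h0
      have h1 : a * y * a⁻¹ ∈ Subgroup.zpowers (c : G) := ⟨k, by
        show (c : G) ^ k = _
        simp only at hk
        rw [← hk, ← conj_zpow, show a * (a⁻¹ * (c : G) * a) * a⁻¹ = c by group]⟩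
      have hcy := hzC c hc
      have hmul : Commute (a * y * a⁻¹) y := by
        obtain ⟨i, hi⟩ := Subgroup.mem_zpowers_iff.mp h1
        obtain ⟨j, hj⟩ := Subgroup.mem_zpowers_iff.mp hcy
        rw [← hi, ← hj]
        exact (Commute.refl _).zpow_zpow i j
      -- the element lies in C, so its image in the cyclic 2-group decides it
      have hay : a * y * a⁻¹ ∈ C := Subgroup.mem_centralizer_singleton_iff.mpr hmul.eq
      obtain ⟨i, hi⟩ : ∃ i : ℕ, gP ^ i = ψ ⟨_, hay⟩ :=
        mem_powers_iff_mem_zpowers.mpr (hgen _)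
      set w : C := ⟨_, hay⟩ * (yC ^ i)⁻¹ with hw
      have hwodd := (hψ w).mp (by
        rw [hw, map_mul, map_inv, map_pow, hψy, hi, mul_inv_cancel])
      have hw4 : w ^ 4 = 1 := by
        have hc' : Commute (⟨_, hay⟩ : C) (yC ^ i)⁻¹ :=
          ((show Commute (⟨_, hay⟩ : C) yC from Subtype.ext hmul.eq).pow_right i).inv_right
        rw [hw, hc'.mul_pow, inv_pow, ← pow_mul, mul_comm i, pow_mul, ← hoyC, pow_orderOf_eq_one,
          one_pow, inv_one, mul_one, hoyC]
        apply Subtype.ext
        show (a * y * a⁻¹) ^ 4 = 1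
        rw [conj_pow, ← hoy, pow_orderOf_eq_one, mul_one, mul_inv_cancel]
      have hw1 : w = 1 := by
        rw [← orderOf_eq_one_iff]
        exact Nat.eq_one_of_dvd_coprimes ((Nat.coprime_two_right.mpr hwodd).pow_right 2) dvd_rfl
          (orderOf_dvd_of_pow_eq_one hw4)
      have hay' : a * y * a⁻¹ = y ^ i := by
        have := congrArg Subtype.val (mul_inv_eq_one.mp (hw.symm.trans hw1))
        simpa [yC] using this
      have hoj : orderOf (a * y * a⁻¹) = 4 := (orderOf_conj_eq a y).trans hoy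
      have hj4 : y ^ (i % 4) = a * y * a⁻¹ := by rw [hay', ← hoy, pow_mod_orderOf]
      have hr : i % 4 = 0 ∨ i % 4 = 1 ∨ i % 4 = 2 ∨ i % 4 = 3 := by omega
      rcases hr with hr | hr | hr | hr <;> rw [hr] at hj4
      · rw [pow_zero] at hj4; rw [← hj4, orderOf_one] at hoj; omega
      · rw [pow_one] at hj4
        exact Or.inl (Subgroup.mem_centralizer_singleton_iff.mpr (mul_inv_eq_iff_eq_mul.mp hj4.symm))
      · exfalso
        rw [← hj4, orderOf_pow' y two_ne_zero, hoy] at hoj
        norm_num at hoj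
      · right
        have h3 : y ^ 3 = y⁻¹ := by
          rw [eq_inv_iff_mul_eq_one, ← pow_succ, show (3 + 1) = orderOf y by rw [hoy], pow_orderOf_eq_one]
        rw [h3, ← hxy] at hj4
        refine Subgroup.mem_centralizer_singleton_iff.mpr (mul_inv_eq_iff_eq_mul.mp ?_)
        rw [show x⁻¹ * a * y * (x⁻¹ * a)⁻¹ = x⁻¹ * (a * y * a⁻¹) * x by group, ← hj4]
        group
    have hsplit : ∀ a, F a = (if a ∈ C then (2 : ℂ) else 0) + (if x⁻¹ * a ∈ C then 2 else 0) := by
      intro a
      by_cases h1 : a ∈ C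
      · have h2 : x⁻¹ * a ∉ C := fun h2 => hxC (by
          have := C.mul_mem h1 (C.inv_mem h2)
          simpa [mul_assoc] using this)
        rw [if_pos h1, if_neg h2, add_zero, hF]
        have := extendByZero_conj_mem f (isClassFunction_of_isGen hfgen) (C.inv_mem h1) (c : G)
        rw [inv_inv, extendByZero_coe, hfc] at this
        exact this
      · rw [if_neg h1, zero_add]
        by_cases h2 : x⁻¹ * a ∈ C
        · rw [if_pos h2]
          -- conjugation by `x` preserves the support
          have hb : x⁻¹ * c * x ∈ C := by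
            rw [Subgroup.mem_centralizer_singleton_iff, ← mul_inv_eq_iff_eq_mul,
              show x⁻¹ * (c : G) * x * y * (x⁻¹ * c * x)⁻¹ =
                x⁻¹ * (c * (x * y * x⁻¹) * (c : G)⁻¹) * x by group, hxy, ← conj_inv,
              mul_inv_eq_iff_eq_mul.mpr (Subgroup.mem_centralizer_singleton_iff.mp c.2), ← hxy]
            group
          have hd : f ⟨_, hb⟩ = 2 := by
            obtain ⟨-, u, v, hu, hv, huv⟩ := hdecomp c hc
            rcases hval ⟨_, hb⟩ with h | h
            · exfalso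
              -- odd powers of both sides
              have h4 : 4 ∣ orderOf (⟨_, hb⟩ : C) := by
                rw [Subgroup.orderOf_mk]
                have := orderOf_conj_eq x⁻¹ (c : G)
                rw [inv_inv] at this
                rw [this]; exact hord c hc
              obtain ⟨i, hi⟩ : ∃ i : ℕ, gP ^ i = ψ ⟨_, hb⟩ :=
                mem_powers_iff_mem_zpowers.mpr (hgen _)
              have hs : sgn ⟨_, hb⟩ = (-1 : ℂ) ^ i := by simp [sgn, ← hi, hμ]
              rw [h] at hs
              have hie : Even i := by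
                by_contra ho
                rw [Odd.neg_one_pow (Nat.not_even_iff_odd.mp ho)] at hs
                norm_num at hs
              obtain ⟨l, hl⟩ := hie
              have h2 : ψ (⟨_, hb⟩ ^ 2) = 1 := by
                rw [map_pow, ← hi, ← pow_mul, hl, show (l + l) * 2 = 4 * l by ring, pow_mul, ← hogP,
                  pow_orderOf_eq_one, one_pow]
              have h3 := (hψ _).mp h2
              rw [orderOf_pow' _ two_ne_zero,
                Nat.gcd_eq_right ((by norm_num : 2 ∣ 4).trans h4)] at h3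
              obtain ⟨l', hl'⟩ := h4
              rw [hl', show 4 * l' / 2 = 2 * l' by omega] at h3
              exact absurd h3 (Nat.not_odd_iff_even.mpr (even_two_mul l'))
            · simp [hf, h.1]; norm_num
          show extendByZero C f (a⁻¹ * c * a) = _
          have := extendByZero_conj_mem f (isClassFunction_of_isGen hfgen) (C.inv_mem h2)
            (x⁻¹ * c * x)
          rw [show (x⁻¹ * a)⁻¹ * (x⁻¹ * (c : G) * x) * (x⁻¹ * a)⁻¹⁻¹ = a⁻¹ * c * a by group,
            extendByZero_of_mem f hb, hd] at this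
          exact this
        · rw [if_neg h2]
          by_contra hFa
          exact (hin a hFa).elim h1 h2
    rw [hΘdef, indFun_apply]
    show (Nat.card C : ℂ)⁻¹ * ∑ a : G, F a = _
    rw [Finset.sum_congr rfl fun a _ => hsplit a, Finset.sum_add_distrib]
    have e2 : ∑ a : G, (if x⁻¹ * a ∈ C then (2 : ℂ) else 0) =
        ∑ a : G, (if a ∈ C then (2 : ℂ) else 0) :=
      Fintype.sum_equiv (Equiv.mulLeft x⁻¹) _ _ fun a => rfl
    rw [e2, Finset.sum_ite, Finset.sum_const_zero, add_zero, Finset.sum_const, nsmul_eq_mul,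
      ← Fintype.card_subtype, ← Nat.card_eq_fintype_card, ← mul_add,
      inv_mul_cancel_left₀ (card_subgroup_ne_zero C)]
    norm_num
  rw [hΘdef, frobenius_reciprocity C f (isClassFunction_indFun C f), classInner_def]
  have hterm : ∀ c : C, f c * conj (indFun C f (c : G)) = 4 * f c := by
    intro c
    by_cases hc : f c = 0
    · simp [hc]
    · rw [← hΘdef, hΘc c hc]
      simp [mul_comm, map_ofNat]
  rw [Finset.sum_congr rfl fun c _ => hterm c, ← Finset.mul_sum]
  rw [classInner_one_right] at hf1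
  linear_combination 4 * hf1

theorem sq_sum_three {ι : Type*} [Fintype ι] [DecidableEq ι] (m : ι → ℤ) (o : ι) (ho : m o = 1)
    (h : ∑ i, m i ^ 2 = 4) :
    ∃ a b c, a ≠ b ∧ a ≠ c ∧ b ≠ c ∧ a ≠ o ∧ b ≠ o ∧ c ≠ o ∧
      (m a = 1 ∨ m a = -1) ∧ (m b = 1 ∨ m b = -1) ∧ (m c = 1 ∨ m c = -1) ∧
      ∀ i, i ≠ o → i ≠ a → i ≠ b → i ≠ c → m i = 0 := by
  classical
  set T := (Finset.univ.erase o).filter fun i => m i ≠ 0 with hT
  have h3 : ∑ i ∈ Finset.univ.erase o, m i ^ 2 = 3 := by
    have := Finset.add_sum_erase Finset.univ (fun i => m i ^ 2) (Finset.mem_univ o)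
    simp only [ho] at this
    linarith
  have hsum : ∑ i ∈ T, m i ^ 2 = 3 := by
    rw [hT, Finset.sum_filter_of_ne]
    · exact h3
    · intro i _ hi h'; exact hi (by simp [h'])
  have hone : ∀ i ∈ T, m i ^ 2 = 1 := by
    intro i hi
    have hpos : 0 < m i ^ 2 := sq_pos_of_ne_zero (Finset.mem_filter.mp hi).2
    have hle := Finset.single_le_sum (fun j _ => sq_nonneg (m j)) hi
    rw [hsum] at hle
    have h2 : m i ≤ 1 := by nlinarith
    have h2' : -1 ≤ m i := by nlinarith
    have h3 : m i = 1 ∨ m i = 0 ∨ m i = -1 := by omega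
    rcases h3 with h4 | h4 | h4 <;> rw [h4] at hpos ⊢ <;> simp_all
  have hcard : T.card = 3 := by
    rw [Finset.sum_congr rfl hone, Finset.sum_const, nsmul_eq_mul, mul_one] at hsum
    exact_mod_cast hsum
  obtain ⟨a, b, c, hab, hac, hbc, hTe⟩ := Finset.card_eq_three.mp hcard
  have hmem : ∀ i ∈ ({a, b, c} : Finset ι), i ≠ o ∧ (m i = 1 ∨ m i = -1) := by
    intro i hi
    rw [← hTe] at hi
    exact ⟨(Finset.mem_erase.mp (Finset.mem_filter.mp hi).1).1, sq_eq_one_iff.mp (hone i hi)⟩
  refine ⟨a, b, c, hab, hac, hbc, (hmem a (by simp)).1, (hmem b (by simp)).1, (hmem c (by simp)).1,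
    (hmem a (by simp)).2, (hmem b (by simp)).2, (hmem c (by simp)).2, ?_⟩
  intro i hio hia hib hic
  by_contra hi
  have : i ∈ T := by simp [hT, hio, hi]
  rw [hTe] at this
  simp [hia, hib, hic] at this

/-- No group without proper normal subgroups containing the involution has quaternion Sylow
2-subgroups of order 8. -/
theorem q8_false [Fintype G] (hC : ConstTwo G) (S : Sylow 2 G)
    (e : (S : Subgroup G) ≃* QuaternionGroup 2) {z : G} (hz : orderOf z = 2)
    (hzS : z ∈ (S : Subgroup G)) (hN : ∀ N : Subgroup G, N.Normal → z ∈ N → N = ⊤) : False := by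
  classical
  have hcases := fun {s : G} (hs : s ∈ (S : Subgroup G)) => q8_order_cases e hz hzS hs
  -- an element of order four
  obtain ⟨y, hy, hoy, hyz⟩ : ∃ y ∈ (S : Subgroup G), orderOf y = 4 ∧ y ^ 2 = z := by
    set y : G := ((e.symm (QuaternionGroup.xa 0) : (S : Subgroup G)) : G) with hy
    have h : orderOf y = 4 := by
      rw [hy, Subgroup.orderOf_coe, MulEquiv.orderOf_eq, QuaternionGroup.orderOf_xa]
    rcases hcases (e.symm (QuaternionGroup.xa 0)).2 with h' | h' | h'
    · rw [← hy] at h'; rw [h', orderOf_one] at h; omega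
    · rw [← hy] at h'; rw [h', hz] at h; omega
    · exact ⟨y, (e.symm (QuaternionGroup.xa 0)).2, h, h'.2⟩
  have hperf : commutator G = ⊤ := by
    refine hN _ inferInstance ?_
    have hne : (e ⟨y, hy⟩) ^ 2 ≠ 1 := by
      rw [← map_pow, Ne, map_eq_one_iff e e.injective]
      intro h
      exact ne_one_of_orderOf_two hz (hyz ▸ congrArg Subtype.val h)
    obtain ⟨r, s, hrs⟩ := q8_sq _ hne
    have h2 := congrArg (fun q => ((e.symm q : (S : Subgroup G)) : G)) hrs
    simp only [map_mul, map_inv, map_pow, MulEquiv.symm_apply_apply, Subgroup.coe_mul,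
      Subgroup.coe_inv, SubmonoidClass.coe_pow] at h2
    rw [← hyz, ← h2, ← commutatorElement_def]
    exact Subgroup.commutator_mem_commutator (Subgroup.mem_top _) (Subgroup.mem_top _)
  have hlin : ∀ χ : IrrCharacter G, (χ : G → ℂ) 1 = 1 → χ = irrOne := by
    intro χ h1
    have h2 := Abelianization.commutator_subset_ker (linearHom (isCharacter_of_isIrr χ.2) h1)
    rw [hperf] at h2
    apply Subtype.ext
    funext g
    have h3 : (linearHom (isCharacter_of_isIrr χ.2) h1 g : ℂ) = 1 := by
      rw [MonoidHom.mem_ker.mp (h2 (Subgroup.mem_top g)), Units.val_one]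
    rw [linearHom_apply] at h3
    exact h3
  have hrefl : IsConj y y⁻¹ := q8_fused hperf S e hy (inv_mem hy) hoy (by rw [orderOf_inv, hoy])
  obtain ⟨f, hfgen, hf0, hf1, hfs, hf4⟩ := q8_virtual S e hy hoy
  let C := Subgroup.centralizer ({y} : Set G)
  set Θ := indFun C f with hΘdef
  have hΘgen : IsGeneralizedCharacter G Θ := isGen_indFun C hfgen
  have hΘ0 : ∀ g : G, ¬ 4 ∣ orderOf g → Θ g = 0 := by
    intro g hg
    refine indFun_eq_zero_of_forall C fun a ha => ?_
    by_contra h
    have h1 := (hfs ⟨_, ha⟩ h).1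
    have h2 := orderOf_conj_eq a⁻¹ g
    rw [inv_inv] at h2
    exact hg (h2 ▸ h1)
  obtain ⟨m, hm, hmi, hsq⟩ := gen_decomp hΘgen
  rw [hf4] at hsq
  have hsq' : ∑ χ, m χ ^ 2 = 4 := by exact_mod_cast hsq.symm
  have hm1 : m irrOne = 1 := by
    have h1 := hmi irrOne
    rw [show ((irrOne : IrrCharacter G) : G → ℂ) = fun _ => 1 from rfl, hf1] at h1
    exact_mod_cast h1.symm
  obtain ⟨a, b, c, hab, hac, hbc, hao, hbo, hco, hma, hmb, hmc, hrest⟩ := sq_sum_three m irrOne hm1 hsq'
  have hexp : ∀ (v : IrrCharacter G → ℂ),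
      ∑ χ, (m χ : ℂ) * v χ = v irrOne + m a * v a + m b * v b + m c * v c := by
    intro v
    rw [← Finset.sum_subset (Finset.subset_univ ({irrOne, a, b, c} : Finset (IrrCharacter G)))]
    · rw [Finset.sum_insert (by simp [hao.symm, hbo.symm, hco.symm]),
        Finset.sum_insert (by simp [hab, hac]), Finset.sum_insert (by simp [hbc]),
        Finset.sum_singleton, hm1]
      push_cast
      ring
    · intro χ _ hχ
      simp only [Finset.mem_insert, Finset.mem_singleton, not_or] at hχ
      rw [hrest χ hχ.1 hχ.2.1 hχ.2.2.1 hχ.2.2.2]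
      simp
  choose d hd0 hd using fun χ : IrrCharacter G => exists_degree_pos χ.2
  have hd2 : ∀ χ : IrrCharacter G, χ ≠ irrOne → 2 ≤ d χ := by
    intro χ hχ
    have := hd0 χ
    by_contra h
    exact hχ (hlin χ (by rw [hd, show d χ = 1 by omega, Nat.cast_one]))
  have hΘ1 : Θ 1 = 0 := hΘ0 1 (by rw [orderOf_one]; norm_num)
  have hEd : (1 : ℤ) + m a * d a + m b * d b + m c * d c = 0 := by
    have h1 := congrFun hm 1
    simp only [Finset.sum_apply, Pi.smul_apply, smul_eq_mul, hΘ1] at h1
    rw [hexp fun χ => (χ : G → ℂ) 1, hd a, hd b, hd c,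
      show ((irrOne : IrrCharacter G) : G → ℂ) 1 = 1 from rfl] at h1
    exact_mod_cast h1.symm
  -- all three characters lie in the principal block
  obtain ⟨M, hM⟩ := exists_isPModular 2 Nat.prime_two
  have := hM.2.1
  have hB : IsPBlock M (principalBlock M G) := by
    rw [CfsgLib.Blocks.principalBlock_eq]; exact CfsgLib.Blocks.isPBlock_blockOf _
  have h1B : (irrOne : IrrCharacter G) ∈ principalBlock M G := by
    rw [CfsgLib.Blocks.principalBlock_eq]; exact CfsgLib.Blocks.mem_blockOf_self _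
  have : Fintype C := Fintype.ofFinite _
  have hblk : ∑ χ, (m χ : ℂ) * (if χ ∈ principalBlock M G then (χ : G → ℂ) 1 else 0) = 0 := by
    have hterm : ∀ χ : IrrCharacter G,
        (m χ : ℂ) * (if χ ∈ principalBlock M G then (χ : G → ℂ) 1 else 0) =
          (Nat.card C : ℂ)⁻¹ * ∑ c : C, f c *
            (if χ ∈ principalBlock M G then (χ : G → ℂ) 1 * conj ((χ : G → ℂ) (c : G)) else 0) := by
      intro χ
      rw [← hmi χ, hΘdef, frobenius_reciprocity C f (isClassFunction_of_isIrr χ.2), classInner_def]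
      split_ifs
      · rw [mul_assoc, Finset.sum_mul]
        congr 1
        exact Finset.sum_congr rfl fun c _ => by ring
      · simp
    rw [Finset.sum_congr rfl fun χ _ => hterm χ, ← Finset.mul_sum, Finset.sum_comm,
      Finset.sum_eq_zero, mul_zero]
    intro c _
    rw [← Finset.mul_sum]
    by_cases hc : f c = 0
    · rw [hc, zero_mul]
    · rw [CfsgLib.Blocks.weak_orthogonality hM hB (x := 1) (y := (c : G))
        (by rw [orderOf_one]; norm_num) ((by norm_num : 2 ∣ 4).trans (hfs c hc).1), mul_zero]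
  rw [hexp fun χ => if χ ∈ principalBlock M G then (χ : G → ℂ) 1 else 0, if_pos h1B,
    show ((irrOne : IrrCharacter G) : G → ℂ) 1 = 1 from rfl, hd a, hd b, hd c] at hblk
  have hblk' : (1 : ℤ) + m a * (if a ∈ principalBlock M G then (d a : ℤ) else 0) +
      m b * (if b ∈ principalBlock M G then (d b : ℤ) else 0) +
      m c * (if c ∈ principalBlock M G then (d c : ℤ) else 0) = 0 := by
    split_ifs at hblk ⊢ <;> push_cast at hblk ⊢ <;> exact_mod_cast hblk
  have hda := hd2 a hao
  have hdb := hd2 b hbo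
  have hdc := hd2 c hco
  have hin : a ∈ principalBlock M G ∧ b ∈ principalBlock M G ∧ c ∈ principalBlock M G := by
    by_cases h1 : a ∈ principalBlock M G <;> by_cases h2 : b ∈ principalBlock M G <;>
      by_cases h3 : c ∈ principalBlock M G <;> simp only [h1, h2, h3, if_true, if_false] at hblk' <;>
      rcases hma with h4 | h4 <;> rcases hmb with h5 | h5 <;> rcases hmc with h6 | h6 <;>
      simp only [h4, h5, h6] at hblk' hEd <;> first | exact ⟨h1, h2, h3⟩ | omega
  -- the value at `y`
  have hval : ∀ χ : IrrCharacter G, χ ∈ principalBlock M G → (χ : G → ℂ) y = (m χ : ℂ) := by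
    intro χ hχ
    have hcf := isClassFunction_of_isIrr χ.2
    obtain ⟨x, hx⟩ := isConj_iff.mp hrefl
    have hinv : (χ : G → ℂ) y⁻¹ = (χ : G → ℂ) y := by rw [← hx, hcf]
    have hterm : ∀ c : C, f c * conj ((χ : G → ℂ) (c : G)) = f c * conj ((χ : G → ℂ) y) := by
      intro c
      by_cases hc : f c = 0
      · simp [hc]
      · obtain ⟨-, u, v, hu, hv, huv⟩ := hfs c hc
        have hou : orderOf u = 4 := by rcases hu with rfl | rfl <;> simp [hoy]
        have h1 := hC M hM u v ⟨2, by rw [hou]; norm_num⟩ hv χ hχ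
        rw [huv] at h1
        rw [h1]
        rcases hu with rfl | rfl
        · rfl
        · rw [hinv]
    have h1 := hmi χ
    rw [hΘdef, frobenius_reciprocity C f hcf, classInner_def,
      Finset.sum_congr rfl fun c _ => hterm c, ← Finset.sum_mul, ← mul_assoc] at h1
    rw [frobenius_reciprocity C f (isClassFunction_of_isGen isGen_one), classInner_one_right] at hf1
    rw [hf1, one_mul] at h1
    have h2 := congrArg conj h1
    rwa [Complex.conj_conj, map_intCast] at h2
  -- values at the involution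
  have hzval : ∀ χ : IrrCharacter G, χ ≠ irrOne → χ ∈ principalBlock M G →
      ∃ w : ℤ, (χ : G → ℂ) z = (d χ : ℂ) + w ∧ (4 : ℤ) ∣ w ∧
        (8 : ℤ) ∣ w + 2 * (d χ : ℤ) + 6 * m χ ∧ w ≠ 0 := by
    intro χ hχ1 hχ
    have hcf := isClassFunction_of_isIrr χ.2
    obtain ⟨n, ρ, hirr, hρ⟩ := χ.2
    obtain ⟨r, hr4, hrsum⟩ := exists_roots_char_pow ρ y
    rw [hρ] at hrsum
    have hdn : (d χ : ℂ) = ∑ _i : Fin (Module.finrank ℂ (Fin n → ℂ)), (1 : ℂ) := by
      have h0 := hrsum 0
      rw [pow_zero, hd] at h0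
      simpa using h0
    have hz' : (χ : G → ℂ) z = ∑ i, r i ^ 2 := by rw [← hyz]; exact hrsum 2
    have hy1 : (χ : G → ℂ) y = ∑ i, r i := by simpa using hrsum 1
    have hpt : ∀ i, 1 - r i ^ 2 =
        (((if r i = Complex.I then 4 else 0 : ℕ)) : ℂ) + (r i - conj (r i)) * Complex.I := by
      intro i
      have h4 : r i ^ 4 = 1 := hoy ▸ hr4 i
      have h5 : (r i - 1) * (r i + 1) * (r i - Complex.I) * (r i + Complex.I) = 0 := by
        linear_combination h4 - (r i ^ 2 - 1) * Complex.I_sq
      simp only [mul_eq_zero, sub_eq_zero, add_eq_zero_iff_eq_neg] at h5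
      rcases h5 with ((h5 | h5) | h5) | h5 <;> rw [h5]
      · simp [Complex.ext_iff]
      · simp [Complex.ext_iff]
      · simp [Complex.ext_iff]; norm_num
      · simp [Complex.ext_iff]; norm_num
    have hsum := Finset.sum_congr rfl fun i (_ : i ∈ Finset.univ) => hpt i
    rw [Finset.sum_sub_distrib, ← hdn, ← hz', Finset.sum_add_distrib, ← Finset.sum_mul,
      Finset.sum_sub_distrib, ← map_sum, ← hy1, hval χ hχ, map_intCast, sub_self, zero_mul,
      add_zero, ← Nat.cast_sum] at hsum
    set k := ∑ i, (if r i = Complex.I then 4 else 0 : ℕ) with hk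
    have hk4 : 4 ∣ k := Finset.dvd_sum fun i _ => by split_ifs <;> simp
    refine ⟨-(k : ℤ), by push_cast; linear_combination -hsum, ?_, ?_, ?_⟩
    · exact (Int.natCast_dvd_natCast.mpr hk4).neg_right
    · have : Fintype (S : Subgroup G) := Fintype.ofFinite _
      obtain ⟨l, hl⟩ := classInner_char_nat (isCharacter_res (S : Subgroup G) (isCharacter_of_isIrr χ.2))
        (isCharacter_one (G := (S : Subgroup G)))
      rw [classInner_one_right, q8_card e] at hl
      set zS : (S : Subgroup G) := ⟨z, hzS⟩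
      have hz1 : (1 : (S : Subgroup G)) ≠ zS :=
        fun h => ne_one_of_orderOf_two hz (congrArg Subtype.val h).symm
      have hothers : ∀ s ∈ Finset.univ \ ({1, zS} : Finset (S : Subgroup G)),
          (χ : G → ℂ) (s : G) = (m χ : ℂ) := by
        intro s hs
        simp only [Finset.mem_sdiff, Finset.mem_univ, true_and, Finset.mem_insert,
          Finset.mem_singleton, not_or] at hs
        rcases hcases s.2 with h | h | h
        · exact absurd (Subtype.ext h) hs.1
        · exact absurd (Subtype.ext h) hs.2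
        · obtain ⟨g, hg⟩ := isConj_iff.mp (q8_fused hperf S e hy s.2 hoy h.1)
          rw [← hg, hcf, hval χ hχ]
      rw [← Finset.sum_sdiff (Finset.subset_univ ({1, zS} : Finset (S : Subgroup G))),
        Finset.sum_congr rfl hothers, Finset.sum_const, Finset.sum_pair hz1,
        Finset.card_sdiff_of_subset (Finset.subset_univ _), Finset.card_univ,
        ← Nat.card_eq_fintype_card, q8_card e, Finset.card_pair hz1, nsmul_eq_mul,
        OneMemClass.coe_one, hd] at hl
      refine ⟨(l : ℤ), ?_⟩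
      have h8 : (6 : ℂ) * (m χ : ℂ) + ((d χ : ℂ) + ((d χ : ℂ) + -(k : ℂ))) = 8 * (l : ℂ) := by
        have hzz : (χ : G → ℂ) (zS : G) = (d χ : ℂ) + -(k : ℂ) := by linear_combination -hsum
        rw [hzz] at hl
        push_cast at hl
        linear_combination 8 * hl
      have h8' : (6 : ℤ) * m χ + ((d χ : ℤ) + ((d χ : ℤ) + -(k : ℤ))) = 8 * (l : ℤ) := by
        exact_mod_cast h8
      linarith
    · intro h0
      have hk0 : (k : ℂ) = 0 := by exact_mod_cast (neg_eq_zero.mp h0)
      have hzd : (χ : G → ℂ) z = (χ : G → ℂ) 1 := by rw [hd]; linear_combination -hsum - hk0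
      exact hχ1 (hlin χ (linear_of_sq_eq hN χ.2 (by rw [hzd])))
  obtain ⟨wa, hza, ha4, ha8, hwa⟩ := hzval a hao hin.1
  obtain ⟨wb, hzb, hb4, hb8, hwb⟩ := hzval b hbo hin.2.1
  obtain ⟨wc, hzc, hc4, hc8, hwc⟩ := hzval c hco hin.2.2
  have hEz : m a * wa + m b * wb + m c * wc = 0 := by
    have h1 := congrFun hm z
    simp only [Finset.sum_apply, Pi.smul_apply, smul_eq_mul, hΘ0 z (by rw [hz]; norm_num)] at h1
    rw [hexp fun χ => (χ : G → ℂ) z, hza, hzb, hzc,
      show ((irrOne : IrrCharacter G) : G → ℂ) z = 1 from rfl] at h1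
    have hEd' : (1 : ℂ) + m a * d a + m b * d b + m c * d c = 0 := by exact_mod_cast hEd
    have h2 : (m a : ℂ) * wa + m b * wb + m c * wc = 0 := by linear_combination hEd' * (-1) - h1
    exact_mod_cast h2
  have hEsq : m a * wa ^ 2 * d b * d c + m b * wb ^ 2 * d a * d c + m c * wc ^ 2 * d a * d b = 0 := by
    have hΘz : ∀ g : G, Θ (g * z * g⁻¹ * z) = 0 := by
      intro g
      refine hΘ0 _ fun h4 => ?_
      have hyy : orderOf (g * z * g⁻¹) = 2 := (orderOf_conj_eq g z).trans hz
      have hev : Even (orderOf (g * z * g⁻¹ * z)) :=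
        even_iff_two_dvd.mpr ((by norm_num : 2 ∣ 4).trans h4)
      obtain ⟨ho, hco', hne'⟩ := mul_half_facts hyy hz (ne_of_even hev hyy) hev
      refine hne' (eq_of_commute_of_unique S (z := z) ?_ hyy ho hco').symm
      intro s hs hs2
      rcases hcases hs with h | h | h
      · rw [h, orderOf_one] at hs2; omega
      · exact h
      · omega
    have h1 : ∑ g : G, Θ (g * z * g⁻¹ * z) = 0 := Finset.sum_eq_zero fun g _ => hΘz g
    simp only [hm, Finset.sum_apply, Pi.smul_apply, smul_eq_mul] at h1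
    rw [Finset.sum_comm] at h1
    simp only [← Finset.mul_sum] at h1
    rw [hexp fun χ => ∑ g : G, (χ : G → ℂ) (g * z * g⁻¹ * z)] at h1
    have e1 := CfsgLib.CharBlocks.sum_conj_mul a.2 z z
    have e2 := CfsgLib.CharBlocks.sum_conj_mul b.2 z z
    have e3 := CfsgLib.CharBlocks.sum_conj_mul c.2 z z
    rw [hd, hza] at e1
    rw [hd, hzb] at e2
    rw [hd, hzc] at e3
    simp only [show ∀ g : G, ((irrOne : IrrCharacter G) : G → ℂ) g = 1 from fun _ => rfl,
      Finset.sum_const, Finset.card_univ, nsmul_eq_mul, mul_one,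
      ← Nat.card_eq_fintype_card] at h1
    have hEd' : (1 : ℂ) + m a * d a + m b * d b + m c * d c = 0 := by exact_mod_cast hEd
    have hEz' : (m a : ℂ) * wa + m b * wb + m c * wc = 0 := by exact_mod_cast hEz
    have h2 : (m a : ℂ) * wa ^ 2 * d b * d c + m b * wb ^ 2 * d a * d c + m c * wc ^ 2 * d a * d b = 0 := by
      refine mul_left_cancel₀ (card_ne_zero' (G := G)) ?_
      linear_combination (d a : ℂ) * d b * d c * h1 - (m a : ℂ) * d b * d c * e1 -
        (m b : ℂ) * d a * d c * e2 - (m c : ℂ) * d a * d b * e3 -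
        (Nat.card G : ℂ) * d a * d b * d c * hEd' -
        2 * (Nat.card G : ℂ) * d a * d b * d c * hEz'
    exact_mod_cast h2
  -- sign patterns
  have hpa : (0 : ℤ) < d a := by omega
  have hpb : (0 : ℤ) < d b := by omega
  have hpc : (0 : ℤ) < d c := by omega
  rcases hma with h4 | h4 <;> rcases hmb with h5 | h5 <;> rcases hmc with h6 | h6 <;>
    simp only [h4, h5, h6] at hEd hEz hEsq ha8 hb8 hc8
  · omega
  · exact hwa (q8_arith_pos (d1 := d a) (d2 := d b) (w2 := wb) hpa hpb (by
      rw [show (d a : ℤ) + d b + 1 = d c by linarith, show wa + wb = wc by linarith]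
      linear_combination hEsq))
  · exact hwa (q8_arith_pos (d1 := d a) (d2 := d c) (w2 := wc) hpa hpc (by
      rw [show (d a : ℤ) + d c + 1 = d b by linarith, show wa + wc = wb by linarith]
      linear_combination hEsq))
  · exact hwb (q8_arith_neg (d1 := d b) (d2 := d c) (w2 := wc) (by simpa [sub_eq_add_neg] using hb8) hb4
      (by simpa [sub_eq_add_neg] using hc8) hc4 (by
        rw [show (d b : ℤ) + d c - 1 = d a by linarith, show wb + wc = wa by linarith]
        linear_combination -hEsq))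
  · exact hwb (q8_arith_pos (d1 := d b) (d2 := d c) (w2 := wc) hpb hpc (by
      rw [show (d b : ℤ) + d c + 1 = d a by linarith, show wb + wc = wa by linarith]
      linear_combination hEsq))
  · exact hwa (q8_arith_neg (d1 := d a) (d2 := d c) (w2 := wc) (by simpa [sub_eq_add_neg] using ha8) ha4
      (by simpa [sub_eq_add_neg] using hc8) hc4 (by
        rw [show (d a : ℤ) + d c - 1 = d b by linarith, show wa + wc = wb by linarith]
        linear_combination -hEsq))
  · exact hwa (q8_arith_neg (d1 := d a) (d2 := d b) (w2 := wb) (by simpa [sub_eq_add_neg] using ha8) ha4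
      (by simpa [sub_eq_add_neg] using hb8) hb4 (by
        rw [show (d a : ℤ) + d b - 1 = d c by linarith, show wa + wb = wc by linarith]
        linear_combination -hEsq))
  · nlinarith [mul_pos (mul_pos (sq_pos_of_ne_zero hwa) hpb) hpc,
      mul_pos (mul_pos (sq_pos_of_ne_zero hwb) hpa) hpc,
      mul_pos (mul_pos (sq_pos_of_ne_zero hwc) hpa) hpb]

end CfsgLib.Invol
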