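import Mathlib
import Cfsg.Agent.Lib.Invol.ZStarBlocks
import Cfsg.Agent.Lib.Invol.ZStarQ8
import Cfsg.Agent.Lib.Invol.BrauerSuzuki
import Cfsg.Agent.S0016

/-!
# Glauberman's Z*-theorem and the Brauer–Suzuki theorem
-/

set_option autoImplicit false

universe u

namespace CfsgLib.Invol

open Cfsg CfsgLib.Char

/-- A character of a finite group containing `z` in its kernel forces a proper normal subgroup. -/
theorem false_of_char_kernel {G : Type*} [Group G] [Fintype G] {z : G}
    (hN : ∀ N : Subgroup G, N.Normal → z ∈ N → N = ⊤) {χ : G → ℂ} (hχ : IsIrrCharacter G χ)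
    (h1 : χ 1 ≠ 1) (hz : χ z = χ 1) : False :=
  h1 (linear_of_sq_eq hN hχ (by rw [hz]))

/-- The induction step of the Z*-theorem. -/
theorem zstar_step {G : Type*} [Group G] [Fintype G] (hC : ConstTwo G) {z : G}
    (hz : IsIsolatedInvolution z) (hO : oddCore G = ⊥)
    (hN : ∀ N : Subgroup G, N.Normal → z ∈ N → N = ⊤)
    (hcent : ∀ c : G, orderOf c = 2 → c ∈ Subgroup.center G → c = z)
    (hsub : ∀ H : Subgroup G, H ≠ ⊤ → z ∈ H → ∀ h ∈ H, ∃ N : Subgroup G, N ≤ H ∧
      Odd (Nat.card N) ∧ (∀ c ∈ H, ∀ k ∈ N, c * k * c⁻¹ ∈ N) ∧ z * h * z⁻¹ * h⁻¹ ∈ N) :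
    z ∈ Subgroup.center G := by
  classical
  by_contra hzc
  have hA : ∀ t : G, orderOf t = 2 → Commute t z → t = z := fun t ht htz =>
    no_second_involution hC hz hN hcent hsub ht htz
  have hzP : IsPGroup 2 (Subgroup.zpowers z) :=
    IsPGroup.of_card (n := 1) (by rw [Nat.card_zpowers, hz.1, pow_one])
  obtain ⟨S, hS⟩ := hzP.exists_le_sylow
  have hzS : z ∈ (S : Subgroup G) := hS (Subgroup.mem_zpowers z)
  have huniq : ∀ s ∈ (S : Subgroup G), orderOf s = 2 → s = z := by
    intro s hs hs2
    refine hA s hs2 ?_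
    have h1 := isolated_eq_of_isPGroup hz S.2 hzS s (mul_mem (mul_mem hs hzS) (inv_mem hs))
    exact mul_inv_eq_iff_eq_mul.mp h1
  have huS : ∀ H K : Subgroup (S : Subgroup G), Nat.card H = 2 → Nat.card K = 2 → H = K := by
    have hgen : ∀ H : Subgroup (S : Subgroup G), Nat.card H = 2 →
        H = Subgroup.zpowers (⟨z, hzS⟩ : (S : Subgroup G)) := by
      intro H hH
      obtain ⟨h, hh⟩ := exists_prime_orderOf_dvd_card' (G := H) 2 (by rw [hH])
      have h2 : orderOf ((h : (S : Subgroup G)) : G) = 2 := by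
        rw [Subgroup.orderOf_coe, Subgroup.orderOf_coe, hh]
      have h3 : (h : (S : Subgroup G)) = ⟨z, hzS⟩ := Subtype.ext (huniq _ (h : (S : Subgroup G)).2 h2)
      refine (Subgroup.eq_of_le_of_card_ge (Subgroup.zpowers_le.mpr (h3 ▸ h.2)) ?_).symm
      rw [hH, Nat.card_zpowers, Subgroup.orderOf_mk, hz.1]
    intro H K hH hK
    rw [hgen H hH, hgen K hK]
  have hcyc : ¬ IsCyclic (S : Subgroup G) := by
    intro hc
    apply hzc
    have heven : Even (Nat.card G) := even_iff_two_dvd.mpr (hz.1 ▸ orderOf_dvd_natCard z)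
    obtain ⟨ψ, -, hψ⟩ := exists_retraction_of_cyclic_sylow_two S hc heven
    have hker : ψ.ker = ⊥ := by
      rw [eq_bot_iff, ← hO]
      refine CfsgLib.Cores.le_oddCore_of_odd ?_
      rw [← Nat.not_even_iff_odd, even_iff_two_dvd]
      intro h2
      obtain ⟨k, hk⟩ := exists_prime_orderOf_dvd_card' (G := ψ.ker) 2 h2
      have hk1 := (hψ (k : G)).mp k.2
      rw [Subgroup.orderOf_coe, hk] at hk1
      exact absurd hk1 (by decide)
    refine Subgroup.mem_center_iff.mpr fun g => (MonoidHom.ker_eq_bot_iff ψ).mp hker ?_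
    rw [map_mul, map_mul]
    exact hc.isMulCommutative.is_comm.comm _ _
  rcases Cfsg.Agent.S0016.result 2 S.2 huS with hc | ⟨-, k, ⟨e⟩⟩
  · exact hcyc hc
  match k with
  | 0 => exact hcyc ((MulEquiv.isCyclic e).mpr QuaternionGroup.quaternionGroup_one_isCyclic)
  | 1 => exact q8_false hC S e hz.1 hzS hN
  | n + 2 =>
    obtain ⟨χ, hχ, -, h1, h2⟩ := quat16_kernel S n e hz.1 hzS
    exact false_of_char_kernel hN hχ h1 h2

/-- **Glauberman's Z*-theorem**, given the block theoretic constancy property. -/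
theorem zstar_of_const (hC : ∀ (G : Type u) [Group G] [Finite G], ConstTwo G) (G : Type u) [Group G]
    [Finite G] (z : G) (hz : IsIsolatedInvolution z) (hO : oddCore G = ⊥) :
    z ∈ Subgroup.center G := by
  suffices main : ∀ (n : ℕ) (G : Type u) [Group G] [Finite G], Nat.card G = n → ∀ z : G,
      IsIsolatedInvolution z → oddCore G = ⊥ → z ∈ Subgroup.center G from main _ G rfl z hz hO
  intro n
  induction n using Nat.strong_induction_on with
  | _ n ih =>
    intro G _ _ hn z hz hO
    subst hn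
    have := Fintype.ofFinite G
    have hzz := mul_self_of_orderOf_two hz.1
    by_cases hN : ∀ N : Subgroup G, N.Normal → z ∈ N → N = ⊤
    swap
    · -- a proper normal subgroup contains `z`
      push Not at hN
      obtain ⟨N, hNn, hzN, hne⟩ := hN
      have hlt : Nat.card N < Nat.card G := by
        rcases (Subgroup.card_le_card_group N).lt_or_eq with h | h
        · exact h
        · exact absurd (Subgroup.eq_top_of_card_eq N h) hne
      have hON : oddCore N = ⊥ := by
        have h := CfsgLib.Cores.pPrimeCore_of_normal 2 N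
        rw [show pPrimeCore 2 G = ⊥ from hO, bot_inf_eq] at h
        exact (Subgroup.map_eq_bot_iff_of_injective _ N.subtype_injective).mp h
      have hzc := ih _ hlt N rfl ⟨z, hzN⟩ (isolated_subtype hz N hzN) hON
      refine Subgroup.mem_center_iff.mpr fun g => ?_
      have h1 : Commute z (g * z * g⁻¹) := by
        have := Subgroup.mem_center_iff.mp hzc ⟨g * z * g⁻¹, hNn.conj_mem z hzN g⟩
        exact (congrArg Subtype.val this).symm
      exact mul_inv_eq_iff_eq_mul.mp (hz.2 g h1)
    by_cases hcent : ∀ c : G, orderOf c = 2 → c ∈ Subgroup.center G → c = z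
    swap
    · -- another central involution
      push Not at hcent
      obtain ⟨c, hc2, hcc, hcz⟩ := hcent
      set N := Subgroup.zpowers c
      have hNc : N ≤ Subgroup.center G := Subgroup.zpowers_le.mpr hcc
      have : N.Normal := ⟨fun k hk g => by
        rw [Subgroup.mem_center_iff.mp (hNc hk) g, mul_inv_cancel_right]; exact hk⟩
      have hN2 : Nat.card N = 2 := by rw [Nat.card_zpowers, hc2]
      have hzN : z ∉ N := by
        intro h
        obtain ⟨i, hi⟩ := Subgroup.mem_zpowers_iff.mp h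
        rcases Int.even_or_odd i with ⟨j, hj⟩ | ⟨j, hj⟩
        · rw [hj, ← two_mul, zpow_mul, zpow_two, mul_self_of_orderOf_two hc2, one_zpow] at hi
          exact ne_one_of_orderOf_two hz.1 hi.symm
        · rw [hj, zpow_add, zpow_mul, zpow_two, mul_self_of_orderOf_two hc2, one_zpow, one_mul,
            zpow_one] at hi
          exact hcz hi
      have hlt : Nat.card (G ⧸ N) < Nat.card G := by
        have h := N.card_mul_index
        rw [hN2, Subgroup.index_eq_card] at h
        have := Nat.card_pos (α := G ⧸ N)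
        omega
      set π := QuotientGroup.mk' N with hπ
      have hπz : π z ≠ 1 := fun h => hzN ((QuotientGroup.eq_one_iff z).mp h)
      have hzq := ih _ hlt (G ⧸ N) rfl (π z)
        (isolated_map hz π (QuotientGroup.mk'_surjective N) hπz)
        (oddCore_quotient_two hO N hN2 hNc)
      refine Subgroup.mem_center_iff.mpr fun g => mul_inv_eq_iff_eq_mul.mp ?_
      have hmem : z * (g * z * g⁻¹) ∈ N := by
        rw [← QuotientGroup.eq_one_iff, ← QuotientGroup.mk'_apply, ← hπ, map_mul, map_mul, map_mul,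
          map_inv, Subgroup.mem_center_iff.mp hzq (π g), mul_inv_cancel_right, ← map_mul, hzz, map_one]
      have hdvd := hN2 ▸ Subgroup.orderOf_dvd_natCard N hmem
      have h1 : z * (g * z * g⁻¹) = 1 := by
        rw [← orderOf_eq_one_iff]
        exact Nat.eq_one_of_dvd_coprimes (Nat.coprime_two_right.mpr (isolated_odd_mul_conj hz g))
          dvd_rfl hdvd
      rw [eq_inv_of_mul_eq_one_right h1, inv_eq_of_orderOf_two hz.1]
    refine zstar_step (hC G) hz hO hN hcent ?_
    intro H hH hzH h hh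
    have hlt : Nat.card H < Nat.card G := by
      rcases (Subgroup.card_le_card_group H).lt_or_eq with h' | h'
      · exact h'
      · exact absurd (Subgroup.eq_top_of_card_eq H h') hH
    set O := oddCore H
    have hOn : O.Normal := by
      have := CfsgLib.Cores.pPrimeCore_characteristic (G := H) 2
      infer_instance
    have hOodd : Odd (Nat.card O) := CfsgLib.Cores.odd_card_oddCore
    have hltq : Nat.card (H ⧸ O) < Nat.card G :=
      lt_of_le_of_lt (Nat.card_le_card_of_surjective _ (QuotientGroup.mk'_surjective O)) hlt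
    have hπz := map_ne_one_of_odd (show orderOf (⟨z, hzH⟩ : H) = 2 by
      rw [Subgroup.orderOf_mk]; exact hz.1) O hOodd
    have hzq := ih _ hltq (H ⧸ O) rfl _
      (isolated_map (isolated_subtype hz H hzH) _ (QuotientGroup.mk'_surjective O) hπz)
      (CfsgLib.Cores.pPrimeCore_quotient_self 2)
    refine ⟨O.map H.subtype, Subgroup.map_subtype_le _, ?_, ?_, ?_⟩
    · rwa [Subgroup.card_map_of_injective H.subtype_injective]
    · intro c hc k hk
      obtain ⟨k', hk', rfl⟩ := Subgroup.mem_map.mp hk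
      exact Subgroup.mem_map.mpr ⟨⟨c, hc⟩ * k' * ⟨c, hc⟩⁻¹, hOn.conj_mem _ hk' _, rfl⟩
    · refine Subgroup.mem_map.mpr ⟨⟨z, hzH⟩ * ⟨h, hh⟩ * ⟨z, hzH⟩⁻¹ * ⟨h, hh⟩⁻¹, ?_, rfl⟩
      rw [← QuotientGroup.eq_one_iff, ← QuotientGroup.mk'_apply]
      simp only [map_mul, map_inv]
      rw [← Subgroup.mem_center_iff.mp hzq]
      group

/-- The Z*-theorem in the form "central modulo the odd core". -/
theorem zstar_core (hC : ∀ (G : Type u) [Group G] [Finite G], ConstTwo G) {G : Type u} [Group G]
    [Finite G] {z : G} (hz : IsIsolatedInvolution z) (g : G) :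
    z * g * z⁻¹ * g⁻¹ ∈ oddCore G := by
  have hOn : (oddCore G).Normal := by
    have := CfsgLib.Cores.pPrimeCore_characteristic (G := G) 2
    infer_instance
  have hπz := map_ne_one_of_odd hz.1 (oddCore G) CfsgLib.Cores.odd_card_oddCore
  have hzq := zstar_of_const hC (G ⧸ oddCore G) _
    (isolated_map hz _ (QuotientGroup.mk'_surjective _) hπz)
    (CfsgLib.Cores.pPrimeCore_quotient_self 2)
  rw [← QuotientGroup.eq_one_iff, ← QuotientGroup.mk'_apply]
  simp only [map_mul, map_inv]
  rw [← Subgroup.mem_center_iff.mp hzq]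
  group

/-- Brauer–Suzuki: a unique involution of a Sylow 2-subgroup generates the centre when `O(G)=1`. -/
theorem card_center_of_unique_involution (hC : ∀ (G : Type u) [Group G] [Finite G], ConstTwo G)
    {G : Type u} [Group G] [Finite G] (S : Sylow 2 G) {z : G} (hz : orderOf z = 2)
    (hzS : z ∈ (S : Subgroup G)) (hu : ∀ s ∈ (S : Subgroup G), orderOf s = 2 → s = z)
    (hO : oddCore G = ⊥) (h2 : ∀ s ∈ (S : Subgroup G), (∀ t ∈ (S : Subgroup G), s * t = t * s) →
      s ^ 2 = 1) :
    Nat.card (Subgroup.center G) = 2 := by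
  have hiso := isolated_of_sylow S hz hzS fun g hg => hu _ hg ((orderOf_conj_eq g z).trans hz)
  have hzc := zstar_of_const hC G z hiso hO
  suffices h : Subgroup.center G = Subgroup.zpowers z by rw [h, Nat.card_zpowers, hz]
  refine le_antisymm ?_ (Subgroup.zpowers_le.mpr hzc)
  intro c hc
  -- the 2-part lies in `S`, the odd part is trivial
  obtain ⟨k, m, hm, hkm⟩ := Nat.exists_eq_two_pow_mul_odd (orderOf_pos c).ne'
  have hco : Odd (orderOf (c ^ 2 ^ k)) := by
    rw [orderOf_pow' c (by positivity), hkm, Nat.gcd_eq_right (dvd_mul_right _ _),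
      Nat.mul_div_cancel_left _ (by positivity)]
    exact hm
  have hc1 : c ^ 2 ^ k = 1 := by
    have hmem : c ^ 2 ^ k ∈ oddCore G := by
      have : (Subgroup.zpowers (c ^ 2 ^ k)).Normal := ⟨fun x hx g => by
        have hxc : x ∈ Subgroup.center G := Subgroup.zpowers_le.mpr (pow_mem hc _) hx
        rw [Subgroup.mem_center_iff.mp hxc g, mul_inv_cancel_right]; exact hx⟩
      exact CfsgLib.Cores.le_oddCore_of_odd (N := Subgroup.zpowers (c ^ 2 ^ k))
        (by rw [Nat.card_zpowers]; exact hco) (Subgroup.mem_zpowers _)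
    rwa [hO, Subgroup.mem_bot] at hmem
  have hP : IsPGroup 2 (Subgroup.zpowers c) := by
    obtain ⟨j, -, hj⟩ := (Nat.dvd_prime_pow Nat.prime_two).mp (orderOf_dvd_of_pow_eq_one hc1)
    exact IsPGroup.of_card (n := j) (by rw [Nat.card_zpowers, hj])
  obtain ⟨Q, hQ⟩ := hP.exists_le_sylow
  obtain ⟨h, hh⟩ := sylow_exists_conj S Q
  have hcS : c ∈ (S : Subgroup G) := by
    have := (hh c).mp (hQ (Subgroup.mem_zpowers c))
    rwa [mul_assoc, ← Subgroup.mem_center_iff.mp hc h, inv_mul_cancel_left] at this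
  have hc2 : c ^ 2 = 1 := h2 c hcS fun t _ => (Subgroup.mem_center_iff.mp hc t).symm
  rcases (Nat.dvd_prime Nat.prime_two).mp (orderOf_dvd_of_pow_eq_one hc2) with h1 | h1
  · rw [orderOf_eq_one_iff.mp h1]; exact one_mem _
  · rw [hu c hcS h1]; exact Subgroup.mem_zpowers z

end CfsgLib.Invol
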