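import Mathlib
import Cfsg.Agent.Lib.Invol.ZStar

/-!
# Consequences of the Z*-theorem (all relative to `ConstTwo`)
-/

set_option autoImplicit false

universe u

namespace CfsgLib.Invol

open Cfsg

theorem oddCore_eq_bot_of {G : Type*} [Group G] [Finite G]
    (hO : ∀ N : Subgroup G, N.Normal → Odd (Nat.card N) → N = ⊥) : oddCore G = ⊥ := by
  refine hO _ ?_ CfsgLib.Cores.odd_card_oddCore
  have := CfsgLib.Cores.pPrimeCore_characteristic (G := G) 2
  infer_instance

theorem zstar_normal_form (hC : ∀ (G : Type u) [Group G] [Finite G], ConstTwo G) {G : Type u} [Group G]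
    [Finite G] {z : G} (hz : IsIsolatedInvolution z) :
    ∃ N : Subgroup G, N.Normal ∧ Odd (Nat.card N) ∧ ∀ g : G, z * g * z⁻¹ * g⁻¹ ∈ N := by
  refine ⟨oddCore G, ?_, CfsgLib.Cores.odd_card_oddCore, fun g => zstar_core hC hz g⟩
  have := CfsgLib.Cores.pPrimeCore_characteristic (G := G) 2
  infer_instance

theorem brauer_suzuki (hC : ∀ (G : Type u) [Group G] [Finite G], ConstTwo G) {G : Type u} [Group G]
    [Finite G] (S : Sylow 2 G) (n : ℕ) (e : (S : Subgroup G) ≃* QuaternionGroup (2 ^ (n + 1)))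
    (hO : ∀ N : Subgroup G, N.Normal → Odd (Nat.card N) → N = ⊥) :
    Nat.card (Subgroup.center G) = 2 := by
  obtain ⟨x, y, hxS, hyS, hox, hoy, hyx, hyy, hS⟩ := quaternion_gens (S : Subgroup G) n e
  have hz : orderOf (x ^ 2 ^ (n + 1)) = 2 := by
    rw [orderOf_pow' x (by positivity), hox, Nat.gcd_eq_right (pow_dvd_pow 2 (by omega)),
      Nat.pow_div (by omega) (by norm_num), show n + 2 - (n + 1) = 1 by omega, pow_one]
  refine card_center_of_unique_involution hC S hz (pow_mem hxS _)
    (fun s hs hs2 => quaternion_unique hox hoy hyx hS hs hs2) (oddCore_eq_bot_of hO) ?_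
  intro s hs hcen
  obtain ⟨i, rfl | rfl⟩ := hS s hs
  · have h1 : y * x ^ i * y⁻¹ = x ^ i := by rw [← hcen y hyS, mul_inv_cancel_right]
    rw [← conj_pow, hyx, inv_pow] at h1
    rw [sq]
    exact (congrArg (· * x ^ i) h1).symm.trans (inv_mul_cancel _)
  · exfalso
    have h1 := hcen x hxS
    rw [mul_assoc, (Commute.pow_self x i).eq, ← mul_assoc, ← mul_assoc] at h1
    have h2 : x⁻¹ = x := by rw [← hyx, mul_right_cancel h1, mul_inv_cancel_right]
    have h3 : orderOf x ∣ 2 := orderOf_dvd_of_pow_eq_one (by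
      rw [sq]; exact (congrArg (· * x) h2).symm.trans (inv_mul_cancel x))
    rw [hox] at h3
    have := Nat.le_of_dvd (by norm_num) h3
    have : 2 ^ 2 ≤ 2 ^ (n + 2) := Nat.pow_le_pow_right (by norm_num) (by omega)
    omega

theorem exists_klein {G : Type*} [Group G] {a b : G} (ha : orderOf a = 2) (hb : orderOf b = 2)
    (hc : Commute a b) (hne : a ≠ b) : ∃ E : Subgroup G, IsKleinFour E := by
  have haa := mul_self_of_orderOf_two ha
  have hbb := mul_self_of_orderOf_two hb
  have hba : b * a = a * b := hc.eq.symm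
  have hab : a * b ≠ 1 := fun h => hne (by
    rw [← inv_eq_of_mul_eq_one_right haa, inv_eq_of_mul_eq_one_right h])
  have ha1 : a ≠ 1 := ne_one_of_orderOf_two ha
  have hb1 : b ≠ 1 := ne_one_of_orderOf_two hb
  have h1 : ∀ t : G, a * (a * t) = t := fun t => by rw [← mul_assoc, haa, one_mul]
  have h2 : ∀ t : G, b * (a * t) = a * (b * t) := fun t => by rw [← mul_assoc, hba, mul_assoc]
  have h3 : ∀ t : G, b * (b * t) = t := fun t => by rw [← mul_assoc, hbb, one_mul]
  let E : Subgroup G :=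
    { carrier := {1, a, b, a * b}
      one_mem' := by simp
      mul_mem' := by
        rintro u v (rfl | rfl | rfl | rfl) (rfl | rfl | rfl | rfl) <;>
          simp [mul_assoc, haa, hbb, hba, h1, h2, h3]
      inv_mem' := by
        rintro u (rfl | rfl | rfl | rfl) <;>
          simp [inv_eq_of_mul_eq_one_right haa, inv_eq_of_mul_eq_one_right hbb, hba] }
  have hE : Nat.card E = 4 := by
    show Nat.card ({1, a, b, a * b} : Set G) = 4
    rw [Nat.card_coe_set_eq, Set.ncard_insert_of_notMem, Set.ncard_insert_of_notMem,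
      Set.ncard_pair]
    · intro h; exact ha1 (mul_eq_right.mp h.symm)
    · simp [hne, ha1, hb1]
    · simp [ha1.symm, hb1.symm, hab.symm]
  have : Nontrivial E := by
    refine ⟨⟨1, ⟨a, Or.inr (Or.inl rfl)⟩, fun h => ha1 (congrArg Subtype.val h).symm⟩⟩
  refine ⟨E, hE, (Monoid.exponent_eq_prime_iff Nat.prime_two).mpr fun g hg => ?_⟩
  refine orderOf_eq_prime ?_ hg
  obtain ⟨g, hgE⟩ := g
  apply Subtype.ext
  show g ^ 2 = 1
  rcases hgE with rfl | rfl | rfl | rfl <;> simp [sq, mul_assoc, haa, hbb, hba, h1, h2, h3]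

theorem two_rank_one (hC : ∀ (G : Type u) [Group G] [Finite G], ConstTwo G) {G : Type u} [Group G]
    [Finite G] (heven : Even (Nat.card G)) (hrank : ∀ E : Subgroup G, ¬ IsKleinFour E) :
    ∃ z : G, orderOf z = 2 ∧ ∃ N : Subgroup G, N.Normal ∧ Odd (Nat.card N) ∧
      ∀ g : G, z * g * z⁻¹ * g⁻¹ ∈ N := by
  obtain ⟨z, hz⟩ := exists_prime_orderOf_dvd_card' (G := G) 2 heven.two_dvd
  exact ⟨z, hz, zstar_normal_form hC ⟨hz, fun g hc => by
    by_contra hne
    obtain ⟨E, hE⟩ := exists_klein hz ((orderOf_conj_eq g z).trans hz) hc (fun h => hne h.symm)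
    exact hrank E hE⟩⟩

theorem cyclic_sylow_involution_closure (hC : ∀ (G : Type u) [Group G] [Finite G], ConstTwo G)
    {G : Type u} [Group G] [Finite G] (S : Sylow 2 G) (n : ℕ)
    (e : (S : Subgroup G) ≃* QuaternionGroup (2 ^ (n + 1)))
    (Q : Sylow 2 ↥(Subgroup.closure {g : G | orderOf g = 2})) : IsCyclic Q := by
  obtain ⟨x, y, hxS, hyS, hox, hoy, hyx, hyy, hS⟩ := quaternion_gens (S : Subgroup G) n e
  set z := x ^ 2 ^ (n + 1) with hzdef
  have hz : orderOf z = 2 := by
    rw [hzdef, orderOf_pow' x (by positivity), hox, Nat.gcd_eq_right (pow_dvd_pow 2 (by omega)),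
      Nat.pow_div (by omega) (by norm_num), show n + 2 - (n + 1) = 1 by omega, pow_one]
  have hu : ∀ s ∈ (S : Subgroup G), orderOf s = 2 → s = z :=
    fun s hs hs2 => quaternion_unique hox hoy hyx hS hs hs2
  have hiso : IsIsolatedInvolution z :=
    ⟨hz, fun g hc => (eq_of_commute_of_unique S hu hz ((orderOf_conj_eq g z).trans hz) hc).symm⟩
  set O := oddCore G
  have hOn : O.Normal := by
    have := CfsgLib.Cores.pPrimeCore_characteristic (G := G) 2
    infer_instance
  have hle : Subgroup.closure {g : G | orderOf g = 2} ≤ O ⊔ Subgroup.zpowers z := by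
    rw [Subgroup.closure_le]
    intro t ht
    obtain ⟨Q', htQ, -⟩ := exists_sylow_of_commute (mul_self_of_orderOf_two ht)
      (mul_self_of_orderOf_two ht) (Commute.refl t)
    obtain ⟨h, hh⟩ := sylow_exists_conj S Q'
    have h1 := hu _ ((hh t).mp htQ) (by
      have := orderOf_conj_eq h⁻¹ t
      rwa [inv_inv, ht] at this)
    have h2 := zstar_core hC hiso h
    have h3 : h * z * h⁻¹ = (z * h * z⁻¹ * h⁻¹)⁻¹ * z := by group
    rw [SetLike.mem_coe, show t = h * z * h⁻¹ by rw [← h1]; group, h3]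
    exact Subgroup.mul_mem_sup (inv_mem h2) (Subgroup.mem_zpowers z)
  have hdvd : Nat.card (Q : Subgroup ↥(Subgroup.closure {g : G | orderOf g = 2})) ∣ Nat.card O * 2 := by
    refine (Subgroup.card_subgroup_dvd_card _).trans ((Subgroup.card_dvd_of_le hle).trans ?_)
    have := CfsgLib.Cores.card_sup_dvd_mul O (Subgroup.zpowers z)
    rwa [Nat.card_zpowers, hz] at this
  obtain ⟨k, hk⟩ := Q.2.exists_card_eq
  rw [hk] at hdvd
  have h2k : 2 ^ k ∣ 2 :=
    ((Nat.coprime_two_left.mpr CfsgLib.Cores.odd_card_oddCore).pow_left k).dvd_of_dvd_mul_left hdvd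
  rcases (Nat.dvd_prime Nat.prime_two).mp h2k with h | h
  · have := (Nat.card_eq_one_iff_unique.mp (hk.trans h)).1
    exact isCyclic_of_subsingleton
  · exact isCyclic_of_prime_card (p := 2) (hk.trans h)

end CfsgLib.Invol
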