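import Mathlib
import Cfsg.Agent.Lib.Blocks.Higman
import Cfsg.Agent.Lib.Blocks.Basic
import Cfsg.Agent.Lib.CharNormal.Basic

/-!
# A relative form of the Higman trace lemma and averaged idempotents
-/

set_option autoImplicit false

noncomputable section

namespace CfsgLib.Invol

open Cfsg CfsgLib.Blocks Matrix
open scoped ComplexConjugate

section trace

variable {ι : Type*} [Fintype ι] [DecidableEq ι] {M : Ideal AlgInt} [M.IsMaximal]

/-- An idempotent vanishing mod `M` on the fixed points of a monomial action, whose other cycles have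
length divisible by `p`, has twisted trace zero. -/
theorem trace_eq_zero_of_fixed {p : ℕ} (hM : IsPModular p M) (σ : Equiv.Perm ι) (F : ι → Prop)
    [DecidablePred F] (hF : ∀ i, F (σ i) ↔ F i)
    (hcyc : ∀ (i : ι) (n : ℕ), ¬ F i → (σ ^ n) i = i → p ∣ n)
    {E P : Matrix ι ι (locRing M)} (hP : ∀ i j, P i j = if i = σ j then 1 else 0)
    (hE : E * E = E) (hEP : E * P = P * E)
    (hEF : ∀ i j, F i → F j → res M (E i j) = 0) : (E * P).trace = 0 := by
  have hp := hM.1
  let _ : Field (Res M) := Ideal.Quotient.field M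
  have hζ := Complex.isPrimitiveRoot_exp p hp.ne_zero
  set ζ₀ : AlgInt := ⟨_, hζ.isIntegral hp.pos⟩
  set ζ : locRing M := ofInt M ζ₀
  have hζp : ζ ^ p = 1 := Subtype.ext (by push_cast; exact hζ.pow_eq_one)
  have hζ1 : ζ ≠ 1 := fun h => hζ.ne_one hp.one_lt (congrArg Subtype.val h)
  let σR : Equiv.Perm {i // ¬ F i} := σ.subtypePerm (fun i => not_congr (hF i))
  have hσR : ∀ (n : ℕ) (i : {i // ¬ F i}), (((σR ^ n) i : {i // ¬ F i}) : ι) = (σ ^ n) (i : ι) := by
    intro n
    induction n with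
    | zero => intro i; simp
    | succ n ih =>
      intro i
      rw [pow_succ', pow_succ', Equiv.Perm.mul_apply, Equiv.Perm.mul_apply, Equiv.Perm.subtypePerm_apply]
      exact congrArg σ (ih i)
  obtain ⟨w₀, hwp, hwσ⟩ := exists_grading σR hζp (fun i n h =>
    hcyc i n i.2 ((hσR n i).symm.trans (congrArg Subtype.val h)))
  obtain ⟨w, hwσ', hw1⟩ : ∃ w : ι → locRing M, (∀ i, w (σ i) = ζ * w i) ∧
      ∀ i, res M (w i) = 1 - (if F i then 1 else 0) := by
    refine ⟨fun i => if h : F i then 0 else w₀ ⟨i, h⟩, fun i => ?_, fun i => ?_⟩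
    · by_cases h : F i
      · simp [h, (hF i).mpr h]
      · simp only [dif_neg h, dif_neg (mt (hF i).mp h)]
        exact hwσ ⟨i, h⟩
    · by_cases h : F i
      · simp [h]
      · simp only [dif_neg h, if_neg h, sub_zero]
        exact res_pPow_rootOfUnity M hM (k := 1) (by rw [pow_one]; exact hwp _)
  set T : Matrix ι ι (locRing M) := Matrix.diagonal w with hT
  have hPT : T * P = ζ • (P * T) := by
    ext i j
    rw [Matrix.smul_apply, Matrix.diagonal_mul, Matrix.mul_diagonal, hP, smul_eq_mul]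
    split_ifs with h
    · subst h; rw [hwσ']; ring_nf
    · simp
  set D : Matrix ι ι (Res M) := Matrix.diagonal fun i => if F i then 1 else 0 with hD
  have hT1 : (res M).mapMatrix T = 1 - D := by
    change T.map (res M) = _
    rw [hT, Matrix.diagonal_map (map_zero _), hD, ← Matrix.diagonal_one, Matrix.diagonal_sub]
    exact congrArg Matrix.diagonal (funext hw1)
  set X := 1 - E + E * T * E with hXdef
  have hX : IsUnit X := by
    set E' := (res M).mapMatrix E with hE'
    have hEE : E' * E' = E' := by rw [hE', ← map_mul, hE]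
    have hDED : D * E' * D = 0 := by
      ext i j
      rw [hD, Matrix.mul_diagonal, Matrix.diagonal_mul, Matrix.zero_apply]
      by_cases hi : F i <;> by_cases hj : F j <;> simp [hi, hj]
      exact hEF i j hi hj
    set N0 := E' * D * E' with hN0
    have hres : (res M).mapMatrix X = 1 - N0 := by
      rw [hXdef, map_add, map_sub, map_one, map_mul, map_mul, hT1, ← hE', hN0, mul_sub, mul_one,
        sub_mul, hEE]
      abel
    have hsq : N0 * N0 = 0 := by
      calc N0 * N0 = E' * (D * (E' * E') * D) * E' := by rw [hN0]; simp only [mul_assoc]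
        _ = 0 := by rw [hEE, hDED, mul_zero, zero_mul]
    have hu : IsUnit ((res M).mapMatrix X) :=
      Matrix.isUnit_iff_isUnit_det _ |>.mpr (Matrix.isUnit_det_of_right_inverse
        (B := 1 + N0) (by rw [hres, mul_add, mul_one, sub_mul, one_mul, hsq]; abel))
    rw [Matrix.isUnit_iff_isUnit_det, isUnit_iff_res_ne_zero, RingHom.map_det]
    exact ((Matrix.isUnit_iff_isUnit_det _).mp hu).ne_zero
  have h1 : X * (E * P) = ζ • ((E * P) * X) := by
    have hl : X * (E * P) = E * (T * P) * E := by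
      rw [hXdef, add_mul, sub_mul, one_mul]
      have : E * (E * P) = E * P := by rw [← mul_assoc, hE]
      rw [this, sub_self, zero_add, mul_assoc (E * T), ← mul_assoc E E, hE, hEP]
      simp only [mul_assoc]
    have hr : (E * P) * X = E * (P * T) * E := by
      rw [hXdef, mul_add, mul_sub, mul_one]
      have : E * P * E = E * P := by rw [mul_assoc, ← hEP, ← mul_assoc, hE]
      rw [this, sub_self, zero_add, ← mul_assoc, ← mul_assoc, this]
      simp only [mul_assoc]
    rw [hl, hr, hPT, Matrix.mul_smul, Matrix.smul_mul]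
  have hinv : ζ * ζ ^ (p - 1) = 1 := by rw [← pow_succ', Nat.sub_add_cancel hp.pos, hζp]
  refine trace_eq_zero_of_twist hX (c := ζ ^ (p - 1)) (fun hc => hζ1 ?_) ?_
  · rw [hc, mul_one] at hinv
    exact hinv
  · rw [h1, smul_smul, mul_comm, hinv, one_smul]

end trace

variable {G : Type*} [Group G] [Fintype G]

/-- The block idempotent acts as the identity on the members of the block. -/
theorem sum_blockCoeff_mul_apply {B : Set (IrrCharacter G)} {χ : IrrCharacter G} (hχ : χ ∈ B)
    (m : G) : ∑ x : G, blockCoeff B x * (χ : G → ℂ) (x * m) = (χ : G → ℂ) m := by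
  classical
  simp only [blockCoeff_eq, mul_assoc, ← Finset.mul_sum, Finset.sum_mul]
  rw [Finset.sum_comm, Finset.sum_eq_single χ]
  · have h := CfsgLib.CharNormal.sum_conj_irr_mul_apply_mul χ.2 χ.2 m
    rw [if_pos rfl] at h
    simp only [if_pos hχ, mul_assoc, ← Finset.mul_sum]
    rw [Finset.sum_congr rfl fun x _ => by
      rw [CfsgLib.Char.char_mul_comm' (CfsgLib.Char.isCharacter_of_isIrr χ.2) x m], h]
    field_simp [CfsgLib.Char.card_ne_zero' (G := G), CfsgLib.Char.irr_one_ne_zero χ.2]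
  · intro η _ hη
    split_ifs
    · have h := CfsgLib.CharNormal.sum_conj_irr_mul_apply_mul χ.2 η.2 m
      rw [if_neg fun h => hη (Subtype.ext h.symm)] at h
      simp only [mul_assoc, ← Finset.mul_sum]
      rw [Finset.sum_congr rfl fun x _ => by
        rw [CfsgLib.Char.char_mul_comm' (CfsgLib.Char.isCharacter_of_isIrr χ.2) x m], h, mul_zero]
    · simp
  · intro h; exact absurd (Finset.mem_univ χ) h

/-- Multiplying a central idempotent function by the complement of an averaging idempotent gives an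
idempotent. -/
theorem averaged_idem (e : G → ℂ) (hecf : ∀ a b, e (a * b) = e (b * a))
    (hee : ∀ x, ∑ a : G, e a * e (a⁻¹ * x) = e x) (N : Subgroup G) [Fintype N] (x : G) :
    ∑ a : G, (e a - (Nat.card N : ℂ)⁻¹ * ∑ n : N, e (a * n)) *
        (e (a⁻¹ * x) - (Nat.card N : ℂ)⁻¹ * ∑ n : N, e (a⁻¹ * x * n)) =
      e x - (Nat.card N : ℂ)⁻¹ * ∑ n : N, e (x * n) := by
  have hcard : (Nat.card N : ℂ) ≠ 0 := by exact_mod_cast Nat.card_pos.ne'
  set r : ℂ := (Nat.card N : ℂ)⁻¹ with hr
  have heen : ∀ (x : G) (n : G), ∑ a : G, e (a * n) * e (a⁻¹ * x) = e (x * n) := by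
    intro x n
    rw [← hee (x * n)]
    refine Fintype.sum_equiv (Equiv.mulRight n) _ _ fun a => ?_
    congr 1
    rw [Equiv.coe_mulRight, hecf (a * n)⁻¹ (x * n)]
    rw [hecf a⁻¹ x]
    group
  have h2 : ∑ a : G, e a * ∑ n : N, e (a⁻¹ * x * n) = ∑ n : N, e (x * n) := by
    simp only [Finset.mul_sum]
    rw [Finset.sum_comm]
    refine Finset.sum_congr rfl fun n _ => ?_
    rw [← hee (x * n)]
    exact Finset.sum_congr rfl fun a _ => by rw [mul_assoc a⁻¹]
  have h3 : ∑ a : G, (∑ n : N, e (a * n)) * e (a⁻¹ * x) = ∑ n : N, e (x * n) := by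
    simp only [Finset.sum_mul]
    rw [Finset.sum_comm]
    exact Finset.sum_congr rfl fun n _ => heen x n
  have h4 : ∑ a : G, (∑ n : N, e (a * n)) * ∑ n : N, e (a⁻¹ * x * n) =
      (Nat.card N : ℂ) * ∑ n : N, e (x * n) := by
    have hone : ∀ n' : N, ∑ a : G, (∑ n : N, e (a * n)) * e (a⁻¹ * x * n') = ∑ n : N, e (x * n) := by
      intro n'
      simp only [Finset.sum_mul]
      rw [Finset.sum_comm, Finset.sum_congr rfl fun (n : N) _ =>
        (show ∑ a : G, e (a * n) * e (a⁻¹ * x * n') = e (x * n' * n) by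
          rw [← heen (x * (n' : G)) (n : G)]
          exact Finset.sum_congr rfl fun a _ => by rw [mul_assoc a⁻¹ x])]
      exact Fintype.sum_equiv (Equiv.mulLeft n') _ _ fun n => by simp [mul_assoc]
    rw [Finset.sum_congr rfl fun a _ => Finset.mul_sum _ _ _, Finset.sum_comm, Finset.sum_congr rfl fun n' _ => hone n', Finset.sum_const, Finset.card_univ,
      ← Nat.card_eq_fintype_card, nsmul_eq_mul]
  have hexp : ∀ a : G, (e a - r * ∑ n : N, e (a * n)) * (e (a⁻¹ * x) - r * ∑ n : N, e (a⁻¹ * x * n)) =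
      e a * e (a⁻¹ * x) - r * (e a * ∑ n : N, e (a⁻¹ * x * n))
      - r * ((∑ n : N, e (a * n)) * e (a⁻¹ * x))
      + r * r * ((∑ n : N, e (a * n)) * ∑ n : N, e (a⁻¹ * x * n)) := fun a => by ring
  rw [Finset.sum_congr rfl fun a _ => hexp a, Finset.sum_add_distrib, Finset.sum_sub_distrib,
    Finset.sum_sub_distrib, ← Finset.mul_sum, ← Finset.mul_sum, ← Finset.mul_sum, hee, h2, h3, h4]
  have : r * r * ((Nat.card N : ℂ) * ∑ n : N, e (x * n)) = r * ∑ n : N, e (x * n) := by
    rw [hr]; field_simp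
  rw [this]; ring

/-- An exponent extracting `p`-parts. -/
theorem exists_pPart_exponent (p : ℕ) (hp : p.Prime) (G : Type*) [Group G] [Finite G] :
    ∃ E a : ℕ, (∀ x : G, (x ^ a) ^ p ^ E = 1) ∧ (∀ x : G, (∃ k, orderOf x = p ^ k) → x ^ a = x) ∧
      ∀ x : G, ¬ p ∣ orderOf x → x ^ a = 1 := by
  set E0 := (Nat.card G).factorization p with hE0
  set m0 := Nat.card G / p ^ E0 with hm0
  have hsplit : p ^ E0 * m0 = Nat.card G := Nat.ordProj_mul_ordCompl_eq_self _ p
  have hco : Nat.Coprime m0 (p ^ E0) :=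
    ((Nat.coprime_ordCompl hp Nat.card_pos.ne').symm).pow_right _
  obtain ⟨r0, hr0⟩ : ∃ r0, m0 * r0 ≡ 1 [MOD p ^ E0] := by
    rcases Nat.eq_or_lt_of_le (Nat.one_le_pow E0 p hp.pos) with h | h
    · exact ⟨0, by rw [← h]; exact Nat.modEq_one⟩
    · obtain ⟨r0, -, hr0⟩ := Nat.exists_mul_mod_eq_one_of_coprime hco h
      exact ⟨r0, by rw [Nat.ModEq, hr0, Nat.mod_eq_of_lt h]⟩
  refine ⟨E0, m0 * r0, fun x => ?_, fun x ⟨k, hk⟩ => ?_, fun x hx => ?_⟩
  · rw [← pow_mul, show m0 * r0 * p ^ E0 = Nat.card G * r0 by rw [← hsplit]; ring, pow_mul,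
      pow_card_eq_one', one_pow]
  · have hkE : p ^ k ∣ p ^ E0 :=
      (Nat.Coprime.pow_left k (Nat.coprime_ordCompl hp Nat.card_pos.ne')).dvd_of_dvd_mul_right
        (hsplit.symm ▸ hk ▸ orderOf_dvd_natCard x)
    conv_rhs => rw [← pow_one x]
    rw [pow_eq_pow_iff_modEq, hk]
    exact hr0.of_dvd hkE
  · have h2 : orderOf x ∣ m0 :=
      Nat.Coprime.dvd_of_dvd_mul_left ((hp.coprime_iff_not_dvd.mpr hx).symm.pow_right E0)
        (hsplit.symm ▸ orderOf_dvd_natCard x)
    rw [pow_mul, orderOf_dvd_iff_pow_eq_one.mp h2, one_pow]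

end CfsgLib.Invol
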