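import Mathlib
import Cfsg.Agent.Lib.Invol.HigmanFixed
import Cfsg.Agent.Lib.Blocks.GroupAlgebra

/-!
# Twisted traces of an idempotent vanishing mod `M` on a centralizer
-/

set_option autoImplicit false

noncomputable section

namespace CfsgLib.Invol

open Cfsg CfsgLib.Blocks Matrix

variable {M : Ideal AlgInt} [M.IsMaximal] {G : Type*} [Group G] [Fintype G] {p : ℕ}

/-- If an idempotent function fixed by conjugation by `g` vanishes mod `M` on the centralizer of the
`p`-part of `g`, all its traces twisted by `g` vanish. -/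
theorem twisted_trace_zero (hM : IsPModular p M) (f : G → ℂ) (hfloc : ∀ x, f x ∈ locRing M)
    (hff : ∀ x, ∑ a : G, f a * f (a⁻¹ * x) = f x) {g u : G} (hfg : ∀ z, f (g * z * g⁻¹) = f z)
    {E0 a0 : ℕ} (hpp : ∀ x : G, (x ^ a0) ^ p ^ E0 = 1) (hga : g ^ a0 = u)
    (hres : ∀ c : G, c * u = u * c → res M (⟨f c, hfloc c⟩ : locRing M) = 0) (y : G) :
    ∑ k : G, f (k * y * k⁻¹ * g⁻¹) = 0 := by
  classical
  have hp := hM.1
  let σ : Equiv.Perm G := (Equiv.mulLeft g).trans (Equiv.mulRight y⁻¹)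
  have hσ : ∀ (n : ℕ) (k : G), (σ ^ n) k = g ^ n * k * (y ^ n)⁻¹ := by
    intro n
    induction n with
    | zero => intro k; simp
    | succ n ih =>
      intro k
      rw [pow_succ', Equiv.Perm.mul_apply, ih]
      change g * (g ^ n * k * (y ^ n)⁻¹) * y⁻¹ = _
      rw [pow_succ' g, pow_succ' y, _root_.mul_inv_rev]
      group
  let F : G → Prop := fun k => u * k = k * y ^ a0
  have hug : Commute u g := hga ▸ Commute.pow_self g a0
  have hya : Commute (y ^ a0) y := Commute.pow_self y a0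
  have hF : ∀ k, F (σ k) ↔ F k := by
    intro k
    change u * (g * k * y⁻¹) = g * k * y⁻¹ * y ^ a0 ↔ u * k = k * y ^ a0
    rw [show u * (g * k * y⁻¹) = (u * g) * k * y⁻¹ by group, hug.eq,
      mul_assoc (g * k) y⁻¹, ← hya.inv_right.eq]
    simp only [← mul_assoc]
    rw [mul_left_inj, mul_assoc g u k, mul_assoc g k, mul_right_inj]
  have hcyc : ∀ (k : G) (n : ℕ), ¬ F k → (σ ^ n) k = k → p ∣ n := by
    intro k n hk hn
    by_contra hpn
    apply hk
    rw [hσ, mul_inv_eq_iff_eq_mul] at hn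
    have h1 : SemiconjBy k (y ^ n) (g ^ n) := hn.symm
    have h2 := h1.pow_right a0
    rw [← pow_mul, ← pow_mul, mul_comm n, pow_mul y, pow_mul g, hga] at h2
    obtain ⟨s, hs⟩ : ∃ s, n * s ≡ 1 [MOD p ^ E0] := by
      rcases Nat.eq_or_lt_of_le (Nat.one_le_pow E0 p hp.pos) with h | h
      · exact ⟨0, by rw [← h]; exact Nat.modEq_one⟩
      · obtain ⟨s, -, hs⟩ := Nat.exists_mul_mod_eq_one_of_coprime
          (((hp.coprime_iff_not_dvd.mpr hpn).symm).pow_right E0) h
        exact ⟨s, by rw [Nat.ModEq, hs, Nat.mod_eq_of_lt h]⟩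
    have h3 := h2.pow_right s
    rw [← pow_mul (y ^ a0), ← pow_mul u] at h3
    have hred1 : ∀ t : G, t ^ (p ^ E0) = 1 → t ^ (n * s) = t := fun t ht => by
      conv_rhs => rw [← pow_one t]
      rw [pow_eq_pow_iff_modEq]
      exact hs.of_dvd (orderOf_dvd_of_pow_eq_one ht)
    rw [hred1 _ (hpp y), hred1 u (hga ▸ hpp g)] at h3
    exact h3.eq.symm
  let E : Matrix G G (locRing M) := fun i j => ⟨f (i * j⁻¹), hfloc _⟩
  let P : Matrix G G (locRing M) := fun i j => if i = σ j then 1 else 0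
  have hE : E * E = E := by
    ext i j
    rw [Matrix.mul_apply, AddSubmonoidClass.coe_finsetSum]
    refine (Fintype.sum_equiv ((Equiv.inv G).trans (Equiv.mulLeft i)) _ _ (fun k => ?_)).trans
      (hff (i * j⁻¹))
    simp only [E, Subring.coe_mul, Equiv.trans_apply, Equiv.inv_apply, Equiv.coe_mulLeft]
    congr 2
    group
  have hEP : E * P = P * E := by
    ext i j
    rw [Matrix.mul_apply, Matrix.mul_apply, Finset.sum_eq_single (σ j)
      (fun b _ hb => by simp [P, hb]) (by simp), Finset.sum_eq_single (σ.symm i)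
      (fun b _ hb => by
        simp only [P]; rw [if_neg, zero_mul]
        exact fun h => hb (by rw [h, Equiv.symm_apply_apply])) (by simp)]
    have hs : σ.symm i = g⁻¹ * i * y := by
      rw [Equiv.symm_apply_eq]
      change i = g * (g⁻¹ * i * y) * y⁻¹
      group
    simp only [P, Equiv.apply_symm_apply, if_true, one_mul, mul_one]
    rw [hs]
    change f (i * (g * j * y⁻¹)⁻¹) = f (g⁻¹ * i * y * j⁻¹)
    rw [← hfg (g⁻¹ * i * y * j⁻¹)]
    congr 1
    group
  have hEF : ∀ i j, F i → F j → res M (E i j) = 0 := by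
    intro i j hi hj
    refine hres _ ?_
    have hj' : y ^ a0 * j⁻¹ = j⁻¹ * u := by
      rw [eq_inv_mul_iff_mul_eq, ← mul_assoc, ← show u * j = j * y ^ a0 from hj, mul_inv_cancel_right]
    calc i * j⁻¹ * u = i * (y ^ a0 * j⁻¹) := by rw [hj', mul_assoc]
      _ = u * (i * j⁻¹) := by rw [← mul_assoc, ← show u * i = i * y ^ a0 from hi, mul_assoc]
  have htr := trace_eq_zero_of_fixed hM σ F hF hcyc (P := P) (fun i j => rfl) hE hEP hEF
  refine Eq.trans ?_ (congrArg Subtype.val htr)
  rw [Matrix.trace, AddSubmonoidClass.coe_finsetSum]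
  refine Finset.sum_congr rfl (fun k _ => ?_)
  rw [Matrix.diag_apply, Matrix.mul_apply, Finset.sum_eq_single (σ k)
      (fun b _ hb => by simp [P, hb]) (by simp)]
  simp only [P, if_true, mul_one]
  change _ = f (k * (g * k * y⁻¹)⁻¹)
  congr 1
  group

/-- Orthogonality of an irreducible character against vanishing twisted traces. -/
theorem sum_eq_zero_of_twisted {χ : G → ℂ} (hχ : IsClassFunction G χ) (f : G → ℂ) {g : G}
    (h : ∀ y, ∑ k : G, f (k * y * k⁻¹ * g⁻¹) = 0) : ∑ z : G, f z * χ (z * g) = 0 := by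
  have h0 : ∑ y : G, χ y * ∑ k : G, f (k * y * k⁻¹ * g⁻¹) = 0 :=
    Finset.sum_eq_zero fun y _ => by rw [h y, mul_zero]
  simp only [Finset.mul_sum] at h0
  rw [Finset.sum_comm] at h0
  have hin : ∀ k : G, ∑ y : G, χ y * f (k * y * k⁻¹ * g⁻¹) = ∑ z : G, f z * χ (z * g) := fun k => by
    refine Fintype.sum_equiv ((MulAut.conj k).toEquiv.trans (Equiv.mulRight g⁻¹)) _ _ fun y => ?_
    simp only [Equiv.trans_apply, MulEquiv.toEquiv_eq_coe, MulEquiv.coe_toEquiv, MulAut.conj_apply,
      Equiv.coe_mulRight]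
    rw [inv_mul_cancel_right, hχ, mul_comm]
  rw [Finset.sum_congr rfl fun k _ => hin k, Finset.sum_const, Finset.card_univ, nsmul_eq_mul] at h0
  exact (mul_eq_zero.mp h0).resolve_left (by exact_mod_cast Fintype.card_pos.ne')

end CfsgLib.Invol
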