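import Mathlib
import Cfsg.Agent.Lib.Invol.TwistedTrace
import Cfsg.Agent.Lib.Blocks.Brauer
import Cfsg.Agent.Lib.Blocks.FirstMain
import Cfsg.Agent.Lib.Blocks.Covering
import Cfsg.Agent.Lib.Blocks.ThirdMain
import Cfsg.Prelude.Def_Local
import Cfsg.Agent.Lib.Cores.Basic

/-!
# Principal block characters are constant on `u * O_{p'}(C(u))`

Brauer's third main theorem identifies the reduction of the principal block idempotent on the
centralizer; a Higman trace argument then kills the part not trivial on the `p'`-core.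
-/

set_option autoImplicit false

noncomputable section

namespace CfsgLib.Invol

open Cfsg CfsgLib.Blocks
open scoped ComplexConjugate

variable {M : Ideal AlgInt} {G : Type*} [Group G] [Fintype G] {p : ℕ}

theorem red_eq_of_bomega {H : Type*} [Group H] [Fintype H] [M.IsMaximal] {c d : Zint M H}
    (hc : red c * red c = red c) (hd : red d * red d = red d)
    (hcd : ∀ ξ : IrrCharacter H, bomega ξ c = bomega ξ d) : red c = red (c * d) := by
  by_contra hne
  have hc' : red (c * c) = red c := by rw [map_mul]; exact hc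
  have hd' : red (d * d) = red d := by rw [map_mul]; exact hd
  obtain ⟨ξ, hξ⟩ := exists_bomega_ne_zero (a := c - c * d) (by
    have e : (c - c * d) * (c - c * d) = c * c - (c * c) * d - (c * c) * d + (c * c) * (d * d) := by
      ring
    rw [e, map_add, map_sub, map_sub, map_mul red (c * c), map_mul red (c * c), hc', hd', map_sub,
      map_mul]
    abel) (by rwa [map_sub, sub_ne_zero])
  apply hξ
  have he : bomega ξ c * bomega ξ c = bomega ξ c := by
    rw [← map_mul]
    exact bomega_eq_of_red_eq ξ hc'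
  rw [map_sub, map_mul, ← hcd, he, sub_self]

/-- The principal block idempotent reduces on a centralizer to that of the centralizer. -/
theorem red_resIn_idem [M.IsMaximal] (hM : IsPModular p M) {U : Subgroup G} (hU : IsPGroup p U)
    (H : Subgroup G) [Fintype H] (hH : H = Subgroup.centralizer (U : Set G)) (hUab : U ≤ H)
    (hB : IsPBlock M (principalBlock M G)) (hb : IsPBlock M (principalBlock M H)) :
    red (resIn H (idem hB)) = red (idem hb) := by
  classical
  have hHN : H ≤ Subgroup.normalizer (U : Set G) := hH ▸ Subgroup.centralizer_le_normalizer _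
  have hCH : Subgroup.centralizer (U : Set G) ≤ H := hH.ge
  have htr : ∀ a : Zint M H, red (truncC U hHN a) = red a := by
    intro a
    apply MonoidAlgebra.coeff_injective
    ext h
    rw [coeff_red, coeff_red, rcoeff_truncC, if_pos (hH.le h.2)]
  have haa : red (resIn H (idem hB)) * red (resIn H (idem hB)) = red (resIn H (idem hB)) := by
    have h := red_truncC_mul hM hU hCH hHN (idem hB) (idem hB)
    rw [idem_mul_self, map_mul, htr] at h
    exact h.symm
  have hbb : red (idem hb) * red (idem hb) = red (idem hb) := by rw [← map_mul, idem_mul_self]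
  have hω : ∀ ξ : IrrCharacter H, bomega ξ (resIn H (idem hB)) = bomega ξ (idem hb) := by
    intro ξ
    obtain ⟨B', hB'⟩ := exists_inducedBlock (H := H) hM hU hUab hCH hHN
      (isPBlock_blockOf (M := M) ξ)
    obtain ⟨χ, hχ⟩ := IsPBlock.nonempty hB'.2.1
    have h1 := (isInducedBlock_iff H).mp hB' |>.2.2 ξ (mem_blockOf_self ξ) χ hχ (idem hB)
    rw [← indBomega_apply, h1, bomega_idem, bomega_idem]
    have h3 := third_main hM (b := blockOf M (ξ : H → ℂ)) ⟨B', hB'⟩
    refine if_congr ⟨fun hc => ?_, fun hc => ?_⟩ rfl rfl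
    · rw [← h3.mp (isPBlock_eq_of_mem hB'.2.1 hB hχ hc ▸ hB')]
      exact mem_blockOf_self ξ
    · have h4 := h3.mpr (isPBlock_eq_of_mem (isPBlock_blockOf ξ) hb (mem_blockOf_self ξ) hc)
      exact (inducedBlock_unique H hB' h4) ▸ hχ
  rw [red_eq_of_bomega haa hbb hω, red_eq_of_bomega hbb haa (fun ξ => (hω ξ).symm), mul_comm]

theorem rcoeff_idem [M.IsMaximal] {B : Set (IrrCharacter G)} (hB : IsPBlock M B) (x : G) :
    rcoeff (idem hB) x = res M (⟨blockCoeff B x, blockCoeff_mem_locRing hB x⟩ : locRing M) := by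
  refine congrArg (res M) (Subtype.ext ?_)
  simp [idem, blockElt, coeff_ofFun]

/-- The principal block idempotent is constant mod `M` on cosets of a normal `p'`-subgroup of a
centralizer, inside that centralizer. -/
theorem res_blockCoeff_mul [M.IsMaximal] (hM : IsPModular p M) {U : Subgroup G} (hU : IsPGroup p U)
    (H : Subgroup G) (hH : H = Subgroup.centralizer (U : Set G)) (hUab : U ≤ H)
    (hB : IsPBlock M (principalBlock M G)) {N : Subgroup G} (hNH : N ≤ H)
    (hNn : ∀ c ∈ H, ∀ k ∈ N, c * k * c⁻¹ ∈ N) (hNp : ¬ p ∣ Nat.card N) {c n : G} (hc : c ∈ H)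
    (hn : n ∈ N) :
    res M (⟨blockCoeff (principalBlock M G) (c * n), blockCoeff_mem_locRing hB _⟩ : locRing M) =
      res M ⟨blockCoeff (principalBlock M G) c, blockCoeff_mem_locRing hB _⟩ := by
  classical
  have hp := hM.1
  have := Fact.mk hp
  have := Fintype.ofFinite H
  have hb : IsPBlock M (principalBlock M H) := by
    rw [principalBlock_eq]; exact isPBlock_blockOf _
  set K := N.subgroupOf H with hK
  have hKn : K.Normal := ⟨fun k hk c => hNn c c.2 k hk⟩
  have hKp : ¬ p ∣ Nat.card K := by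
    rwa [hK, Nat.card_congr (Subgroup.subgroupOfEquivOfLe hNH).toEquiv]
  have hbK : ∀ (x n : H), n ∈ K →
      blockCoeff (principalBlock M H) (x * n) = blockCoeff (principalBlock M H) x := by
    intro x n hn
    rw [blockCoeff_eq, blockCoeff_eq]
    congr 1
    refine Finset.sum_congr rfl fun η _ => ?_
    split_ifs with hη
    · have hs : SameBlock M ((CfsgLib.Char.irrOne : IrrCharacter H) : H → ℂ) (η : H → ℂ) := by
        rw [principalBlock_eq] at hη; exact hη
      rw [CfsgLib.CharNormal.apply_mul_eq_one (CfsgLib.Char.isCharacter_of_isIrr η.2)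
        (trivialOn_of_sameBlock hM hKp hs (fun _ _ => rfl) n hn) x]
    · rfl
  have hred := red_resIn_idem hM hU H hH hUab hB hb
  have h1 : ∀ x : H, res M (⟨blockCoeff (principalBlock M G) (x : G), blockCoeff_mem_locRing hB _⟩ : locRing M) =
      res M ⟨blockCoeff (principalBlock M H) x, blockCoeff_mem_locRing hb _⟩ := by
    intro x
    have h : rcoeff (resIn H (idem hB)) x = rcoeff (idem hb) x := by
      rw [← coeff_red, ← coeff_red, hred]
    rw [rcoeff_resIn, rcoeff_idem, rcoeff_idem] at h
    exact h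
  have key : ∀ (x : H) (w : G), (x : G) = w →
      res M (⟨blockCoeff (principalBlock M G) w, blockCoeff_mem_locRing hB _⟩ : locRing M) =
        res M ⟨blockCoeff (principalBlock M H) x, blockCoeff_mem_locRing hb _⟩ := by
    rintro x _ rfl
    exact h1 x
  rw [key (⟨c, hc⟩ * ⟨n, hNH hn⟩) (c * n) (Subgroup.coe_mul H _ _), key ⟨c, hc⟩ c rfl]
  refine congrArg (res M) (Subtype.ext ?_)
  exact hbK _ ⟨n, hNH hn⟩ (Subgroup.mem_subgroupOf.mpr hn)

/-- The value at `u * v` is an average independent of `v`. -/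
theorem principalBlock_average [M.IsMaximal] (hM : IsPModular p M) {u : G}
    (hu : ∃ k : ℕ, orderOf u = p ^ k) (N : Subgroup G) (hNC : N ≤ Subgroup.centralizer ({u} : Set G))
    (hNn : ∀ c ∈ Subgroup.centralizer ({u} : Set G), ∀ k ∈ N, c * k * c⁻¹ ∈ N)
    (hNp : ¬ p ∣ Nat.card N) {χ : IrrCharacter G} (hχ : χ ∈ principalBlock M G) {v : G} (hv : v ∈ N) :
    (χ : G → ℂ) (u * v) = (Nat.card N : ℂ)⁻¹ * ∑ᶠ n : N, (χ : G → ℂ) (u * (n : G)) := by
  classical
  have hp := hM.1
  have := Fact.mk hp
  set U := Subgroup.zpowers u with hUdef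
  have hH : Subgroup.centralizer ({u} : Set G) = Subgroup.centralizer (U : Set G) := by
    ext x
    rw [Subgroup.mem_centralizer_singleton_iff, hUdef, Subgroup.mem_centralizer_iff]
    refine ⟨fun h t ht => ?_, fun h => (h u (Subgroup.mem_zpowers u)).symm⟩
    obtain ⟨i, rfl⟩ := Subgroup.mem_zpowers_iff.mp ht
    exact ((show Commute x u from h).zpow_right i).eq.symm
  set H := Subgroup.centralizer ({u} : Set G) with hHdef
  have hU : IsPGroup p U := by
    obtain ⟨k, hk⟩ := hu
    exact IsPGroup.of_card (n := k) (by rw [hUdef, Nat.card_zpowers, hk])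
  have hUab : U ≤ H := Subgroup.zpowers_le.mpr (Subgroup.mem_centralizer_singleton_iff.mpr rfl)
  have hB : IsPBlock M (principalBlock M G) := by
    rw [principalBlock_eq]; exact isPBlock_blockOf _
  obtain ⟨e, he⟩ : ∃ e, e = blockCoeff (principalBlock M G) := ⟨_, rfl⟩
  have heloc : ∀ x, e x ∈ locRing M := fun x => he ▸ blockCoeff_mem_locRing hB x
  have heK : ∀ (c n : G), c ∈ H → n ∈ N →
      res M (⟨e (c * n), heloc _⟩ : locRing M) = res M ⟨e c, heloc _⟩ := by
    subst he
    intro c n hc hn
    exact res_blockCoeff_mul hM hU H hH hUab hB hNC hNn hNp hc hn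
  have hecf : ∀ a b : G, e (a * b) = e (b * a) := fun a b => by
    rw [he, ← blockCoeff_conj _ (a * b) b, mul_assoc b, mul_assoc a, mul_inv_cancel, mul_one]
  have hee : ∀ x, ∑ a : G, e a * e (a⁻¹ * x) = e x := by
    intro x
    have h := congrArg (fun a : Zint M G => (a : CA G).coeff x) (idem_mul_self hB)
    simp only [Subring.coe_mul] at h
    rw [coeff_mul_eq_sum] at h
    simpa [idem, blockElt, coeff_ofFun, he] using h
  have hcard : (Nat.card N : ℂ) ≠ 0 := by exact_mod_cast Nat.card_pos.ne'
  have hrloc : (Nat.card N : ℂ)⁻¹ ∈ locRing M := ⟨1, (Nat.card N : AlgInt),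
    fun h => hNp ((natCast_mem_iff hM _).mp h), by simp⟩
  obtain ⟨f, hf⟩ : ∃ f : G → ℂ, f = fun x => e x - (Nat.card N : ℂ)⁻¹ * ∑ n : N, e (x * n) :=
    ⟨_, rfl⟩
  have hfloc : ∀ x, f x ∈ locRing M := fun x => hf ▸
    sub_mem (heloc _) (mul_mem hrloc (sum_mem fun n _ => heloc _))
  have hff : ∀ x, ∑ a : G, f a * f (a⁻¹ * x) = f x := fun x => by
    rw [hf]; exact averaged_idem e hecf hee N x
  set g := u * v with hg
  have huv : Commute u v := (Subgroup.mem_centralizer_singleton_iff.mp (hNC hv) : v * u = u * v).symm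
  have hgH : g ∈ H := mul_mem (hUab (Subgroup.mem_zpowers u)) (hNC hv)
  have hfg : ∀ z, f (g * z * g⁻¹) = f z := by
    intro z
    simp only [hf]
    have heconj : ∀ w, e (g * w * g⁻¹) = e w := fun w => he ▸ blockCoeff_conj _ w g
    congr 1
    · exact heconj z
    · congr 1
      refine (Fintype.sum_equiv
        { toFun := fun n : N => ⟨g * (n : G) * g⁻¹, hNn g hgH n n.2⟩
          invFun := fun n : N => ⟨g⁻¹ * (n : G) * g, by
            have := hNn g⁻¹ (inv_mem hgH) n n.2
            rwa [inv_inv] at this⟩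
          left_inv := fun n => Subtype.ext (by group)
          right_inv := fun n => Subtype.ext (by group) } _ _ fun n => ?_).symm
      simp only [Equiv.coe_fn_mk]
      rw [show g * z * g⁻¹ * (g * (n : G) * g⁻¹) = g * (z * n) * g⁻¹ by group, heconj]
  obtain ⟨E0, a0, hpp, hpa, hp'a⟩ := exists_pPart_exponent p hp G
  have hvp : ¬ p ∣ orderOf v := fun h => hNp (h.trans (by
    rw [← Subgroup.orderOf_mk v hv]; exact orderOf_dvd_natCard _))
  have hga : g ^ a0 = u := by rw [hg, huv.mul_pow, hpa u hu, hp'a v hvp, mul_one]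
  have hres : ∀ c : G, c * u = u * c → res M (⟨f c, hfloc c⟩ : locRing M) = 0 := by
    intro c hc
    have hcH : c ∈ H := Subgroup.mem_centralizer_singleton_iff.mpr hc
    have hval : (⟨f c, hfloc c⟩ : locRing M) = (⟨e c, heloc _⟩ : locRing M) -
        ⟨(Nat.card N : ℂ)⁻¹, hrloc⟩ * ∑ n : N, (⟨e (c * n), heloc _⟩ : locRing M) := by
      apply Subtype.ext
      push_cast
      rw [hf]
    rw [hval, map_sub, map_mul, map_sum, Finset.sum_congr rfl fun (n : N) _ => heK c n hcH n.2,
      Finset.sum_const, Finset.card_univ, ← Nat.card_eq_fintype_card, nsmul_eq_mul,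
      ← map_natCast (res M), ← mul_assoc, ← map_mul,
      show (⟨(Nat.card N : ℂ)⁻¹, hrloc⟩ : locRing M) * (Nat.card N : locRing M) = 1 from Subtype.ext (by
        push_cast; exact inv_mul_cancel₀ hcard), map_one, one_mul, sub_self]
  have hsum := sum_eq_zero_of_twisted (CfsgLib.Char.isClassFunction_of_isIrr χ.2) f
    (twisted_trace_zero hM f hfloc hff hfg hpp hga hres)
  -- conclusion
  have hshift : ∀ n : G, ∑ z : G, e (z * n) * (χ : G → ℂ) (z * g) = (χ : G → ℂ) (n⁻¹ * g) := by
    intro n
    rw [he, ← sum_blockCoeff_mul_apply hχ (n⁻¹ * g)]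
    refine Fintype.sum_equiv (Equiv.mulRight n) _ _ fun z => ?_
    rw [Equiv.coe_mulRight, mul_assoc z n, mul_inv_cancel_left]
  have hv' : ∀ v' : G, v' ∈ N → g = u * v' → (χ : G → ℂ) g =
      (Nat.card N : ℂ)⁻¹ * ∑ n : N, (χ : G → ℂ) (u * (n : G)) := by
    intro v' hv' hgv
    have h := hsum
    rw [hf] at h
    simp only [sub_mul, mul_assoc, Finset.sum_mul, Finset.sum_sub_distrib, ← Finset.mul_sum] at h
    rw [Finset.sum_comm, Finset.sum_congr rfl fun (n : N) _ => hshift (n : G)] at h
    rw [he, sum_blockCoeff_mul_apply hχ g, sub_eq_zero] at h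
    rw [h]
    congr 1
    refine Fintype.sum_equiv ((Equiv.inv N).trans (Equiv.mulRight (⟨v', hv'⟩ : N))) _ _ fun n => ?_
    simp only [Equiv.trans_apply, Equiv.inv_apply, Equiv.coe_mulRight, Subgroup.coe_mul,
      Subgroup.coe_inv]
    rw [hgv, ← mul_assoc, ← mul_assoc,
      Subgroup.mem_centralizer_singleton_iff.mp (hNC (inv_mem n.2))]
  rw [finsum_eq_sum_of_fintype]
  exact hv' v hv hg

/-- **Constancy on the `p'`-core of a centralizer.** -/
theorem principalBlock_const [M.IsMaximal] (hM : IsPModular p M) {u : G}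
    (hu : ∃ k : ℕ, orderOf u = p ^ k) (N : Subgroup G) (hNC : N ≤ Subgroup.centralizer ({u} : Set G))
    (hNn : ∀ c ∈ Subgroup.centralizer ({u} : Set G), ∀ k ∈ N, c * k * c⁻¹ ∈ N)
    (hNp : ¬ p ∣ Nat.card N) {χ : IrrCharacter G} (hχ : χ ∈ principalBlock M G) {v : G} (hv : v ∈ N) :
    (χ : G → ℂ) (u * v) = (χ : G → ℂ) u := by
  rw [principalBlock_average hM hu N hNC hNn hNp hχ hv]
  conv_rhs => rw [← mul_one u, principalBlock_average hM hu N hNC hNn hNp hχ (one_mem N)]

end CfsgLib.Invol
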