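import Mathlib
import Cfsg.Agent.Lib.Invol.ZStarCor
import Cfsg.Agent.S0942

/-!
# The Z*-theorem, unconditionally
-/

set_option autoImplicit false

universe u

namespace CfsgLib.Invol

open Cfsg

theorem constTwo : ∀ (G : Type u) [Group G] [Finite G], ConstTwo G :=
  fun _ _ _ M hM w v hw hv χ hχ => Cfsg.Agent.S0942.result 2 M hM w hw v hv χ hχ

/-- **Glauberman's Z*-theorem.** -/
theorem zstar {G : Type u} [Group G] [Finite G] {z : G} (hz : IsIsolatedInvolution z) (g : G) :
    z * g * z⁻¹ * g⁻¹ ∈ oddCore G :=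
  zstar_core constTwo hz g

/-- **Z*-theorem**, trivial core. -/
theorem zstar_center {G : Type u} [Group G] [Finite G] {z : G} (hz : IsIsolatedInvolution z)
    (hO : oddCore G = ⊥) : z ∈ Subgroup.center G :=
  zstar_of_const constTwo G z hz hO

end CfsgLib.Invol
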