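import Mathlib
import Cfsg.Agent.Lib.Invol.Dihedral
import Cfsg.Agent.Lib.Invol.Sylow

/-!
# The Baer–Suzuki theorem (Alperin–Lyons proof)
-/

set_option autoImplicit false

namespace CfsgLib.Invol

variable {G : Type*} [Group G]

theorem le_of_map_conj_le {Y Y' : Subgroup G} {g : G}
    (h : Y.map (MulAut.conj g).toMonoidHom ≤ Y') {x : G} (hx : x ∈ Y) : g * x * g⁻¹ ∈ Y' :=
  h (conj_mem_map_conj hx)

theorem map_conj_le_iff {Y Y' : Subgroup G} {g : G} :
    Y.map (MulAut.conj g).toMonoidHom ≤ Y' ↔ ∀ x ∈ Y, g * x * g⁻¹ ∈ Y' :=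
  ⟨fun h _ hx => le_of_map_conj_le h hx, fun h x hx => by
    rw [mem_map_conj] at hx
    simpa [mul_assoc] using h _ hx⟩

theorem mem_normalizer_of_map_conj_le [Finite G] {H : Subgroup G} {g : G}
    (h : H.map (MulAut.conj g).toMonoidHom ≤ H) : g ∈ Subgroup.normalizer (H : Set G) :=
  mem_normalizer_iff_map_conj.mpr (Subgroup.eq_of_le_of_card_ge h (card_map_conj _ _).ge)

/-- Baer–Suzuki. -/
theorem baer_suzuki [Finite G] {p : ℕ} [Fact p.Prime] (X : Subgroup G) (hX : IsPGroup p X)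
    (h : ∀ g : G, IsPGroup p ↥(X ⊔ X.map (MulAut.conj g).toMonoidHom)) :
    ∃ N : Subgroup G, N.Normal ∧ IsPGroup p N ∧ X ≤ N := by
  classical
  set Ω : Set (Subgroup G) := Set.range fun g : G => X.map (MulAut.conj g).toMonoidHom with hΩ
  have hconj : ∀ Y ∈ Ω, ∀ a : G, Y.map (MulAut.conj a).toMonoidHom ∈ Ω := by
    rintro _ ⟨g, rfl⟩ a
    exact ⟨a * g, (map_conj_map_conj X a g).symm⟩
  have hpair : ∀ Y ∈ Ω, ∀ Z ∈ Ω, IsPGroup p ↥(Y ⊔ Z) := by
    rintro _ ⟨g, rfl⟩ _ ⟨k, rfl⟩
    have e : X.map (MulAut.conj g).toMonoidHom ⊔ X.map (MulAut.conj k).toMonoidHom =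
        (X ⊔ X.map (MulAut.conj (g⁻¹ * k)).toMonoidHom).map (MulAut.conj g).toMonoidHom := by
      rw [Subgroup.map_sup, map_conj_map_conj, mul_inv_cancel_left]
    rw [e]
    exact (h _).map _
  let inside : Sylow p G → Set (Subgroup G) := fun P => {Y | Y ∈ Ω ∧ Y ≤ (P : Subgroup G)}
  by_cases hall : ∀ P Q : Sylow p G, inside P = inside Q
  · -- all conjugates lie in one Sylow subgroup
    obtain ⟨P, hP⟩ := hX.exists_le_sylow
    have hsub : ∀ Y ∈ Ω, Y ≤ (P : Subgroup G) := by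
      intro Y hY
      obtain ⟨g, rfl⟩ := hY
      obtain ⟨Q, hQ⟩ := (hX.map (MulAut.conj g).toMonoidHom).exists_le_sylow
      have hm : X.map (MulAut.conj g).toMonoidHom ∈ inside Q := ⟨⟨g, rfl⟩, hQ⟩
      rw [hall Q P] at hm
      exact hm.2
    refine ⟨⨆ Y ∈ Ω, Y, ⟨fun x hx a => ?_⟩, P.isPGroup'.to_le (iSup₂_le hsub), ?_⟩
    · have e : (⨆ Y ∈ Ω, Y : Subgroup G).map (MulAut.conj a).toMonoidHom ≤ ⨆ Y ∈ Ω, Y := by
        rw [Subgroup.map_iSup]
        refine iSup_le fun Y => ?_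
        rw [Subgroup.map_iSup]
        exact iSup_le fun hY => le_iSup₂_of_le _ (hconj Y hY a) le_rfl
      exact le_of_map_conj_le e hx
    · exact le_iSup₂_of_le X ⟨1, map_conj_one X⟩ le_rfl
  · exfalso
    push Not at hall
    obtain ⟨P₀, Q₀, hne₀⟩ := hall
    haveI : Nonempty {q : Sylow p G × Sylow p G // inside q.1 ≠ inside q.2} := ⟨⟨(P₀, Q₀), hne₀⟩⟩
    obtain ⟨⟨⟨P, Q⟩, hne⟩, hmax⟩ :=
      Finite.exists_max (fun q : {q : Sylow p G × Sylow p G // inside q.1 ≠ inside q.2} =>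
        (inside q.1.1 ∩ inside q.1.2).ncard)
    simp only at hne hmax
    set D0 := inside P ∩ inside Q with hD0
    have hcard : ∀ R R' : Sylow p G, (inside R).ncard ≤ (inside R').ncard := by
      intro R R'
      obtain ⟨g, hg⟩ := sylow_exists_conj R R'
      refine Set.ncard_le_ncard_of_injOn (fun Y => Y.map (MulAut.conj g).toMonoidHom)
        (fun Y hY => ⟨hconj Y hY.1 g, map_conj_le_iff.mpr fun x hx => (hg _).mpr (by
          simpa [mul_assoc] using hY.2 hx)⟩)
        (fun Y _ Y' _ he => Subgroup.map_injective (MulAut.conj g).injective he) (Set.toFinite _)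
    set D : Subgroup G := ⨆ Y ∈ D0, Y with hD
    have hDP : D ≤ (P : Subgroup G) := iSup₂_le fun Y hY => hY.1.2
    have hDQ : D ≤ (Q : Subgroup G) := iSup₂_le fun Y hY => hY.2.2
    have hD0iff : ∀ Y ∈ Ω, Y ≤ D → Y ∈ D0 := fun Y hY hYD =>
      ⟨⟨hY, hYD.trans hDP⟩, ⟨hY, hYD.trans hDQ⟩⟩
    -- in a p-group above `D`, a new conjugate normalising `D`
    have climb : ∀ (n : ℕ) (H : Subgroup G), Nat.card H = n → IsPGroup p H → D ≤ H →
        (∃ Y ∈ Ω, Y ≤ H ∧ ¬ Y ≤ D) →
        ∃ Y ∈ Ω, Y ≤ H ∧ ¬ Y ≤ D ∧ Y ≤ Subgroup.normalizer (D : Set G) := by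
      intro n
      induction n using Nat.strong_induction_on with
      | _ n ih =>
        intro H hcardH hH hDH hex
        by_cases hN : H ≤ Subgroup.normalizer (D : Set G)
        · obtain ⟨Y, hY, hYH, hYD⟩ := hex
          exact ⟨Y, hY, hYH, hYD, hYH.trans hN⟩
        have hne' : D.subgroupOf H ≠ ⊤ := by
          rw [Ne, Subgroup.subgroupOf_eq_top]
          exact fun hle => hN (hle.trans Subgroup.le_normalizer)
        obtain ⟨M', hM', hDM'⟩ : ∃ M', IsCoatom M' ∧ D.subgroupOf H ≤ M' := by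
          rcases eq_top_or_exists_le_coatom (D.subgroupOf H) with h' | h'
          · exact absurd h' hne'
          · exact h'
        haveI := hH.isNilpotent
        haveI hMn : M'.Normal :=
          Subgroup.NormalizerCondition.normal_of_coatom M' Group.normalizerCondition_of_isNilpotent hM'
        set M := M'.map H.subtype with hM
        have hMH : M ≤ H := Subgroup.map_subtype_le M'
        have hDM : D ≤ M := fun x hx => ⟨⟨x, hDH hx⟩, hDM' hx, rfl⟩
        by_cases hexM : ∃ Y ∈ Ω, Y ≤ M ∧ ¬ Y ≤ D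
        · have hlt : Nat.card M < n := by
            rw [← hcardH]
            refine Nat.lt_of_le_of_ne (Subgroup.card_le_of_le hMH) fun he => hM'.1 ?_
            have := Subgroup.eq_of_le_of_card_ge hMH he.ge
            rw [eq_top_iff]
            intro x _
            obtain ⟨y, hy, hyx⟩ := this.ge x.2
            exact (Subtype.ext hyx : y = x) ▸ hy
          obtain ⟨Y, hY, hYM, hYD, hYN⟩ := ih _ hlt M rfl (hH.to_le hMH) hDM hexM
          exact ⟨Y, hY, hYM.trans hMH, hYD, hYN⟩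
        · push Not at hexM
          refine absurd (fun a ha => mem_normalizer_of_map_conj_le ?_) hN
          rw [hD, Subgroup.map_iSup]
          refine iSup_le fun Y => ?_
          rw [Subgroup.map_iSup]
          refine iSup_le fun hY => le_iSup₂_of_le _ (hD0iff _ (hconj Y hY.1.1 a) ?_) le_rfl
          refine hexM _ (hconj Y hY.1.1 a) (map_conj_le_iff.mpr fun x hx => ?_)
          obtain ⟨y, hy, rfl⟩ := hDM ((le_iSup₂_of_le Y hY le_rfl : Y ≤ D) hx)
          exact ⟨⟨a, ha⟩ * y * ⟨a, ha⟩⁻¹, hMn.conj_mem y hy _, by simp⟩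
    have hstrict : ∀ R : Sylow p G, D0 ⊆ inside R → ∃ Y ∈ Ω, Y ≤ (R : Subgroup G) ∧ ¬ Y ≤ D := by
      intro R hR
      by_contra hno
      push Not at hno
      have he : inside R = D0 := Set.Subset.antisymm (fun Y hY => hD0iff Y hY.1 (hno Y hY.1 hY.2)) hR
      apply hne
      have e1 : inside P = D0 := (Set.eq_of_subset_of_ncard_le Set.inter_subset_left
        ((hcard _ R).trans (le_of_eq (congrArg Set.ncard he))) (Set.toFinite _)).symm
      have e2 : inside Q = D0 := (Set.eq_of_subset_of_ncard_le Set.inter_subset_right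
        ((hcard _ R).trans (le_of_eq (congrArg Set.ncard he))) (Set.toFinite _)).symm
      rw [e1, e2]
    obtain ⟨Y, hY, hYP, hYD, hYN⟩ :=
      climb _ _ rfl P.isPGroup' hDP (hstrict P Set.inter_subset_left)
    obtain ⟨Z, hZ, hZQ, hZD, hZN⟩ :=
      climb _ _ rfl Q.isPGroup' hDQ (hstrict Q Set.inter_subset_right)
    have hp : IsPGroup p ↥((Y ⊔ Z) ⊔ D) :=
      (hpair Y hY Z hZ).to_sup_of_normal_right' (P.isPGroup'.to_le hDP) (sup_le hYN hZN)
    obtain ⟨R, hR⟩ := hp.exists_le_sylow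
    have hD0R : D0 ⊆ inside R := fun W hW =>
      ⟨hW.1.1, ((le_iSup₂_of_le W hW le_rfl : W ≤ D)).trans (le_sup_right.trans hR)⟩
    have key : ∀ (S : Sylow p G) (W : Subgroup G), W ∈ inside S → W ∈ inside R →
        D0 ⊆ inside S → ¬ W ≤ D → inside R = inside S := by
      intro S W hWS hWR hS hWD
      by_contra hne'
      have h1 := hmax ⟨(R, S), hne'⟩
      simp only at h1
      have h2 : insert W D0 ⊆ inside R ∩ inside S :=
        Set.insert_subset ⟨hWR, hWS⟩ (Set.subset_inter hD0R hS)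
      have h3 := Set.ncard_le_ncard h2 (Set.toFinite _)
      rw [Set.ncard_insert_of_notMem (fun hm => hWD (le_iSup₂_of_le W hm le_rfl)) (Set.toFinite _)] at h3
      exact absurd (h3.trans h1) (by omega)
    exact hne ((key P Y ⟨hY, hYP⟩ ⟨hY, (le_sup_left.trans le_sup_left).trans hR⟩
        Set.inter_subset_left hYD).symm.trans
      (key Q Z ⟨hZ, hZQ⟩ ⟨hZ, (le_sup_right.trans le_sup_left).trans hR⟩
        Set.inter_subset_right hZD))

/-- An involution outside every normal 2-subgroup inverts a nontrivial element of odd order. -/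
theorem exists_inverted_odd [Finite G] (t : G) (ht : orderOf t = 2)
    (hO : ∀ N : Subgroup G, N.Normal → IsPGroup 2 N → t ∉ N) :
    ∃ h : G, h ≠ 1 ∧ Odd (orderOf h) ∧ t * h * t⁻¹ = h⁻¹ := by
  have hp : IsPGroup 2 (Subgroup.zpowers t) :=
    IsPGroup.of_card (n := 1) (by rw [Nat.card_zpowers, ht, pow_one])
  by_contra hno
  push Not at hno
  obtain ⟨N, hN, hNp, hle⟩ := baer_suzuki _ hp fun g => by
    rw [show (Subgroup.zpowers t).map (MulAut.conj g).toMonoidHom =
      Subgroup.zpowers (g * t * g⁻¹) by rw [MonoidHom.map_zpowers]; rfl]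
    have hu : orderOf (g * t * g⁻¹) = 2 := (orderOf_conj_eq g t).trans ht
    generalize g * t * g⁻¹ = u at hu
    obtain ⟨a, m, hm, e⟩ := Nat.exists_eq_two_pow_mul_odd (orderOf_pos (t * u)).ne'
    have h1 : (t * u) ^ 2 ^ a = 1 := by
      by_contra hne
      refine hno _ hne ?_ (by rw [← zpow_natCast, conj_mul_zpow ht hu, zpow_neg])
      rw [orderOf_pow_of_dvd (by positivity) (e ▸ dvd_mul_right _ _), e,
        Nat.mul_div_cancel_left _ (by positivity)]
      exact hm
    rintro ⟨x, hx⟩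
    have hx' : x ∈ Subgroup.closure ({t, u} : Set G) := by
      rw [Set.insert_eq, Subgroup.closure_union, ← Subgroup.zpowers_eq_closure,
        ← Subgroup.zpowers_eq_closure]
      exact hx
    refine ⟨a + 1, Subtype.ext ?_⟩
    push_cast
    rcases (mem_closure_pair_invol ht hu).mp hx' with ⟨k, rfl | rfl⟩
    · rw [← zpow_natCast, ← zpow_mul, mul_comm k, zpow_mul, zpow_natCast, pow_succ, pow_mul, h1]
      simp
    · have hsq : (t * (t * u) ^ k) * (t * (t * u) ^ k) = 1 := by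
        rw [mul_assoc, ← mul_assoc _ t, mul_zpow_comm ht hu, mul_assoc,
          mul_mul_cancel_of_orderOf_two ht, ← zpow_add]
        simp
      rw [pow_succ', pow_mul, sq, hsq, one_pow]
  exact hO N hN hNp (hle (Subgroup.mem_zpowers t))

end CfsgLib.Invol
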