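import Mathlib
import Cfsg.Prelude.Def_Involutions
import Cfsg.Agent.Lib.Invol.Dihedral
import Cfsg.Agent.Lib.Invol.Sylow
import Cfsg.Agent.Lib.Invol.BaerSuzuki

/-!
# Strongly embedded subgroups and their variants
-/

set_option autoImplicit false

namespace CfsgLib.Invol

variable {G : Type*} [Group G] [Finite G] {p : ℕ} [Fact p.Prime]

/-- A Sylow subgroup of `H` whose normalizer in `G` lies in `H` is a Sylow subgroup of `G`. -/
theorem exists_sylow_eq_of_normalizer_le {H : Subgroup G} (P : Sylow p H)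
    (hN : Subgroup.normalizer (((P : Subgroup H).map H.subtype : Subgroup G) : Set G) ≤ H) :
    ∃ Q : Sylow p G, (Q : Subgroup G) = (P : Subgroup H).map H.subtype := by
  set P' := (P : Subgroup H).map H.subtype with hP'
  obtain ⟨Q, hQ⟩ := (P.isPGroup'.map H.subtype).exists_le_sylow
  refine ⟨Q, le_antisymm ?_ hQ⟩
  by_contra hne
  haveI := Q.isPGroup'.isNilpotent
  have hlt : P'.subgroupOf (Q : Subgroup G) < ⊤ := by
    rw [lt_top_iff_ne_top, Ne, Subgroup.subgroupOf_eq_top]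
    exact hne
  obtain ⟨x, hxn, hxP⟩ := SetLike.exists_of_lt (Group.normalizerCondition_of_isNilpotent _ hlt)
  have hx : (x : G) ∈ Subgroup.normalizer (P' : Set G) := by
    refine mem_normalizer_of_map_conj_le (map_conj_le_iff.mpr fun y hy => ?_)
    exact (Subgroup.mem_normalizer_iff.1 hxn ⟨y, hQ hy⟩).1 hy
  have hxH : (x : G) ∈ H := hN hx
  set V := (P' ⊔ Subgroup.zpowers (x : G)) with hV
  have hVQ : V ≤ (Q : Subgroup G) := sup_le hQ (by simp)
  have hVH : V ≤ H := sup_le (Subgroup.map_subtype_le _) (by simpa using hxH)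
  have h1 := P.3 ((Q.isPGroup'.to_le hVQ).of_equiv (Subgroup.subgroupOfEquivOfLe hVH).symm)
    (fun y hy => show (y : G) ∈ V from Subgroup.mem_sup_left ⟨y, hy, rfl⟩)
  refine hxP ?_
  show (x : G) ∈ P'
  have h2 : (⟨x, hxH⟩ : H) ∈ (P : Subgroup H) := by
    rw [← h1]; exact Subgroup.mem_sup_right (Subgroup.mem_zpowers (x : G))
  exact ⟨⟨x, hxH⟩, h2, rfl⟩

/-- The general embedding criterion: if the normalizers of all subgroups of a Sylow `p`-subgroup of
`H` with the (monotone, conjugation invariant) property `R` lie in `H`, then no `p`-subgroup of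
`H ∩ g H g⁻¹`, `g ∉ H`, has property `R`. -/
theorem not_prop_of_normalizer_le {H : Subgroup G} (P : Sylow p H) (R : Subgroup G → Prop)
    (hconj : ∀ (X : Subgroup G) (g : G), R X → R (X.map (MulAut.conj g).toMonoidHom))
    (hmono : ∀ X Y : Subgroup G, X ≤ Y → R X → R Y)
    (h : ∀ X : Subgroup G, X ≤ (P : Subgroup H).map H.subtype → R X →
      Subgroup.normalizer (X : Set G) ≤ H)
    {g : G} (hg : g ∉ H) {D : Subgroup G} (hD : IsPGroup p D)
    (hDH : D ≤ H ⊓ H.map (MulAut.conj g).toMonoidHom) : ¬ R D := by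
  intro hR
  induction hn : Nat.card G - Nat.card D using Nat.strong_induction_on generalizing g D with
  | _ n ih =>
  subst hn
  set P' := (P : Subgroup H).map H.subtype with hP'
  have hsylow : ∀ U : Subgroup G, U ≤ H → IsPGroup p U →
      ∃ h ∈ H, U.map (MulAut.conj h).toMonoidHom ≤ P' := by
    intro U hUH hU
    obtain ⟨T, hT⟩ := (hU.of_equiv (Subgroup.subgroupOfEquivOfLe hUH).symm).exists_le_sylow
    obtain ⟨k, hk⟩ := sylow_exists_conj P T
    refine ⟨((k⁻¹ : H) : G), (k⁻¹ : H).2, map_conj_le_iff.mpr fun y hy => ?_⟩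
    exact ⟨k⁻¹ * ⟨y, hUH hy⟩ * k, (hk _).mp (hT hy), by simp⟩
  -- normalisers of `R`-subgroups of `H` lie in `H`
  have hnorm : ∀ U : Subgroup G, U ≤ H → IsPGroup p U → R U →
      Subgroup.normalizer (U : Set G) ≤ H := by
    intro U hUH hU hRU y hy
    obtain ⟨a, ha, haU⟩ := hsylow U hUH hU
    have hy' : a * y * a⁻¹ ∈ H := h _ haU (hconj U a hRU) (by
      rw [mem_normalizer_iff_map_conj, map_conj_map_conj, inv_mul_cancel_right,
        ← map_conj_map_conj, mem_normalizer_iff_map_conj.mp hy])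
    simpa [mul_assoc] using mul_mem (mul_mem (inv_mem ha) hy') ha
  -- the conjugate of `D` by `g⁻¹`
  have hD2H : D.map (MulAut.conj g⁻¹).toMonoidHom ≤ H := map_conj_le_iff.mpr fun y hy => by
    rw [inv_inv]; exact mem_map_conj.mp (hDH hy).2
  have hN2 := hnorm _ hD2H (hD.map _) (hconj D g⁻¹ hR)
  have hN : Subgroup.normalizer (D : Set G) ≤ H ⊓ H.map (MulAut.conj g).toMonoidHom := by
    refine fun y hy => ⟨hnorm D (hDH.trans inf_le_left) hD hR hy, ?_⟩
    show y ∈ H.map (MulAut.conj g).toMonoidHom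
    rw [mem_map_conj]
    refine hN2 ?_
    rw [mem_normalizer_iff_map_conj, map_conj_map_conj,
      show g⁻¹ * y * g * g⁻¹ = g⁻¹ * y by group, ← map_conj_map_conj,
      mem_normalizer_iff_map_conj.mp hy]
  obtain ⟨a, ha, haD⟩ := hsylow D (hDH.trans inf_le_left) hD
  by_cases hfull : D.map (MulAut.conj a).toMonoidHom = P'
  · -- `D` is a Sylow subgroup of `H`
    obtain ⟨b, hb, hbD⟩ := hsylow _ hD2H (hD.map _)
    rw [map_conj_map_conj] at hbD
    have he : D.map (MulAut.conj (b * g⁻¹)).toMonoidHom = P' :=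
      Subgroup.eq_of_le_of_card_ge hbD (by rw [← hfull, card_map_conj, card_map_conj])
    have hmem : b * g⁻¹ * a⁻¹ ∈ H := h P' le_rfl (hfull ▸ hconj D a hR) (by
      rw [mem_normalizer_iff_map_conj]
      conv_lhs => rw [← hfull]
      rw [map_conj_map_conj, inv_mul_cancel_right, he])
    refine hg (inv_mem_iff.mp ?_)
    simpa [mul_assoc] using mul_mem (mul_mem (inv_mem hb) hmem) ha
  · -- the normalizer of `D` grows inside the conjugate of `P'`
    set Q := P'.map (MulAut.conj a⁻¹).toMonoidHom with hQdef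
    have hDQ : D ≤ Q := by
      intro y hy
      rw [mem_map_conj, inv_inv]
      exact le_of_map_conj_le haD hy
    have hQp : IsPGroup p Q := (P.isPGroup'.map _).map _
    haveI := hQp.isNilpotent
    have hlt : D.subgroupOf Q < ⊤ := by
      rw [lt_top_iff_ne_top, Ne, Subgroup.subgroupOf_eq_top]
      intro hle
      apply hfull
      rw [le_antisymm hDQ hle, hQdef, map_conj_map_conj, mul_inv_cancel, map_conj_one]
    obtain ⟨x, hxn, hxD⟩ := SetLike.exists_of_lt (Group.normalizerCondition_of_isNilpotent _ hlt)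
    have hx : (x : G) ∈ Subgroup.normalizer (D : Set G) := by
      refine mem_normalizer_of_map_conj_le (map_conj_le_iff.mpr fun y hy => ?_)
      exact (Subgroup.mem_normalizer_iff.1 hxn ⟨y, hDQ hy⟩).1 hy
    have hD' : D < D ⊔ Subgroup.zpowers (x : G) := lt_of_le_of_ne le_sup_left fun he => hxD (by
      show (x : G) ∈ D
      rw [he]; exact Subgroup.mem_sup_right (Subgroup.mem_zpowers _))
    refine ih _ ?_ hg (hQp.to_le (sup_le hDQ (Subgroup.zpowers_le.mpr x.2)))
      (sup_le hDH (Subgroup.zpowers_le.mpr (hN hx))) (hmono _ _ le_sup_left hR) rfl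
    have h1 := Set.Finite.card_lt_card (Set.toFinite _) (SetLike.coe_ssubset_coe.mpr hD')
    have h2 := Subgroup.card_le_card_group (D ⊔ Subgroup.zpowers (x : G))
    simp only [SetLike.coe_sort_coe] at h1
    omega

omit [Fact p.Prime]

omit [Finite G] in
theorem stronglyEmbedded_conj_mem {H : Subgroup G} (hH : Cfsg.IsStronglyEmbedded H) {t g : G}
    (ht : t ∈ H) (ht2 : orderOf t = 2) (hg : g * t * g⁻¹ ∈ H) : g ∈ H := by
  by_contra hgH
  have hodd := hH.2.2 g hgH
  have hdvd := Subgroup.orderOf_dvd_natCard (H ⊓ H.map (MulAut.conj g).toMonoidHom)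
    (Subgroup.mem_inf.mpr ⟨hg, conj_mem_map_conj ht⟩)
  rw [orderOf_conj_eq, ht2] at hdvd
  exact Nat.not_even_iff_odd.mpr hodd (even_iff_two_dvd.mpr hdvd)

theorem stronglyEmbedded_centralizer_le {H : Subgroup G} (hH : Cfsg.IsStronglyEmbedded H) {t : G}
    (ht : t ∈ H) (ht2 : orderOf t = 2) : Subgroup.centralizer ({t} : Set G) ≤ H := fun c hc =>
  stronglyEmbedded_conj_mem hH ht ht2 (by
    rw [Subgroup.mem_centralizer_singleton_iff.mp hc, mul_inv_cancel_right]; exact ht)

theorem stronglyEmbedded_exists_involution {H : Subgroup G} (hH : Cfsg.IsStronglyEmbedded H) :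
    ∃ t ∈ H, orderOf t = 2 := by
  obtain ⟨t, ht⟩ := exists_prime_orderOf_dvd_card' (G := H) 2 (even_iff_two_dvd.mp hH.2.1)
  exact ⟨t, t.2, by rw [Subgroup.orderOf_coe, ht]⟩

omit [Finite G] in
theorem smul_coset_eq_self {H : Subgroup G} {t g : G} :
    t • (QuotientGroup.mk g : G ⧸ H) = QuotientGroup.mk g ↔ g⁻¹ * t * g ∈ H := by
  rw [MulAction.Quotient.smul_mk, QuotientGroup.eq, smul_eq_mul, mul_inv_rev, ← inv_mem_iff]
  simp [mul_assoc]

omit [Finite G] in
theorem smul_smul_invol {H : Subgroup G} {t : G} (ht : orderOf t = 2) (x : G ⧸ H) :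
    t • t • x = x := by
  rw [← mul_smul, mul_self_of_orderOf_two ht, one_smul]

/-- An involution fixes at most one coset of a strongly embedded subgroup. -/
theorem stronglyEmbedded_fixed_unique {H : Subgroup G} (hH : Cfsg.IsStronglyEmbedded H) {t : G}
    (ht : orderOf t = 2) {x y : G ⧸ H} (hx : t • x = x) (hy : t • y = y) : x = y := by
  induction x using QuotientGroup.induction_on with
  | H a =>
  induction y using QuotientGroup.induction_on with
  | H b =>
  rw [smul_coset_eq_self] at hx hy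
  rw [QuotientGroup.eq]
  have h := stronglyEmbedded_conj_mem hH hy
    (by have := orderOf_conj_eq b⁻¹ t; rw [inv_inv] at this; rw [this, ht]) (g := a⁻¹ * b) (by
    rw [show a⁻¹ * b * (b⁻¹ * t * b) * (a⁻¹ * b)⁻¹ = a⁻¹ * t * a by group]; exact hx)
  exact h

theorem stronglyEmbedded_exists_fixing {H : Subgroup G} (hH : Cfsg.IsStronglyEmbedded H)
    (x : G ⧸ H) : ∃ t : G, orderOf t = 2 ∧ t • x = x := by
  induction x using QuotientGroup.induction_on with
  | H a =>
  obtain ⟨t, ht, ht2⟩ := stronglyEmbedded_exists_involution hH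
  exact ⟨a * t * a⁻¹, (orderOf_conj_eq a t).trans ht2,
    smul_coset_eq_self.mpr (by simpa [mul_assoc] using ht)⟩

/-- Involutions fixing different cosets have product of odd order. -/
theorem stronglyEmbedded_odd_mul {H : Subgroup G} (hH : Cfsg.IsStronglyEmbedded H) {s j : G}
    (hs : orderOf s = 2) (hj : orderOf j = 2) {x y : G ⧸ H} (hsx : s • x = x) (hjy : j • y = y)
    (hxy : x ≠ y) : Odd (orderOf (s * j)) := by
  by_contra h
  rw [Nat.not_odd_iff_even] at h
  have hz := orderOf_half h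
  have hzs := commute_half_left hs hj h
  have hzj := commute_half_right hs hj h
  generalize (s * j) ^ (orderOf (s * j) / 2) = z at hz hzs hzj
  have hzx : z • x = x := stronglyEmbedded_fixed_unique hH hs
    (by rw [← mul_smul, ← hzs.eq, mul_smul, hsx]) hsx
  have hzy : z • y = y := stronglyEmbedded_fixed_unique hH hj
    (by rw [← mul_smul, ← hzj.eq, mul_smul, hjy]) hjy
  exact hxy (stronglyEmbedded_fixed_unique hH hz hzx hzy)

/-- For involutions fixing `x ≠ y`, some involution interchanging `x`, `y` conjugates one to the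
other. -/
theorem stronglyEmbedded_exists_swap {H : Subgroup G} (hH : Cfsg.IsStronglyEmbedded H) {s j : G}
    (hs : orderOf s = 2) (hj : orderOf j = 2) {x y : G ⧸ H} (hsx : s • x = x) (hjy : j • y = y)
    (hxy : x ≠ y) : ∃ w : G, orderOf w = 2 ∧ w • x = y ∧ w * s * w⁻¹ = j := by
  obtain ⟨m, hm⟩ := stronglyEmbedded_odd_mul hH hs hj hsx hjy hxy
  have hne : s ≠ j := by
    rintro rfl
    exact hxy (stronglyEmbedded_fixed_unique hH hs hsx hjy)
  have hw := orderOf_mul_zpow hs hj hne ((m : ℤ) + 1)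
  have hconj : (s * (s * j) ^ ((m : ℤ) + 1)) * s * (s * (s * j) ^ ((m : ℤ) + 1))⁻¹ = j := by
    rw [show (s * (s * j) ^ ((m : ℤ) + 1)) * s * (s * (s * j) ^ ((m : ℤ) + 1))⁻¹ =
      s * ((s * j) ^ ((m : ℤ) + 1) * s * ((s * j) ^ ((m : ℤ) + 1))⁻¹) * s⁻¹ by group,
      conj_zpow_self hs hj, mul_assoc s (s * _) s⁻¹, mul_assoc s _ s⁻¹,
      ← mul_assoc s ((s * j) ^ _) s⁻¹, conj_mul_zpow hs hj]
    conv_rhs => rw [← mul_zpow_one (y := j) hs]
    congr 1
    rw [zpow_eq_zpow_iff_modEq, hm]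
    refine Int.modEq_iff_dvd.mpr ⟨-1, ?_⟩
    push_cast
    ring
  refine ⟨_, hw, ?_, hconj⟩
  generalize s * (s * j) ^ ((m : ℤ) + 1) = w at hw hconj ⊢
  refine stronglyEmbedded_fixed_unique hH hj ?_ hjy
  rw [← hconj, mul_smul, mul_smul, inv_smul_smul, hsx]

/-- Such a swapping involution is unique. -/
theorem stronglyEmbedded_swap_unique {H : Subgroup G} (hH : Cfsg.IsStronglyEmbedded H) {s w w' : G}
    (hs : orderOf s = 2) (hw : orderOf w = 2) (hw' : orderOf w' = 2) {x y : G ⧸ H}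
    (hsx : s • x = x) (hwxy : w • x = y) (hw'xy : w' • x = y) (hxy : x ≠ y)
    (he : w * s * w⁻¹ = w' * s * w'⁻¹) : w = w' := by
  have hyx : w • y = x := by rw [← hwxy, smul_smul_invol hw]
  have hy'x : w' • y = x := by rw [← hw'xy, smul_smul_invol hw']
  set d := w' * w with hd
  have hdx : d • x = x := by rw [hd, mul_smul, hwxy, hy'x]
  have hdy : d • y = y := by rw [hd, mul_smul, hyx, hw'xy]
  have hdodd : Odd (orderOf d) := by
    by_contra hev
    rw [Nat.not_odd_iff_even] at hev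
    obtain ⟨k, hk⟩ := hev
    have hpos := orderOf_pos d
    have hz : orderOf (d ^ k) = 2 := by
      rw [orderOf_pow_of_dvd (by omega) ⟨2, by omega⟩, hk]
      exact Nat.div_eq_of_eq_mul_left (by omega) (by omega)
    have hfix : ∀ (n : ℕ) (q : G ⧸ H), d • q = q → d ^ n • q = q := by
      intro n q hq
      induction n with
      | zero => simp
      | succ n ihn => rw [pow_succ, mul_smul, hq, ihn]
    exact hxy (stronglyEmbedded_fixed_unique hH hz (hfix k x hdx) (hfix k y hdy))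
  have hinv : w * d * w⁻¹ = d⁻¹ := by
    rw [hd, mul_inv_rev, inv_eq_of_orderOf_two hw, inv_eq_of_orderOf_two hw', ← mul_assoc,
      mul_assoc (w * w') w w, mul_self_of_orderOf_two hw, mul_one]
  have hds : d * s * d⁻¹ = s := by
    rw [hd, show w' * w * s * (w' * w)⁻¹ = w' * (w * s * w⁻¹) * w'⁻¹ by group, he,
      show w' * (w' * s * w'⁻¹) * w'⁻¹ = (w' * w') * s * (w' * w')⁻¹ by group,
      mul_self_of_orderOf_two hw', one_mul, inv_one, mul_one]
  have hcs : Commute d s := mul_inv_eq_iff_eq_mul.mp hds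
  -- `s` and `w` act differently on `⟨d⟩`
  obtain ⟨c, hcm, hc⟩ : ∃ c ∈ Subgroup.zpowers (s * w), c * s * c⁻¹ = w := by
    apply exists_conj_of_odd hs hw
    by_contra hev
    rw [Nat.not_odd_iff_even] at hev
    have hz := orderOf_half hev
    have hzs := commute_half_left hs hw hev
    have hzw := commute_half_right hs hw hev
    generalize (s * w) ^ (orderOf (s * w) / 2) = z at hz hzs hzw
    have hzx : z • x = x := stronglyEmbedded_fixed_unique hH hs
      (by rw [← mul_smul, ← hzs.eq, mul_smul, hsx]) hsx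
    have hzy : z • y = y := by rw [← hwxy, ← mul_smul, hzw.eq, mul_smul, hzx]
    exact hxy (stronglyEmbedded_fixed_unique hH hz hzx hzy)
  have hr : s * w * d * (s * w)⁻¹ = d⁻¹ := by
    rw [show s * w * d * (s * w)⁻¹ = s * (w * d * w⁻¹) * s⁻¹ by group, hinv,
      (hcs.inv_left).symm.eq, mul_inv_cancel_right]
  have hrinv : (s * w)⁻¹ * d * (s * w)⁻¹⁻¹ = d⁻¹ := by
    calc (s * w)⁻¹ * d * (s * w)⁻¹⁻¹ = (s * w)⁻¹ * (s * w * d * (s * w)⁻¹)⁻¹ * (s * w) := by
          rw [hr, inv_inv, inv_inv]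
      _ = d⁻¹ := by group
  obtain ⟨i, rfl⟩ := Subgroup.mem_zpowers_iff.mp hcm
  have hc2 : ((s * w) ^ i)⁻¹ * d * (s * w) ^ i = d ∨ ((s * w) ^ i)⁻¹ * d * (s * w) ^ i = d⁻¹ := by
    clear hcm hc
    generalize s * w = r at hr hrinv
    induction i using Int.induction_on with
    | zero => left; simp
    | succ i ih =>
      have hr' : r⁻¹ * d * r = d⁻¹ := by simpa using hrinv
      rcases ih with h | h
      · right
        rw [show (r ^ ((i : ℤ) + 1))⁻¹ * d * r ^ ((i : ℤ) + 1) =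
          r⁻¹ * ((r ^ (i : ℤ))⁻¹ * d * r ^ (i : ℤ)) * r by group, h, hr']
      · left
        rw [show (r ^ ((i : ℤ) + 1))⁻¹ * d * r ^ ((i : ℤ) + 1) =
          r⁻¹ * ((r ^ (i : ℤ))⁻¹ * d * r ^ (i : ℤ)) * r by group, h,
          show r⁻¹ * d⁻¹ * r = (r⁻¹ * d * r)⁻¹ by group, hr', inv_inv]
    | pred i ih =>
      rcases ih with h | h
      · right
        rw [show (r ^ (-(i : ℤ) - 1))⁻¹ * d * r ^ (-(i : ℤ) - 1) =
          r * ((r ^ (-(i : ℤ)))⁻¹ * d * r ^ (-(i : ℤ))) * r⁻¹ by group, h, hr]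
      · left
        rw [show (r ^ (-(i : ℤ) - 1))⁻¹ * d * r ^ (-(i : ℤ) - 1) =
          r * ((r ^ (-(i : ℤ)))⁻¹ * d * r ^ (-(i : ℤ))) * r⁻¹ by group, h, ← conj_inv, hr, inv_inv]
  generalize (s * w) ^ i = c at hc hc2
  have hwd : w * d * w⁻¹ = d := by
    rw [← hc, show c * s * c⁻¹ * d * (c * s * c⁻¹)⁻¹ = c * (s * (c⁻¹ * d * c) * s⁻¹) * c⁻¹ by group]
    rcases hc2 with h | h
    · rw [h, hcs.symm.eq, mul_inv_cancel_right]
      rw [show c * d * c⁻¹ = c * (c⁻¹ * d * c) * c⁻¹ by rw [h]]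
      group
    · rw [h, (hcs.inv_left).symm.eq, mul_inv_cancel_right]
      rw [show c * d⁻¹ * c⁻¹ = c * (c⁻¹ * d * c) * c⁻¹ by rw [h]]
      group
  rw [hwd] at hinv
  have h2 : d ^ 2 = 1 := by
    rw [sq]
    calc d * d = d⁻¹ * d := by rw [← hinv]
      _ = 1 := inv_mul_cancel d
  obtain ⟨m, hm⟩ := hdodd
  have hd1 := pow_orderOf_eq_one d
  rw [hm, pow_succ, pow_mul, h2, one_pow, one_mul] at hd1
  rw [hd] at hd1
  rw [eq_inv_of_mul_eq_one_left hd1, inv_eq_of_orderOf_two hw]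

/-- The number of involutions interchanging `x ≠ y` equals the number fixing `y`. -/
theorem stronglyEmbedded_card_swap {H : Subgroup G} (hH : Cfsg.IsStronglyEmbedded H) {x y : G ⧸ H}
    (hxy : x ≠ y) :
    Nat.card {i : G // orderOf i = 2 ∧ i • x = y} = Nat.card {j : G // orderOf j = 2 ∧ j • y = y} := by
  obtain ⟨s, hs, hsx⟩ := stronglyEmbedded_exists_fixing hH x
  refine Nat.card_eq_of_bijective (fun w => ⟨w.1 * s * w.1⁻¹, (orderOf_conj_eq _ _).trans hs, by
    have hyx : w.1⁻¹ • y = x := inv_smul_eq_iff.mpr w.2.2.symm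
    rw [mul_smul, mul_smul, hyx, hsx]
    exact w.2.2⟩) ⟨?_, ?_⟩
  · rintro ⟨w, hw, hwxy⟩ ⟨w', hw', hw'xy⟩ he
    exact Subtype.ext (stronglyEmbedded_swap_unique hH hs hw hw' hsx hwxy hw'xy hxy (Subtype.mk.inj he))
  · rintro ⟨j, hj, hjy⟩
    obtain ⟨w, hw, hwxy, he⟩ := stronglyEmbedded_exists_swap hH hs hj hsx hjy hxy
    exact ⟨⟨w, hw, hwxy⟩, Subtype.ext he⟩

theorem stronglyEmbedded_card_fixing {H : Subgroup G} (hH : Cfsg.IsStronglyEmbedded H) (y : G ⧸ H) :
    Nat.card {j : G // orderOf j = 2 ∧ j • y = y} = Nat.card {t : G // orderOf t = 2 ∧ t ∈ H} := by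
  induction y using QuotientGroup.induction_on with
  | H a =>
  refine Nat.card_congr (Equiv.subtypeEquiv (MulAut.conj a⁻¹).toEquiv fun j => ?_)
  show _ ↔ orderOf (a⁻¹ * j * a⁻¹⁻¹) = 2 ∧ a⁻¹ * j * a⁻¹⁻¹ ∈ H
  rw [orderOf_conj_eq, inv_inv, smul_coset_eq_self]

/-- `D = H ∩ uHu⁻¹` is transitive on the involutions of `H`. -/
theorem stronglyEmbedded_transitive {H : Subgroup G} (hH : Cfsg.IsStronglyEmbedded H) {u s t : G}
    (hu : orderOf u = 2) (huH : u ∉ H) (hs : orderOf s = 2) (hsH : s ∈ H) (ht : orderOf t = 2)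
    (htH : t ∈ H) : ∃ d ∈ H ⊓ H.map (MulAut.conj u).toMonoidHom, d * s * d⁻¹ = t := by
  have hsx : s • (QuotientGroup.mk 1 : G ⧸ H) = QuotientGroup.mk 1 :=
    smul_coset_eq_self.mpr (by simpa using hsH)
  have htx : t • (QuotientGroup.mk 1 : G ⧸ H) = QuotientGroup.mk 1 :=
    smul_coset_eq_self.mpr (by simpa using htH)
  have hxy : (QuotientGroup.mk 1 : G ⧸ H) ≠ QuotientGroup.mk u := fun h => huH (by
    have := QuotientGroup.eq.mp h
    simpa using this)
  have hux : u • (QuotientGroup.mk 1 : G ⧸ H) = QuotientGroup.mk u := by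
    rw [MulAction.Quotient.smul_mk, smul_eq_mul, mul_one]
  obtain ⟨w, hw, hwxy, he⟩ := stronglyEmbedded_exists_swap hH ht ((orderOf_conj_eq u s).trans hs) htx
    (show (u * s * u⁻¹) • (QuotientGroup.mk u : G ⧸ H) = QuotientGroup.mk u by
      rw [← hux, mul_smul, mul_smul, inv_smul_smul, hsx]) hxy
  have hd1 : (w⁻¹ * u) • (QuotientGroup.mk 1 : G ⧸ H) = QuotientGroup.mk 1 := by
    rw [mul_smul, hux, ← hwxy, inv_smul_smul]
  have hd2 : (w⁻¹ * u) • (QuotientGroup.mk u : G ⧸ H) = QuotientGroup.mk u := by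
    rw [mul_smul, ← hux, smul_smul_invol hu, inv_eq_of_orderOf_two hw]
    rw [hwxy, hux]
  refine ⟨w⁻¹ * u, Subgroup.mem_inf.mpr ⟨?_, ?_⟩, ?_⟩
  · simpa using smul_coset_eq_self.mp hd1
  · exact mem_map_conj.mpr (smul_coset_eq_self.mp hd2)
  · rw [show w⁻¹ * u * s * (w⁻¹ * u)⁻¹ = w⁻¹ * (u * s * u⁻¹) * w by group, ← he]
    group

theorem stronglyEmbedded_one_class {H : Subgroup G} (hH : Cfsg.IsStronglyEmbedded H) {a b : G}
    (ha : orderOf a = 2) (hb : orderOf b = 2) : IsConj a b := by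
  obtain ⟨t, htH, ht⟩ := stronglyEmbedded_exists_involution hH
  suffices key : ∀ c, orderOf c = 2 → IsConj t c from (key a ha).symm.trans (key b hb)
  intro c hc
  by_contra hnc
  obtain ⟨g, hg⟩ : ∃ g, g ∉ H := by
    by_contra hall
    push Not at hall
    exact hH.1 ((Subgroup.eq_top_iff' H).mpr hall)
  have hcH : c ∈ H := by
    have he := even_of_not_isConj ht hc hnc
    have hz := orderOf_half he
    have hzt := commute_half_left ht hc he
    have hzc := commute_half_right ht hc he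
    generalize (t * c) ^ (orderOf (t * c) / 2) = z at hz hzt hzc
    have hzH : z ∈ H :=
      stronglyEmbedded_centralizer_le hH htH ht (Subgroup.mem_centralizer_singleton_iff.mpr hzt.eq)
    exact stronglyEmbedded_centralizer_le hH hzH hz (Subgroup.mem_centralizer_singleton_iff.mpr hzc.symm.eq)
  have hu : orderOf (g * t * g⁻¹) = 2 := (orderOf_conj_eq g t).trans ht
  obtain ⟨d, -, hd⟩ := stronglyEmbedded_transitive hH hu
    (fun h => hg (stronglyEmbedded_conj_mem hH htH ht h)) ht htH hc hcH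
  exact hnc (isConj_iff.mpr ⟨d, hd⟩)

end CfsgLib.Invol
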