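import Mathlib
import Cfsg.Agent.Lib.Invol.Embedded
import Cfsg.Agent.Lib.Solvable.CoprimeAction
import Cfsg.Agent.S1226

/-!
# Groups all of whose involution centralizers are elementary abelian 2-groups
-/

set_option autoImplicit false

namespace CfsgLib.Invol.Zass

open CfsgLib.Invol

/-- The standing hypotheses. -/
structure Setup {G : Type*} [Group G] (T : Sylow 2 G) : Prop where
  hnc : ¬ IsCyclic (T : Subgroup G)
  hnn : ¬ (T : Subgroup G).Normal
  hC : ∀ t : G, orderOf t = 2 → IsMulCommutative (Subgroup.centralizer ({t} : Set G)) ∧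
    ∀ c ∈ Subgroup.centralizer ({t} : Set G), c ^ 2 = 1

variable {G : Type*} [Group G] [Finite G] {T : Sylow 2 G}

local notation "N" => Subgroup.normalizer ((T : Subgroup G) : Set G)

theorem Setup.se (S : Setup T) : Cfsg.IsStronglyEmbedded N :=
  Cfsg.Agent.S1226.result T S.hnc S.hnn S.hC

theorem Setup.exists_center_involution (S : Setup T) :
    ∃ z ∈ (T : Subgroup G), orderOf z = 2 ∧ ∀ a ∈ (T : Subgroup G), a * z = z * a := by
  haveI : Nontrivial (T : Subgroup G) := by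
    rw [Subgroup.nontrivial_iff_ne_bot]
    intro h
    exact S.hnc (by rw [h]; infer_instance)
  haveI := T.isPGroup'.center_nontrivial
  obtain ⟨k, hk⟩ := IsPGroup.iff_card.mp (T.isPGroup'.to_subgroup (Subgroup.center (T : Subgroup G)))
  obtain ⟨z, hz⟩ := exists_prime_orderOf_dvd_card' (G := Subgroup.center (T : Subgroup G)) 2 (by
    rcases k with _ | k
    · rw [pow_zero] at hk
      have := Finite.one_lt_card (α := Subgroup.center (T : Subgroup G))
      omega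
    · exact ⟨2 ^ k, by rw [hk, pow_succ']⟩)
  exact ⟨((z : (T : Subgroup G)) : G), (z : (T : Subgroup G)).2,
    by rw [Subgroup.orderOf_coe, Subgroup.orderOf_coe, hz],
    fun a ha => congrArg Subtype.val (Subgroup.mem_center_iff.mp z.2 ⟨a, ha⟩)⟩

theorem Setup.comm (S : Setup T) {a b : G} (ha : a ∈ (T : Subgroup G)) (hb : b ∈ (T : Subgroup G)) :
    a * b = b * a := by
  obtain ⟨z, -, hz, hc⟩ := S.exists_center_involution
  haveI := (S.hC z hz).1
  exact congrArg Subtype.val (mul_comm'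
    (⟨a, Subgroup.mem_centralizer_singleton_iff.mpr (hc a ha)⟩ : Subgroup.centralizer ({z} : Set G))
    ⟨b, Subgroup.mem_centralizer_singleton_iff.mpr (hc b hb)⟩)

theorem Setup.orderOf_eq_two (S : Setup T) {a : G} (ha : a ∈ (T : Subgroup G)) (ha1 : a ≠ 1) :
    orderOf a = 2 := by
  obtain ⟨z, -, hz, hc⟩ := S.exists_center_involution
  exact orderOf_eq_prime
    ((S.hC z hz).2 a (Subgroup.mem_centralizer_singleton_iff.mpr (hc a ha))) ha1

theorem Setup.cent_mem (S : Setup T) {t c : G} (ht : t ∈ (T : Subgroup G)) (ht2 : orderOf t = 2)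
    (hc : c * t = t * c) : c ∈ (T : Subgroup G) := by
  have hp : IsPGroup 2 (Subgroup.centralizer ({t} : Set G)) := fun a =>
    ⟨1, Subtype.ext (by simpa using (S.hC t ht2).2 a.1 a.2)⟩
  have hle : (T : Subgroup G) ≤ Subgroup.centralizer ({t} : Set G) := fun a ha =>
    Subgroup.mem_centralizer_singleton_iff.mpr (S.comm ha ht)
  rw [← T.3 hp hle]
  exact Subgroup.mem_centralizer_singleton_iff.mpr hc

omit [Finite G] in
theorem mem_T_of_invol_mem {t : G} (ht : orderOf t = 2) (htN : t ∈ N) : t ∈ (T : Subgroup G) := by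
  have hp : IsPGroup 2 (Subgroup.zpowers t) :=
    IsPGroup.of_card (n := 1) (by rw [Nat.card_zpowers, ht, pow_one])
  rw [← T.3 (hp.to_sup_of_normal_right' T.isPGroup' (Subgroup.zpowers_le.mpr htN)) le_sup_right]
  exact Subgroup.mem_sup_left (Subgroup.mem_zpowers t)

omit [Finite G] in
theorem mem_N_iff_fix {g : G} : g ∈ N ↔ g • (QuotientGroup.mk 1 : G ⧸ N) = QuotientGroup.mk 1 := by
  rw [smul_coset_eq_self]; simp

variable (T) in
/-- The stabilizer of the base point and of `y`. -/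
def D (y : G ⧸ N) : Subgroup G := N ⊓ MulAction.stabilizer G y

omit [Finite G] in
theorem mem_D {y : G ⧸ N} {d : G} : d ∈ D T y ↔ d ∈ N ∧ d • y = y := Iff.rfl

omit [Finite G] in
theorem D_mk (u : G) : D T (QuotientGroup.mk u) = N ⊓ (N).map (MulAut.conj u).toMonoidHom := by
  ext d
  rw [mem_D, Subgroup.mem_inf, mem_map_conj, smul_coset_eq_self]

theorem Setup.exists_swap (S : Setup T) {y : G ⧸ N} (hy : y ≠ QuotientGroup.mk 1) :
    ∃ w : G, orderOf w = 2 ∧ w • (QuotientGroup.mk 1 : G ⧸ N) = y ∧ w ∉ N := by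
  obtain ⟨s, hs, hsx⟩ := stronglyEmbedded_exists_fixing S.se (QuotientGroup.mk 1 : G ⧸ N)
  obtain ⟨j, hj, hjy⟩ := stronglyEmbedded_exists_fixing S.se y
  obtain ⟨w, hw, hwy, -⟩ := stronglyEmbedded_exists_swap S.se hs hj hsx hjy (Ne.symm hy)
  refine ⟨w, hw, hwy, fun h => hy ?_⟩
  rw [← hwy, mem_N_iff_fix.mp h]

theorem Setup.T_inf_D (S : Setup T) {y : G ⧸ N} (hy : y ≠ QuotientGroup.mk 1) {d : G}
    (hdT : d ∈ (T : Subgroup G)) (hd : d ∈ D T y) : d = 1 := by
  by_contra h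
  exact hy (stronglyEmbedded_fixed_unique S.se (S.orderOf_eq_two hdT h) (mem_D.mp hd).2
    (mem_N_iff_fix.mp (Subgroup.le_normalizer hdT)))

theorem Setup.odd_D (S : Setup T) {y : G ⧸ N} (hy : y ≠ QuotientGroup.mk 1) :
    Odd (Nat.card (D T y)) := by
  obtain ⟨w, -, hwy, hwN⟩ := S.exists_swap hy
  rw [← hwy, MulAction.Quotient.smul_mk, smul_eq_mul, mul_one, D_mk]
  exact S.se.2.2 w hwN

theorem Setup.transitive (S : Setup T) {y : G ⧸ N} (hy : y ≠ QuotientGroup.mk 1) {s t : G}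
    (hs : orderOf s = 2) (hsT : s ∈ (T : Subgroup G)) (ht : orderOf t = 2)
    (htT : t ∈ (T : Subgroup G)) : ∃ d ∈ D T y, d * s * d⁻¹ = t := by
  obtain ⟨w, hw, hwy, hwN⟩ := S.exists_swap hy
  obtain ⟨d, hd, h⟩ := stronglyEmbedded_transitive S.se hw hwN hs (Subgroup.le_normalizer hsT) ht
    (Subgroup.le_normalizer htT)
  refine ⟨d, ?_, h⟩
  rw [← hwy, MulAction.Quotient.smul_mk, smul_eq_mul, mul_one, D_mk]
  exact hd

theorem Setup.exists_eq_mul (S : Setup T) {y : G ⧸ N} (hy : y ≠ QuotientGroup.mk 1) {h : G}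
    (hh : h ∈ N) : ∃ d ∈ D T y, ∃ a ∈ (T : Subgroup G), h = d * a := by
  obtain ⟨z, hzT, hz, -⟩ := S.exists_center_involution
  have hzT' : h * z * h⁻¹ ∈ (T : Subgroup G) := (Subgroup.mem_normalizer_iff.mp hh z).mp hzT
  obtain ⟨d, hd, he⟩ := S.transitive hy hz hzT ((orderOf_conj_eq h z).trans hz) hzT'
  refine ⟨d, hd, d⁻¹ * h, S.cent_mem hzT hz ?_, by group⟩
  rw [← mul_inv_eq_iff_eq_mul,
    show d⁻¹ * h * z * (d⁻¹ * h)⁻¹ = d⁻¹ * (h * z * h⁻¹) * d by group, ← he]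
  group

theorem Setup.exists_eq_mul' (S : Setup T) {y : G ⧸ N} (hy : y ≠ QuotientGroup.mk 1) {h : G}
    (hh : h ∈ N) : ∃ a ∈ (T : Subgroup G), ∃ d ∈ D T y, h = a * d := by
  obtain ⟨d, hd, a, ha, e⟩ := S.exists_eq_mul hy (inv_mem hh)
  exact ⟨a⁻¹, inv_mem ha, d⁻¹, inv_mem hd, by rw [← mul_inv_rev, ← e, inv_inv]⟩

theorem Setup.card_D_add_one (S : Setup T) {y : G ⧸ N} (hy : y ≠ QuotientGroup.mk 1) :
    Nat.card (D T y) + 1 = Nat.card (T : Subgroup G) := by
  classical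
  haveI := Fintype.ofFinite (T : Subgroup G)
  obtain ⟨z, hzT, hz, -⟩ := S.exists_center_involution
  have e : Nat.card (D T y) = Nat.card {a : (T : Subgroup G) // a ≠ 1} := by
    refine Nat.card_eq_of_bijective (fun d => ⟨⟨(d : G) * z * (d : G)⁻¹,
      (Subgroup.mem_normalizer_iff.mp (mem_D.mp d.2).1 z).mp hzT⟩, fun h => ?_⟩) ⟨?_, ?_⟩
    · exact ne_one_of_orderOf_two ((orderOf_conj_eq (d : G) z).trans hz) (congrArg Subtype.val h)
    · rintro ⟨a, ha⟩ ⟨b, hb⟩ h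
      simp only [Subtype.mk.injEq] at h
      apply Subtype.ext
      have h1 : a⁻¹ * b ∈ (T : Subgroup G) := S.cent_mem hzT hz (by
        rw [← mul_inv_eq_iff_eq_mul,
          show a⁻¹ * b * z * (a⁻¹ * b)⁻¹ = a⁻¹ * (b * z * b⁻¹) * a by group, ← h]
        group)
      exact inv_mul_eq_one.mp (S.T_inf_D hy h1 (mul_mem (inv_mem ha) hb))
    · rintro ⟨⟨a, ha⟩, ha1⟩
      obtain ⟨d, hd, hda⟩ :=
        S.transitive hy hz hzT (S.orderOf_eq_two ha (fun h => ha1 (Subtype.ext h))) ha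
      exact ⟨⟨d, hd⟩, Subtype.ext (Subtype.ext hda)⟩
  rw [e, Nat.card_eq_fintype_card, Fintype.card_subtype_compl, Fintype.card_subtype_eq,
    Nat.card_eq_fintype_card]
  have : 0 < Fintype.card (T : Subgroup G) := Fintype.card_pos
  omega

theorem Setup.exists_ne_one_D (S : Setup T) {y : G ⧸ N} (hy : y ≠ QuotientGroup.mk 1) :
    ∃ d ∈ D T y, d ≠ 1 := by
  by_contra h
  push Not at h
  have hbot : D T y = ⊥ := (Subgroup.eq_bot_iff_forall _).mpr h
  have h1 := S.card_D_add_one hy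
  rw [hbot, Subgroup.card_bot] at h1
  haveI : Fact (Nat.Prime 2) := ⟨Nat.prime_two⟩
  exact S.hnc (isCyclic_of_prime_card (p := 2) h1.symm)

/-- An involution swapping the base point and `y` inverts `D`. -/
theorem Setup.invert (S : Setup T) {y : G ⧸ N} (hy : y ≠ QuotientGroup.mk 1) {u : G}
    (hu : orderOf u = 2) (huy : u • (QuotientGroup.mk 1 : G ⧸ N) = y) {d : G} (hd : d ∈ D T y) :
    u * d * u⁻¹ = d⁻¹ := by
  classical
  have hyu : u • y = QuotientGroup.mk 1 := by rw [← huy, smul_smul_invol hu]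
  have hcard : Nat.card {i : G // orderOf i = 2 ∧ i • (QuotientGroup.mk 1 : G ⧸ N) = y} =
      Nat.card (D T y) := by
    rw [stronglyEmbedded_card_swap S.se (Ne.symm hy), stronglyEmbedded_card_fixing S.se y]
    obtain ⟨z, hzT, hz, -⟩ := S.exists_center_involution
    symm
    refine Nat.card_eq_of_bijective (fun d => ⟨(d : G) * z * (d : G)⁻¹,
      (orderOf_conj_eq _ _).trans hz,
      mul_mem (mul_mem (mem_D.mp d.2).1 (Subgroup.le_normalizer hzT)) (inv_mem (mem_D.mp d.2).1)⟩) ⟨?_, ?_⟩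
    · rintro ⟨a, ha⟩ ⟨b, hb⟩ h
      simp only [Subtype.mk.injEq] at h
      apply Subtype.ext
      have h1 : a⁻¹ * b ∈ (T : Subgroup G) := S.cent_mem hzT hz (by
        rw [← mul_inv_eq_iff_eq_mul,
          show a⁻¹ * b * z * (a⁻¹ * b)⁻¹ = a⁻¹ * (b * z * b⁻¹) * a by group, ← h]
        group)
      exact inv_mul_eq_one.mp (S.T_inf_D hy h1 (mul_mem (inv_mem ha) hb))
    · rintro ⟨a, ha, haN⟩
      obtain ⟨e, he, hea⟩ := S.transitive hy hz hzT ha (mem_T_of_invol_mem ha haN)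
      exact ⟨⟨e, he⟩, Subtype.ext hea⟩
  let f : {i : G // orderOf i = 2 ∧ i • (QuotientGroup.mk 1 : G ⧸ N) = y} → D T y := fun i =>
    ⟨u * i.1, mem_D.mpr ⟨mem_N_iff_fix.mpr (by rw [mul_smul, i.2.2, hyu]), by
      have h1 : i.1 • y = QuotientGroup.mk 1 :=
        (congrArg (i.1 • ·) i.2.2).symm.trans (smul_smul_invol i.2.1 _)
      rw [mul_smul, h1, huy]⟩⟩
  have hf : Function.Bijective f := (Nat.bijective_iff_injective_and_card _).mpr
    ⟨fun a b h => Subtype.ext (mul_left_cancel (Subtype.mk.inj h)), hcard⟩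
  obtain ⟨i, hi⟩ := hf.2 ⟨d, hd⟩
  have hd' : u * i.1 = d := congrArg Subtype.val hi
  rw [← hd']
  exact conj_mul_eq_inv hu i.2.1

theorem Setup.D_comm (S : Setup T) {y : G ⧸ N} (hy : y ≠ QuotientGroup.mk 1) {a b : G}
    (ha : a ∈ D T y) (hb : b ∈ D T y) : a * b = b * a := by
  obtain ⟨u, hu, huy, -⟩ := S.exists_swap hy
  have h := S.invert hy hu huy (mul_mem ha hb)
  rw [show u * (a * b) * u⁻¹ = (u * a * u⁻¹) * (u * b * u⁻¹) by group, S.invert hy hu huy ha,
    S.invert hy hu huy hb, ← mul_inv_rev] at h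
  exact (inv_injective h).symm

/-- Nothing in `N` inverts a nontrivial element of `D`. -/
theorem Setup.not_invert (S : Setup T) {y : G ⧸ N} (hy : y ≠ QuotientGroup.mk 1) {h d : G}
    (hh : h ∈ N) (hd : d ∈ D T y) (hinv : h * d * h⁻¹ = d⁻¹) : d = 1 := by
  obtain ⟨e, he, a, ha, rfl⟩ := S.exists_eq_mul hy hh
  have h1 : a * d * a⁻¹ = d⁻¹ := by
    calc a * d * a⁻¹ = e⁻¹ * (e * a * d * (e * a)⁻¹) * e := by group
      _ = e⁻¹ * d⁻¹ * e := by rw [hinv]
      _ = d⁻¹ := by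
        rw [mul_assoc, S.D_comm hy (inv_mem hd) he, ← mul_assoc, inv_mul_cancel, one_mul]
  have h2 : d * d ∈ (T : Subgroup G) := by
    have h3 : d * a * d⁻¹ ∈ (T : Subgroup G) :=
      (Subgroup.mem_normalizer_iff.mp (mem_D.mp hd).1 a).mp ha
    have e1 : d * d = (d * a * d⁻¹) * a⁻¹ := by
      calc d * d = d * (a * d * a⁻¹)⁻¹ := by rw [h1, inv_inv]
        _ = _ := by group
    rw [e1]
    exact mul_mem h3 (inv_mem ha)
  have h3 := S.T_inf_D hy h2 (mul_mem hd hd)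
  obtain ⟨m, hm⟩ := (S.odd_D hy).of_dvd_nat (Subgroup.orderOf_dvd_natCard _ hd)
  have h4 := pow_orderOf_eq_one d
  rwa [hm, pow_succ, pow_mul, sq, h3, one_pow, one_mul] at h4

theorem Setup.fixed_eq (S : Setup T) {y z : G ⧸ N} (hy : y ≠ QuotientGroup.mk 1)
    (hz : z ≠ QuotientGroup.mk 1) (hfix : ∀ d ∈ D T y, d • z = z) : z = y := by
  have hle : D T y ≤ D T z := fun d hd => mem_D.mpr ⟨(mem_D.mp hd).1, hfix d hd⟩
  have heq : D T y = D T z := Subgroup.eq_of_le_of_card_ge hle (by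
    have h1 := S.card_D_add_one hy
    have h2 := S.card_D_add_one hz
    omega)
  obtain ⟨w1, hw1, hw1y, -⟩ := S.exists_swap hy
  obtain ⟨w2, hw2, hw2z, -⟩ := S.exists_swap hz
  set v := w2 • y with hvdef
  by_cases hv : v = QuotientGroup.mk 1
  · have h1 : w2 • z = QuotientGroup.mk 1 := by rw [← hw2z, smul_smul_invol hw2]
    exact smul_left_cancel w2 (h1.trans hv.symm)
  obtain ⟨d, hd, hd1⟩ := S.exists_ne_one_D hy
  -- `w2 * w1` centralises `D`
  have hgc : ∀ e ∈ D T y, w2 * w1 * e * (w2 * w1)⁻¹ = e := by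
    intro e he
    rw [show w2 * w1 * e * (w2 * w1)⁻¹ = w2 * (w1 * e * w1⁻¹) * w2⁻¹ by group,
      S.invert hy hw1 hw1y he, ← conj_inv, S.invert hz hw2 hw2z (heq ▸ he), inv_inv]
  have hgv : (w2 * w1) • (QuotientGroup.mk 1 : G ⧸ N) = v := by rw [mul_smul, hw1y]
  have hleV : D T y ≤ D T v := fun e he => mem_D.mpr ⟨(mem_D.mp he).1, by
    have e1 : e * (w2 * w1) = w2 * w1 * e := (mul_inv_eq_iff_eq_mul.mp (hgc e he)).symm
    rw [← hgv, ← mul_smul, e1, mul_smul, mem_N_iff_fix.mp (mem_D.mp he).1]⟩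
  obtain ⟨w3, hw3, hw3v, -⟩ := S.exists_swap hv
  have hh : w3 * (w2 * w1) ∈ N := mem_N_iff_fix.mpr (by
    rw [mul_smul, hgv, ← hw3v, smul_smul_invol hw3])
  refine absurd (S.not_invert hy hh hd ?_) hd1
  rw [show w3 * (w2 * w1) * d * (w3 * (w2 * w1))⁻¹ = w3 * (w2 * w1 * d * (w2 * w1)⁻¹) * w3⁻¹ by group,
    hgc d hd, S.invert hv hw3 hw3v (hleV hd)]

theorem Setup.T_transitive (S : Setup T) {y z : G ⧸ N} (hy : y ≠ QuotientGroup.mk 1)
    (hz : z ≠ QuotientGroup.mk 1) : ∃ a ∈ (T : Subgroup G), a • z = y := by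
  haveI : Group.IsNilpotent (T : Subgroup G) := T.isPGroup'.isNilpotent
  obtain ⟨k, hk⟩ := IsPGroup.iff_card.mp T.isPGroup'
  have hcop : (Nat.card (D T y)).Coprime (Nat.card (T : Subgroup G)) := by
    rw [hk]
    exact (Nat.Prime.coprime_iff_not_dvd Nat.prime_two).mpr
      (fun h => Nat.not_even_iff_odd.mpr (S.odd_D hy) (even_iff_two_dvd.mpr h)) |>.symm.pow_right k
  obtain ⟨a, ha, hfix⟩ := CfsgLib.Solvable.exists_fixed_point (Ω := G ⧸ N) (D T y) (T : Subgroup G)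
    inf_le_left hcop (Or.inr inferInstance) z (fun e he => by
      obtain ⟨b, hb, f, hf, rfl⟩ := S.exists_eq_mul' hz (mem_D.mp he).1
      exact ⟨b, hb, by rw [mul_smul, (mem_D.mp hf).2]⟩)
  refine ⟨a, ha, S.fixed_eq hy ?_ hfix⟩
  intro h
  apply hz
  rw [← mem_N_iff_fix.mp (inv_mem (Subgroup.le_normalizer ha)), ← h, inv_smul_smul]

theorem Setup.T_free (S : Setup T) {z : G ⧸ N} (hz : z ≠ QuotientGroup.mk 1) {a b : G}
    (ha : a ∈ (T : Subgroup G)) (hb : b ∈ (T : Subgroup G)) (h : a • z = b • z) : a = b :=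
  (inv_mul_eq_one.mp (S.T_inf_D hz (mul_mem (inv_mem hb) ha) (mem_D.mpr
    ⟨Subgroup.le_normalizer (mul_mem (inv_mem hb) ha), by rw [mul_smul, h, inv_smul_smul]⟩))).symm

theorem Setup.D_free (S : Setup T) {y z : G ⧸ N} (hy : y ≠ QuotientGroup.mk 1)
    (hz : z ≠ QuotientGroup.mk 1) (hzy : z ≠ y) {d : G} (hd : d ∈ D T y) (hdz : d • z = z) :
    d = 1 := by
  by_contra hd1
  refine hzy (S.fixed_eq hz hy (fun e he => ?_)).symm
  obtain ⟨a, ha, f, hf, hef⟩ := S.exists_eq_mul' hy (mem_D.mp he).1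
  have hdz' : d ∈ D T z := mem_D.mpr ⟨(mem_D.mp hd).1, hdz⟩
  have hc1 : Commute d e := S.D_comm hz hdz' he
  have hc2 : Commute d f := S.D_comm hy hd hf
  have hca : Commute d a := by
    have := hc1.mul_right hc2.inv_right
    rwa [hef, mul_inv_cancel_right] at this
  by_cases ha1 : a = 1
  · rw [hef, ha1, one_mul]
    exact (mem_D.mp hf).2
  · exact absurd (S.T_inf_D hy (S.cent_mem ha (S.orderOf_eq_two ha ha1) hca.eq) hd) hd1

theorem Setup.card_coset (S : Setup T) :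
    Nat.card (G ⧸ N) = Nat.card (T : Subgroup G) + 1 := by
  classical
  haveI := Fintype.ofFinite (G ⧸ N)
  obtain ⟨g, hg⟩ : ∃ g : G, g ∉ N := by
    by_contra h
    push Not at h
    exact S.se.1 ((Subgroup.eq_top_iff' _).mpr h)
  have hy : (QuotientGroup.mk g : G ⧸ N) ≠ QuotientGroup.mk 1 := fun h => hg (by
    simpa using QuotientGroup.eq.mp h)
  have e : Nat.card (T : Subgroup G) = Nat.card {z : G ⧸ N // z ≠ QuotientGroup.mk 1} := by
    refine Nat.card_eq_of_bijective (fun a => ⟨(a : G) • (QuotientGroup.mk g : G ⧸ N), fun h => ?_⟩)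
      ⟨fun a b h => Subtype.ext (S.T_free hy a.2 b.2 (Subtype.mk.inj h)), fun z => ?_⟩
    · apply hy
      rw [← mem_N_iff_fix.mp (inv_mem (Subgroup.le_normalizer a.2)), ← h, inv_smul_smul]
    · obtain ⟨a, ha, h⟩ := S.T_transitive z.2 hy
      exact ⟨⟨a, ha⟩, Subtype.ext h⟩
  rw [e, Nat.card_eq_fintype_card (α := {z : G ⧸ N // z ≠ QuotientGroup.mk 1}),
    Fintype.card_subtype_compl, Fintype.card_subtype_eq, Nat.card_eq_fintype_card]
  have : 0 < Fintype.card (G ⧸ N) := Fintype.card_pos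
  omega

theorem Setup.D_transitive (S : Setup T) {y z z' : G ⧸ N} (hy : y ≠ QuotientGroup.mk 1)
    (hz : z ≠ QuotientGroup.mk 1) (hzy : z ≠ y) (hz' : z' ≠ QuotientGroup.mk 1) (hzy' : z' ≠ y) :
    ∃ d ∈ D T y, d • z = z' := by
  classical
  haveI := Fintype.ofFinite (G ⧸ N)
  have hmove : ∀ d ∈ D T y, d • z ≠ QuotientGroup.mk 1 ∧ d • z ≠ y := by
    intro d hd
    constructor
    · intro h
      apply hz
      rw [← mem_N_iff_fix.mp (inv_mem (mem_D.mp hd).1), ← h, inv_smul_smul]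
    · intro h
      apply hzy
      rw [← (mem_D.mp (inv_mem hd)).2, ← h, inv_smul_smul]
  let f : D T y → {w : G ⧸ N // w ≠ QuotientGroup.mk 1 ∧ w ≠ y} := fun d =>
    ⟨(d : G) • z, hmove _ d.2⟩
  have hinj : Function.Injective f := fun a b h => Subtype.ext (inv_mul_eq_one.mp
    (S.D_free hy hz hzy (mul_mem (inv_mem a.2) b.2) (by
      rw [mul_smul, ← (Subtype.mk.inj h : (a : G) • z = (b : G) • z), inv_smul_smul])))
  have hcard : Nat.card (D T y) = Nat.card {w : G ⧸ N // w ≠ QuotientGroup.mk 1 ∧ w ≠ y} := by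
    have h1 := S.card_D_add_one hy
    have h2 := S.card_coset
    rw [Nat.card_eq_fintype_card (α := G ⧸ N)] at h2
    rw [Nat.card_eq_fintype_card (α := {w : G ⧸ N // w ≠ QuotientGroup.mk 1 ∧ w ≠ y}),
      Fintype.card_subtype]
    have e : Finset.univ.filter (fun w : G ⧸ N => w ≠ QuotientGroup.mk 1 ∧ w ≠ y) =
        Finset.univ \ {QuotientGroup.mk 1, y} := by ext w; simp
    rw [e, Finset.card_univ_diff, Finset.card_pair (Ne.symm hy)]
    omega
  obtain ⟨d, hd⟩ := ((Nat.bijective_iff_injective_and_card f).mpr ⟨hinj, hcard⟩).2 ⟨z', hz', hzy'⟩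
  exact ⟨d, d.2, congrArg Subtype.val hd⟩

end CfsgLib.Invol.Zass
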