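import Mathlib

/-!
# Transfer of an element with controlled powers
-/

set_option autoImplicit false

namespace CfsgLib.Invol

variable {G : Type*} [Group G] [Finite G]

theorem transfer_eq_map_pow_index {H : Subgroup G} {A : Type*} [CommGroup A] (φ : ↥H →* A) (g : G)
    (hg : g ∈ H)
    (key : ∀ (k : ℕ) (g₀ : G) (hk : g₀⁻¹ * g ^ k * g₀ ∈ H),
      φ ⟨g₀⁻¹ * g ^ k * g₀, hk⟩ = φ ⟨g, hg⟩ ^ k) :
    MonoidHom.transfer φ g = φ ⟨g, hg⟩ ^ H.index := by
  classical
  let := H.fintypeQuotientOfFiniteIndex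
  rw [MonoidHom.transfer_eq_prod_quotient_orbitRel_zpowers_quot,
    Subgroup.index_eq_sum_minimalPeriod H g, ← Finset.prod_pow_eq_pow_sum]
  exact Finset.prod_congr rfl fun q _ => key _ _ _

theorem map_eq_one_of_coprime {G' A : Type*} [Group G'] [Monoid A] {x : G'} (φ : G' →* A) {a b : ℕ}
    (h1 : x ^ a = 1) (h2 : φ x ^ b = 1) (h : Nat.Coprime a b) : φ x = 1 := by
  rw [← orderOf_eq_one_iff]
  refine Nat.eq_one_of_dvd_coprimes h (orderOf_dvd_of_pow_eq_one ?_) (orderOf_dvd_of_pow_eq_one h2)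
  rw [← map_pow, h1, map_one]

theorem commutator_le_ker {A : Type*} [CommGroup A] (f : G →* A) : commutator G ≤ f.ker := by
  rw [commutator_def, Subgroup.commutator_le]
  intro a _ b _
  rw [MonoidHom.mem_ker, map_commutatorElement]
  exact commutatorElement_eq_one_iff_mul_comm.mpr (mul_comm _ _)

end CfsgLib.Invol
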