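import Mathlib
import Cfsg.Agent.Lib.Invol.ZStarFinal
import Cfsg.Agent.Lib.Transfer.Fusion

/-!
# Central elements of a Sylow 2-subgroup fixed under fusion are central modulo the odd core
-/

set_option autoImplicit false

namespace CfsgLib.Invol

open Cfsg

variable {G : Type*} [Group G]

/-- Factoring out a central 2-subgroup keeps the odd core trivial. -/
theorem oddCore_quotient_central_two [Finite G] (hO : oddCore G = ⊥) (N : Subgroup G) [N.Normal]
    (hN2 : IsPGroup 2 N) (hNc : N ≤ Subgroup.center G) : oddCore (G ⧸ N) = ⊥ := by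
  set π := QuotientGroup.mk' N with hπ
  set R := oddCore (G ⧸ N)
  have hRn : R.Normal := by
    have := CfsgLib.Cores.pPrimeCore_characteristic (G := G ⧸ N) 2
    infer_instance
  set M := R.comap π with hM
  have hNM : N ≤ M := fun x hx => by
    rw [hM, Subgroup.mem_comap, hπ, QuotientGroup.mk'_apply, (QuotientGroup.eq_one_iff x).mpr hx]
    exact one_mem R
  have : (N.subgroupOf M).Normal := inferInstance
  have hodd : Odd (Nat.card R) := CfsgLib.Cores.odd_card_oddCore
  have hcardM : Nat.card M = Nat.card N * Nat.card R := CfsgLib.Solvable.card_comap_mk' N R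
  have hidx : (N.subgroupOf M).index = Nat.card R := by
    have h := (N.subgroupOf M).card_mul_index
    rw [Nat.card_congr (Subgroup.subgroupOfEquivOfLe hNM).toEquiv, hcardM] at h
    exact Nat.eq_of_mul_eq_mul_left Nat.card_pos h
  obtain ⟨H, hH⟩ := Subgroup.exists_left_complement'_of_coprime (N := N.subgroupOf M) (by
    obtain ⟨j, hj⟩ := hN2.exists_card_eq
    rw [Nat.card_congr (Subgroup.subgroupOfEquivOfLe hNM).toEquiv, hj, hidx]
    exact (Nat.coprime_two_left.mpr hodd).pow_left j)
  have hHcard : Nat.card H = Nat.card R := by rw [← hidx, hH.index_eq_card]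
  have hmem : ∀ x : M, x ∈ H ↔ Odd (orderOf x) := by
    intro x
    constructor
    · intro hx
      exact hodd.of_dvd_nat (hHcard ▸ Subgroup.orderOf_dvd_natCard H hx)
    · intro hx
      obtain ⟨⟨h, c⟩, hhc⟩ := hH.2 x
      simp only at hhc
      have hcomm : Commute (h : M) (c : M) := by
        apply Subtype.ext
        exact Subgroup.mem_center_iff.mp (hNc (Subgroup.mem_subgroupOf.mp c.2)) _
      obtain ⟨j, hj⟩ := hN2 ⟨_, Subgroup.mem_subgroupOf.mp c.2⟩
      have hc2 : (c : M) ^ 2 ^ j = 1 := by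
        apply Subtype.ext
        simpa using congrArg Subtype.val hj
      have hc1 : (c : M) = 1 := by
        have ho : Odd (orderOf x * orderOf (h : M)) := hx.mul (hodd.of_dvd_nat
          (hHcard ▸ Subgroup.orderOf_dvd_natCard H h.2))
        have h1 : (c : M) ^ (orderOf x * orderOf (h : M)) = 1 := by
          have h3 : x ^ (orderOf x * orderOf (h : M)) = 1 := by
            rw [pow_mul, pow_orderOf_eq_one, one_pow]
          rw [← hhc, hcomm.mul_pow] at h3
          rw [pow_mul' (h : M), pow_orderOf_eq_one, one_pow, one_mul] at h3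
          rw [hhc] at h3
          exact h3
        exact orderOf_eq_one_iff.mp (Nat.eq_one_of_dvd_coprimes
          ((Nat.coprime_two_right.mpr ho).pow_right j)
          (orderOf_dvd_of_pow_eq_one h1) (orderOf_dvd_of_pow_eq_one hc2))
      rw [← hhc, hc1, mul_one]
      exact h.2
  set K := H.map M.subtype with hK
  have hKn : K.Normal := ⟨fun k hk g => by
    obtain ⟨x, hx, rfl⟩ := Subgroup.mem_map.mp hk
    have hgx : g * (x : G) * g⁻¹ ∈ M := by
      have := Subgroup.Normal.comap hRn π
      exact this.conj_mem _ x.2 g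
    refine Subgroup.mem_map.mpr ⟨⟨_, hgx⟩, (hmem _).mpr ?_, rfl⟩
    rw [Subgroup.orderOf_mk, orderOf_conj_eq, Subgroup.orderOf_coe]
    exact (hmem x).mp hx⟩
  have hKcard : Nat.card K = Nat.card R := by
    rw [hK, Subgroup.card_map_of_injective M.subtype_injective, hHcard]
  have hKbot : K = ⊥ := by
    rw [eq_bot_iff, ← hO]
    exact CfsgLib.Cores.le_oddCore_of_odd (hKcard ▸ hodd)
  rw [hKbot, Subgroup.card_bot] at hKcard
  exact Subgroup.eq_bot_of_card_eq _ hKcard.symm

/-- **Extended Z*-theorem.** If the elements of the centre of a Sylow 2-subgroup have no other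
conjugate in it, they are central modulo the odd core. -/
theorem fusionFixed_central [Finite G] (S : Sylow 2 G)
    (hfix : ∀ a ∈ (S : Subgroup G), (∀ s ∈ (S : Subgroup G), s * a = a * s) →
      ∀ g : G, g * a * g⁻¹ ∈ (S : Subgroup G) → g * a * g⁻¹ = a)
    (a : G) (haS : a ∈ (S : Subgroup G)) (hac : ∀ s ∈ (S : Subgroup G), s * a = a * s) (g : G) :
    g * a * g⁻¹ * a⁻¹ ∈ oddCore G := by
  classical
  haveI hOn : (oddCore G).Normal := by
    have := CfsgLib.Cores.pPrimeCore_characteristic (G := G) 2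
    exact inferInstanceAs (pPrimeCore 2 G).Normal
  set π := QuotientGroup.mk' (oddCore G) with hπ
  have hOY : oddCore (G ⧸ oddCore G) = ⊥ := CfsgLib.Cores.pPrimeCore_quotient_self 2
  set T := S.mapSurjective (QuotientGroup.mk'_surjective (oddCore G))
  suffices h : ∀ (m : ℕ) (a : G), a ∈ (S : Subgroup G) → (∀ s ∈ (S : Subgroup G), s * a = a * s) →
      a ^ 2 ^ m = 1 → π a ∈ Subgroup.center (G ⧸ oddCore G) by
    obtain ⟨m, hm⟩ := S.2 ⟨a, haS⟩
    have h1 := Subgroup.mem_center_iff.mp (h m a haS hac (by simpa using congrArg Subtype.val hm)) (π g)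
    rw [← QuotientGroup.eq_one_iff, ← QuotientGroup.mk'_apply, map_mul, map_mul, map_mul, h1, map_inv,
      map_inv, mul_inv_cancel_right, mul_inv_cancel]
  intro m
  induction m with
  | zero =>
    intro a _ _ h
    rw [pow_zero, pow_one] at h
    rw [h, map_one]
    exact one_mem _
  | succ m ih =>
    intro a haS hac h
    have hb := ih (a * a) (Subgroup.mul_mem _ haS haS)
      (fun s hs => by rw [← mul_assoc, hac s hs, mul_assoc, hac s hs, mul_assoc])
      (by rw [← pow_two, ← pow_mul, ← pow_succ']; exact h)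
    set B := Subgroup.zpowers (π (a * a)) with hB
    have hBc : B ≤ Subgroup.center (G ⧸ oddCore G) := Subgroup.zpowers_le.mpr hb
    haveI hBn : B.Normal := ⟨fun x hx y => by
      rw [Subgroup.mem_center_iff.mp (hBc hx) y, mul_inv_cancel_right]; exact hx⟩
    have hBT : B ≤ (T : Subgroup (G ⧸ oddCore G)) :=
      Subgroup.zpowers_le.mpr (Subgroup.mem_map_of_mem _ (Subgroup.mul_mem _ haS haS))
    have hfixY : ∀ y, y * π a * y⁻¹ ∈ (T : Subgroup (G ⧸ oddCore G)) → y * π a * y⁻¹ = π a := by
      intro y hy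
      obtain ⟨k, rfl⟩ := QuotientGroup.mk'_surjective _ y
      rw [← map_inv, ← map_mul, ← map_mul] at hy ⊢
      have hw : k * a * k⁻¹ ∈ (S : Subgroup G) ⊔ oddCore G := by
        have h1 : k * a * k⁻¹ ∈ ((S : Subgroup G).map π).comap π := hy
        rwa [Subgroup.comap_map_eq, hπ, QuotientGroup.ker_mk'] at h1
      obtain ⟨m', hm'⟩ := S.2 ⟨a, haS⟩
      obtain ⟨q, hq, hqS⟩ := CfsgLib.Transfer.exists_conj_mem_of_mem S le_sup_left hw
        (k := m') (by rw [conj_pow, show a ^ 2 ^ m' = 1 by simpa using congrArg Subtype.val hm']; group)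
      obtain ⟨s, hs, n, hn, rfl⟩ := Subgroup.mem_sup_of_normal_right.mp hq
      have h3 : (n * k) * a * (n * k)⁻¹ ∈ (S : Subgroup G) := by
        have h4 := Subgroup.mul_mem _ (Subgroup.mul_mem _ (Subgroup.inv_mem _ hs) hqS) hs
        rw [show (n * k) * a * (n * k)⁻¹ = s⁻¹ * (s * n * (k * a * k⁻¹) * (s * n)⁻¹) * s by group]
        exact h4
      have h5 := congrArg π (hfix a haS hac _ h3)
      simp only [map_mul, map_inv, show π n = 1 from (QuotientGroup.eq_one_iff n).mpr hn, one_mul] at h5
      show π (k * a * k⁻¹) = π a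
      rw [map_mul, map_mul, map_inv]
      exact h5
    by_cases haB : π a ∈ B
    · exact hBc haB
    set ρ := QuotientGroup.mk' B with hρ
    have hord : orderOf (ρ (π a)) = 2 := orderOf_eq_prime
      (by rw [pow_two, ← map_mul, ← map_mul, hρ, QuotientGroup.mk'_apply, QuotientGroup.eq_one_iff]
          exact Subgroup.mem_zpowers _)
      (fun h1 => haB ((QuotientGroup.eq_one_iff _).mp h1))
    have hiso : IsIsolatedInvolution (ρ (π a)) := by
      refine isolated_of_sylow (T.mapSurjective (QuotientGroup.mk'_surjective B)) hord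
        (Subgroup.mem_map_of_mem _ (Subgroup.mem_map_of_mem _ haS)) ?_
      intro y hy
      obtain ⟨y, rfl⟩ := QuotientGroup.mk'_surjective B y
      rw [← map_inv, ← map_mul, ← map_mul] at hy ⊢
      have h1 : y * π a * y⁻¹ ∈ ((T : Subgroup (G ⧸ oddCore G)).map ρ).comap ρ := hy
      rw [Subgroup.comap_map_eq, hρ, QuotientGroup.ker_mk', sup_eq_left.mpr hBT] at h1
      rw [hfixY y h1]
    have hcen := zstar_center hiso (oddCore_quotient_central_two hOY B (T.2.to_le hBT) hBc)
    rw [Subgroup.mem_center_iff]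
    intro y
    have h1 := Subgroup.mem_center_iff.mp hcen (ρ y)
    rw [← map_mul, ← map_mul] at h1
    replace h1 := QuotientGroup.eq.mp h1
    -- `y π(a) y⁻¹` lies in the image of `S`
    have h2 : y * π a * y⁻¹ ∈ (T : Subgroup (G ⧸ oddCore G)) := by
      have hπa : π a ∈ (T : Subgroup (G ⧸ oddCore G)) := Subgroup.mem_map_of_mem _ haS
      obtain ⟨b, hb1, hb2⟩ : ∃ b ∈ B, y * π a = π a * y * b :=
        ⟨_, inv_mem h1, by simp [mul_assoc]⟩
      rw [hb2, mul_assoc (π a * y), ← Subgroup.mem_center_iff.mp (hBc hb1) y⁻¹]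
      rw [show π a * y * (y⁻¹ * b) = π a * b by group]
      exact Subgroup.mul_mem _ hπa (hBT hb1)
    exact mul_inv_eq_iff_eq_mul.mp (hfixY y h2)

end CfsgLib.Invol
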