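import Mathlib
import Cfsg.Agent.Lib.Invol.Counting

/-!
# The Brauer–Fowler count
-/

set_option autoImplicit false

namespace CfsgLib.Invol

open Finset

variable {G : Type*} [Group G] [Finite G]

theorem card_involutions_pos (heven : Even (Nat.card G)) : 0 < Nat.card {t : G // orderOf t = 2} := by
  obtain ⟨t, ht⟩ := exists_prime_orderOf_dvd_card' (G := G) 2 (even_iff_two_dvd.mp heven)
  haveI : Nonempty {t : G // orderOf t = 2} := ⟨⟨t, ht⟩⟩
  exact Nat.card_pos

theorem centralizer_ne_top_of_odd_center (hZ : Odd (Nat.card (Subgroup.center G))) {t : G}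
    (ht : orderOf t = 2) : Subgroup.centralizer ({t} : Set G) ≠ ⊤ := by
  intro h
  have hc : t ∈ Subgroup.center G := Subgroup.mem_center_iff.mpr fun g =>
    Subgroup.mem_centralizer_singleton_iff.mp (h ▸ Subgroup.mem_top g)
  have h1 := orderOf_dvd_natCard (⟨t, hc⟩ : Subgroup.center G)
  rw [← Subgroup.orderOf_coe, ht] at h1
  exact Nat.not_even_iff_odd.mpr hZ (even_iff_two_dvd.mpr h1)

/-- The index bound of Brauer and Fowler. -/
theorem brauer_fowler_index (heven : Even (Nat.card G)) (hZ : Odd (Nat.card (Subgroup.center G))) :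
    ∃ H : Subgroup G, H ≠ ⊤ ∧ (H.index = 2 ∨
      2 * H.index * (Nat.card {t : G // orderOf t = 2}) ^ 2 <
        Nat.card G * (Nat.card G + Nat.card {t : G // orderOf t = 2})) := by
  classical
  haveI := Fintype.ofFinite G
  by_contra hcon
  push Not at hcon
  set N := Nat.card G
  set n := Nat.card {t : G // orderOf t = 2} with hn
  set I : Finset G := univ.filter fun t => orderOf t = 2 with hI
  have hnI : I.card = n := by
    rw [hn, Nat.card_eq_fintype_card, Fintype.card_subtype]
  set f : G → ℕ := fun g => (I.filter fun x => x * g ∈ I).card with hf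
  have hsum : ∑ g, f g = n * n := by
    rw [← hnI, ← card_product]
    have e : (I ×ˢ I).card = ∑ g, ((I ×ˢ I).filter fun p => p.1⁻¹ * p.2 = g).card :=
      card_eq_sum_card_fiberwise (fun _ _ => mem_univ _)
    rw [e]
    refine sum_congr rfl fun g _ => ?_
    refine card_bij (fun x _ => (x, x * g)) ?_ ?_ ?_
    · intro x hx
      simp only [mem_filter, mem_product] at hx ⊢
      exact ⟨⟨hx.1, hx.2⟩, inv_mul_cancel_left _ _⟩
    · intro a _ b _ h; exact congrArg Prod.fst h
    · rintro ⟨a, b⟩ h
      simp only [mem_filter, mem_product] at h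
      have : a * g = b := by rw [← h.2, mul_inv_cancel_left]
      exact ⟨a, mem_filter.mpr ⟨h.1.1, this ▸ h.1.2⟩, by rw [this]⟩
  -- membership
  have memf : ∀ {g x : G}, x ∈ I.filter (fun x => x * g ∈ I) →
      orderOf x = 2 ∧ x * g ≠ 1 ∧ x * g * x⁻¹ = g⁻¹ := by
    intro g x hx
    simp only [hI, mem_filter, mem_univ, true_and] at hx
    refine ⟨hx.1, ne_one_of_orderOf_two hx.2, ?_⟩
    rw [inv_eq_of_orderOf_two hx.1]
    refine eq_inv_of_mul_eq_one_left ?_
    have := mul_self_of_orderOf_two hx.2
    rwa [← mul_assoc] at this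
  -- the involution classes
  have hinv : ∀ g ∈ I, f g * (N + n) + 2 * (N + n) ≤ 2 * (n * n) := by
    intro g hg
    have hg2 : orderOf g = 2 := by simpa [hI] using hg
    set C := Subgroup.centralizer ({g} : Set G) with hC
    have hb := (hcon C (centralizer_ne_top_of_odd_center hZ hg2)).2
    have hle : f g + 2 ≤ Nat.card C := by
      have h1 : (I.filter fun x => x * g ∈ I) ∪ {1, g} ⊆ univ.filter (fun x => x ∈ C) := by
        intro x hx
        refine mem_filter.mpr ⟨mem_univ _, ?_⟩
        rw [hC, Subgroup.mem_centralizer_singleton_iff]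
        rcases mem_union.mp hx with hx | hx
        · obtain ⟨-, -, h⟩ := memf hx
          rw [inv_eq_of_orderOf_two hg2] at h
          exact mul_inv_eq_iff_eq_mul.mp h
        · simp only [mem_insert, mem_singleton] at hx
          rcases hx with rfl | rfl <;> simp
      have h2 : Disjoint (I.filter fun x => x * g ∈ I) {1, g} := by
        rw [disjoint_left]
        intro x hx hx'
        obtain ⟨hx2, hxg, -⟩ := memf hx
        simp only [mem_insert, mem_singleton] at hx'
        rcases hx' with rfl | rfl
        · simp at hx2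
        · exact hxg (mul_self_of_orderOf_two hx2)
      have h3 := card_le_card h1
      rw [card_union_of_disjoint h2, card_pair (ne_one_of_orderOf_two hg2).symm, ← Fintype.card_subtype,
        ← Nat.card_eq_fintype_card] at h3
      exact h3
    have hcard : Nat.card C * C.index = N := C.card_mul_index
    have hpos : 0 < C.index := Nat.pos_of_ne_zero Subgroup.index_ne_zero_of_finite
    have key : Nat.card C * (N + n) * C.index ≤ 2 * (n * n) * C.index := by
      calc Nat.card C * (N + n) * C.index = N * (N + n) := by rw [← hcard]; ring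
        _ ≤ 2 * C.index * n ^ 2 := hb
        _ = 2 * (n * n) * C.index := by ring
    have := Nat.le_of_mul_le_mul_right key hpos
    nlinarith
  -- the other classes
  have hother : ∀ g, g ∉ I → g ≠ 1 → f g * (N + n) ≤ n * n := by
    intro g hg hg1
    rcases Nat.eq_zero_or_pos (f g) with h0 | h0
    · simp [h0]
    obtain ⟨x₀, hx₀⟩ := card_pos.mp h0
    obtain ⟨-, -, hx0⟩ := memf hx₀
    have hgne : g⁻¹ ≠ g := by
      intro h
      apply hg
      simp only [hI, mem_filter, mem_univ, true_and]
      refine orderOf_eq_prime ?_ hg1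
      rw [pow_two]
      nth_rw 1 [← h]
      exact inv_mul_cancel g
    set C := Subgroup.centralizer ({g} : Set G) with hC
    let D : Subgroup G :=
    { carrier := {a | a * g * a⁻¹ = g ∨ a * g * a⁻¹ = g⁻¹}
      one_mem' := Or.inl (by simp)
      mul_mem' := by
        intro a b ha hb
        show a * b * g * (a * b)⁻¹ = g ∨ a * b * g * (a * b)⁻¹ = g⁻¹
        have e : a * b * g * (a * b)⁻¹ = a * (b * g * b⁻¹) * a⁻¹ := by group
        rw [e]
        have e2 : a * g⁻¹ * a⁻¹ = (a * g * a⁻¹)⁻¹ := by group
        rcases hb with hb | hb <;> rcases ha with ha | ha <;> rw [hb] <;> simp [e2, ha]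
      inv_mem' := by
        intro a ha
        show a⁻¹ * g * (a⁻¹)⁻¹ = g ∨ a⁻¹ * g * (a⁻¹)⁻¹ = g⁻¹
        rcases ha with ha | ha
        · left; nth_rw 1 [← ha]; group
        · right
          have : g = (a * g * a⁻¹)⁻¹ := by rw [ha, inv_inv]
          nth_rw 1 [this]; group }
    have hCD : C ≤ D := fun a ha => Or.inl
      (mul_inv_eq_iff_eq_mul.mpr (Subgroup.mem_centralizer_singleton_iff.mp ha))
    have hx0D : x₀ ∈ D := Or.inr hx0
    have hx0C : x₀ ∉ C := by
      intro h
      apply hgne
      rw [← hx0, mul_inv_eq_iff_eq_mul]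
      exact Subgroup.mem_centralizer_singleton_iff.mp h
    have hsplit : ∀ a ∈ D, a ∉ C → x₀ * a ∈ C := by
      intro a ha haC
      rcases ha with ha | ha
      · exact absurd (Subgroup.mem_centralizer_singleton_iff.mpr (mul_inv_eq_iff_eq_mul.mp ha)) haC
      · rw [hC, Subgroup.mem_centralizer_singleton_iff, ← mul_inv_eq_iff_eq_mul,
          show x₀ * a * g * (x₀ * a)⁻¹ = x₀ * (a * g * a⁻¹) * x₀⁻¹ by group, ha,
          show x₀ * g⁻¹ * x₀⁻¹ = (x₀ * g * x₀⁻¹)⁻¹ by group, hx0, inv_inv]
    have hrel : C.relIndex D = 2 := by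
      rw [Subgroup.relIndex, Subgroup.index_eq_two_iff]
      refine ⟨⟨x₀, hx0D⟩, fun b => ?_⟩
      have hb := b.2
      simp only [Subgroup.mem_subgroupOf, Subgroup.coe_mul]
      by_cases hbC : (b : G) ∈ C
      · refine Or.inr ⟨hbC, fun h => hx0C ?_⟩
        exact (Subgroup.mul_mem_cancel_left C hbC).mp h
      · refine Or.inl ⟨?_, hbC⟩
        have h1 := hsplit _ (D.inv_mem hb) (fun h => hbC (inv_inv (b : G) ▸ C.inv_mem h))
        have h2 := C.inv_mem h1
        rw [mul_inv_rev, inv_inv] at h2
        have hx02 : x₀⁻¹ = x₀ := inv_eq_of_orderOf_two (memf hx₀).1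
        rwa [hx02] at h2
    have hle : f g ≤ Nat.card C := by
      rw [Nat.card_eq_fintype_card, Fintype.card_subtype]
      refine card_le_card_of_injOn (fun x => x₀ * x) ?_ (fun a _ b _ h => mul_left_cancel h)
      intro x hx
      obtain ⟨hx2, -, hxg⟩ := memf (mem_coe.mp hx)
      have hxC : x ∉ C := fun h => hgne (by
        rw [← hxg, mul_inv_eq_iff_eq_mul]; exact Subgroup.mem_centralizer_singleton_iff.mp h)
      exact mem_coe.mpr (mem_filter.mpr ⟨mem_univ _, hsplit x (Or.inr hxg) hxC⟩)
    have hDtop : D ≠ ⊤ := by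
      intro h
      rw [h, Subgroup.relIndex_top_right] at hrel
      exact (hcon C (fun h' => hx0C (h' ▸ Subgroup.mem_top _))).1 hrel
    have hb := (hcon D hDtop).2
    have hcard : Nat.card C * (2 * D.index) = N := by
      rw [← hrel, Subgroup.relIndex_mul_index hCD]; exact C.card_mul_index
    have hpos : 0 < D.index := Nat.pos_of_ne_zero Subgroup.index_ne_zero_of_finite
    have key : Nat.card C * (N + n) * (2 * D.index) ≤ n * n * (2 * D.index) := by
      calc Nat.card C * (N + n) * (2 * D.index) = N * (N + n) := by rw [← hcard]; ring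
        _ ≤ 2 * D.index * n ^ 2 := hb
        _ = n * n * (2 * D.index) := by ring
    have := Nat.le_of_mul_le_mul_right key (by positivity)
    nlinarith
  -- add up
  have h1I : (1 : G) ∉ I := by simp [hI]
  have hf1 : f 1 = n := by
    rw [← hnI]; simp only [hf, mul_one]
    rw [filter_true_of_mem fun x hx => hx]
  have hn0 : 0 < n := card_involutions_pos heven
  set J := (univ.erase (1 : G)) \ I with hJ
  have hIsub : I ⊆ univ.erase (1 : G) := fun x hx =>
    mem_erase.mpr ⟨fun h => h1I (h ▸ hx), mem_univ _⟩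
  have hJcard : J.card + n + 1 = N := by
    have := card_sdiff_add_card_eq_card hIsub
    rw [card_erase_of_mem (mem_univ _), card_univ, ← Nat.card_eq_fintype_card, hnI] at this
    have : 0 < N := Nat.card_pos
    have e : J.card = ((univ.erase (1 : G)) \ I).card := rfl
    omega
  have htot : n * n = n + (∑ g ∈ J, f g + ∑ g ∈ I, f g) := by
    rw [← hsum, sum_sdiff hIsub, ← hf1, add_sum_erase _ _ (mem_univ (1 : G))]
  have b1 : (∑ g ∈ I, f g) * (N + n) + n * (2 * (N + n)) ≤ n * (2 * (n * n)) := by
    have := sum_le_sum hinv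
    rw [sum_add_distrib, ← sum_mul, sum_const, sum_const, hnI] at this
    simpa [smul_eq_mul] using this
  have b2 : (∑ g ∈ J, f g) * (N + n) ≤ J.card * (n * n) := by
    rw [sum_mul]
    refine (sum_le_card_nsmul J _ _ fun g hg => ?_)
    simp only [hJ, mem_sdiff, mem_erase] at hg
    exact hother g hg.2 hg.1.1
  have hN : 0 < N := Nat.card_pos
  have b3 : (∑ g ∈ J, f g + ∑ g ∈ I, f g) * (N + n) + n * (2 * (N + n)) ≤ (J.card + 2 * n) * (n * n) := by
    nlinarith
  have b4 : (J.card + 2 * n) * (n * n) + n * n = (N + n) * (n * n) := by rw [← hJcard]; ring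
  nlinarith

end CfsgLib.Invol
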