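import Cfsg.Agent.Lib.Invol.FixedPointAutMain

/-!
# A 2-subgroup `Q` with `Q ∩ N = 1` and `C_N(Q) = C_N(t)` for a central commutator `t`
-/

set_option autoImplicit false

namespace CfsgLib.Invol.FixedAut

open Cfsg
open scoped commutatorElement

variable {G : Type*} [Group G] [Finite G]

/-- `[Q, Q]` centralises `N` modulo faithfulness: no assumption on the kernel. -/
theorem commutator_centralizes {N S Q : Subgroup G} (h : Setup N S Q) (hsup : Q ⊔ N = ⊤)
    (hO : ∀ K : Subgroup G, K ≤ N → (∀ k ∈ K, ∀ g ∈ N, g * k * g⁻¹ ∈ K) → Odd (Nat.card K) → K = ⊥) :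
    ∀ a ∈ Q, ∀ b ∈ Q, ∀ n ∈ N, n * ⁅a, b⁆ = ⁅a, b⁆ * n := by
  haveI := h.normal
  set C := Subgroup.centralizer (N : Set G)
  haveI hKn : (Q ⊓ C).Normal := by
    rw [← Subgroup.normalizer_eq_top_iff, eq_top_iff, ← hsup, sup_le_iff]
    constructor
    · intro q hq
      refine mem_normalizer_of_conj_mem fun k hk =>
        Subgroup.mem_inf.2 ⟨mul_mem (mul_mem hq hk.1) (inv_mem hq), ?_⟩
      rw [Subgroup.mem_centralizer_iff]
      intro n hn
      have h1 := Subgroup.mem_centralizer_iff.1 hk.2 (q⁻¹ * n * q) (by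
        simpa using h.normal.conj_mem n hn q⁻¹)
      calc n * (q * k * q⁻¹) = q * (q⁻¹ * n * q * k) * q⁻¹ := by group
        _ = q * (k * (q⁻¹ * n * q)) * q⁻¹ := by rw [h1]
        _ = q * k * q⁻¹ * n := by group
    · intro n hn
      refine mem_normalizer_of_conj_mem fun k hk => ?_
      rwa [Subgroup.mem_centralizer_iff.1 hk.2 n hn, mul_inv_cancel_right]
  set π := QuotientGroup.mk' (Q ⊓ C)
  have hker : ∀ x, π x = 1 ↔ x ∈ Q ⊓ C := fun x => QuotientGroup.eq_one_iff x
  -- `π` is injective on `N`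
  have hinj : ∀ x ∈ N, π x = 1 → x = 1 := fun x hx h1 => by
    have h2 : x ∈ N ⊓ Q := ⟨hx, ((hker x).1 h1).1⟩
    rwa [h.disj, Subgroup.mem_bot] at h2
  have hcardN : ∀ H : Subgroup G, H ≤ N → Nat.card (H.map π) = Nat.card H := fun H hH => by
    symm
    refine Nat.card_eq_of_bijective (fun x => ⟨π x.1, Subgroup.mem_map_of_mem _ x.2⟩) ⟨?_, ?_⟩
    · intro a b hab
      have h1 : π ((a : G) * (b : G)⁻¹) = 1 := by
        rw [map_mul, map_inv, show π a = π b from congrArg Subtype.val hab, mul_inv_cancel]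
      exact Subtype.ext (mul_inv_eq_one.1 (hinj _ (mul_mem (hH a.2) (inv_mem (hH b.2))) h1))
    · rintro ⟨_, ⟨x, hx, rfl⟩⟩
      exact ⟨⟨x, hx⟩, rfl⟩
  have hset : Setup (N.map π) (S.map π) (Q.map π) := by
    refine ⟨h.normal.map π (QuotientGroup.mk'_surjective _), Subgroup.map_mono h.hSG, h.two_S.map π,
      h.two_T.map π, ?_, ?_, ?_⟩
    · rw [eq_bot_iff]
      rintro _ ⟨⟨x, hx, rfl⟩, ⟨q, hq, hqx⟩⟩
      have h1 : x⁻¹ * q ∈ Q ⊓ C := (hker _).1 (by rw [map_mul, map_inv, hqx, inv_mul_cancel])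
      have h2 : x ∈ N ⊓ Q := ⟨hx, by
        have := mul_mem hq (inv_mem h1.1)
        rwa [mul_inv_rev, inv_inv, ← mul_assoc, mul_inv_cancel, one_mul] at this⟩
      rw [h.disj, Subgroup.mem_bot] at h2
      rw [Subgroup.mem_bot, h2, map_one]
    · rintro _ ⟨q, hq, rfl⟩ _ ⟨s, hs, rfl⟩
      rw [← map_mul, ← map_mul, h.comm q hq s hs]
    · have e1 := Subgroup.relIndex_mul_relIndex ⊥ S N bot_le h.hSG
      have e2 := Subgroup.relIndex_mul_relIndex ⊥ (S.map π) (N.map π) bot_le (Subgroup.map_mono h.hSG)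
      simp only [Subgroup.relIndex_bot_left] at e1 e2
      rw [hcardN S h.hSG, hcardN N le_rfl, ← e1] at e2
      rw [Nat.eq_of_mul_eq_mul_left Nat.card_pos e2]
      exact h.odd_index
  have hO' : ∀ K : Subgroup (G ⧸ (Q ⊓ C)), K ≤ N.map π → (∀ k ∈ K, ∀ g ∈ N.map π, g * k * g⁻¹ ∈ K) →
      Odd (Nat.card K) → K = ⊥ := by
    intro K hK hKn' hKodd
    have h1 : (K.comap π ⊓ N).map π = K := by
      refine le_antisymm ?_ fun k hk => ?_
      · rintro _ ⟨x, hx, rfl⟩
        exact hx.1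
      · obtain ⟨x, hx, rfl⟩ := hK hk
        exact Subgroup.mem_map_of_mem _ ⟨hk, hx⟩
    have h2 := hO (K.comap π ⊓ N) inf_le_right (fun k hk g hg => ⟨by
        show π (g * k * g⁻¹) ∈ K
        rw [map_mul, map_mul, map_inv]
        exact hKn' _ hk.1 _ (Subgroup.mem_map_of_mem _ hg), h.normal.conj_mem _ hk.2 g⟩)
      (by rwa [← hcardN _ inf_le_right, h1])
    rw [← h1, h2, Subgroup.map_bot]
  have hf : ∀ τ ∈ Q.map π, (∀ g ∈ N.map π, g * τ = τ * g) → τ = 1 := by
    rintro _ ⟨q, hq, rfl⟩ hc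
    refine (hker q).2 (Subgroup.mem_inf.2 ⟨hq, ?_⟩)
    rw [Subgroup.mem_centralizer_iff]
    intro n hn
    have h1 := hc _ (Subgroup.mem_map_of_mem _ hn)
    rw [← commutatorElement_eq_one_iff_mul_comm, ← map_commutatorElement] at h1
    have h2 : ⁅n, q⁆ ∈ N := by
      rw [commutatorElement_def, mul_assoc, mul_assoc, ← mul_assoc q]
      exact mul_mem hn (h.normal.conj_mem _ (inv_mem hn) q)
    exact commutatorElement_eq_one_iff_mul_comm.1 (hinj _ h2 h1)
  intro a ha b hb n hn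
  have h1 := abelian hset hO' hf _ (Subgroup.mem_map_of_mem _ ha) _ (Subgroup.mem_map_of_mem _ hb)
  rw [← commutatorElement_eq_one_iff_mul_comm, ← map_commutatorElement] at h1
  exact Subgroup.mem_centralizer_iff.1 ((hker _).1 h1).2 n hn

/-- The heart of the theorem: `[N, Q]` has odd order. -/
theorem odd_commutator_of_centralizers (N Q : Subgroup G) [N.Normal] (hG : Q ⊔ N = ⊤) (hQ : IsPGroup 2 Q)
    (hdisj : Q ⊓ N = ⊥) (t : G) (htZ : t ∈ Q ⊓ Subgroup.centralizer (Q : Set G)) (htQ : t ∈ ⁅Q, Q⁆)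
    (hC : N ⊓ Subgroup.centralizer (Q : Set G) = N ⊓ Subgroup.centralizer ({t} : Set G)) :
    Odd (Nat.card (⁅N, Q⁆ : Subgroup G)) := by
  classical
  haveI : Fact (Nat.Prime 2) := ⟨Nat.prime_two⟩
  obtain ⟨P, hQP⟩ := hQ.exists_le_sylow
  set S := (P : Subgroup G) ⊓ N
  have hQS : ∀ q ∈ Q, ∀ s ∈ S, q * s * q⁻¹ ∈ S := fun q hq s hs =>
    Subgroup.mem_inf.2 ⟨mul_mem (mul_mem (hQP hq) hs.1) (inv_mem (hQP hq)),
      Subgroup.Normal.conj_mem inferInstance s hs.2 q⟩
  -- `Q` centralises `S`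
  have hSC : S ≤ Subgroup.centralizer (Q : Set G) := by
    by_contra hne
    set C1 := S ⊓ Subgroup.centralizer (Q : Set G)
    have hlt : C1 < S := lt_of_le_of_ne inf_le_left fun he => hne (by
      rw [← he]; exact inf_le_right)
    set M := S ⊓ Subgroup.normalizer (C1 : Set G)
    have hM : C1 < M := by
      haveI : Group.IsNilpotent S := (P.2.to_le inf_le_left).isNilpotent
      have hlt' : C1.subgroupOf S < ⊤ := by
        rw [lt_top_iff_ne_top, Ne, Subgroup.subgroupOf_eq_top]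
        exact not_le_of_gt hlt
      obtain ⟨x, hxn, hxC⟩ := SetLike.exists_of_lt (Group.normalizerCondition_of_isNilpotent _ hlt')
      refine lt_of_le_of_ne (le_inf inf_le_left Subgroup.le_normalizer) fun he => hxC ?_
      show (x : G) ∈ C1
      rw [he]
      refine ⟨x.2, mem_normalizer_of_conj_mem fun y hy => ?_⟩
      exact (Subgroup.mem_normalizer_iff.1 hxn ⟨y, hy.1⟩).1 hy
    -- the ambient 2-group
    set Y := (P : Subgroup G) ⊓ Subgroup.normalizer (C1 : Set G)
    have hQY : Q ≤ Y := by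
      refine le_inf hQP fun q hq => mem_normalizer_of_conj_mem fun c hc => ?_
      rw [Subgroup.mem_centralizer_iff.1 hc.2 q hq, mul_inv_cancel_right]
      exact hc
    have hC1Y : C1 ≤ Y := le_inf (inf_le_left.trans inf_le_left) Subgroup.le_normalizer
    haveI : (C1.subgroupOf Y).Normal := by
      refine ⟨fun c hc y => ?_⟩
      exact (Subgroup.mem_normalizer_iff.1 y.2.2 c.1).1 hc
    set π := QuotientGroup.mk' (C1.subgroupOf Y)
    haveI hMn : (M.subgroupOf Y).Normal := ⟨fun m hm y => by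
      refine Subgroup.mem_inf.2 ⟨Subgroup.mem_inf.2 ⟨(P : Subgroup G).mul_mem ((P : Subgroup G).mul_mem y.2.1 hm.1.1)
        ((P : Subgroup G).inv_mem y.2.1), Subgroup.Normal.conj_mem inferInstance _ hm.1.2 _⟩, ?_⟩
      exact (Subgroup.normalizer _).mul_mem ((Subgroup.normalizer _).mul_mem y.2.2 hm.2)
        ((Subgroup.normalizer _).inv_mem y.2.2)⟩
    have hMne : (M.subgroupOf Y).map π ≠ ⊥ := by
      intro he
      obtain ⟨m, hm, hmC⟩ := SetLike.exists_of_lt hM
      apply hmC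
      have h1 : π ⟨m, hm.1.1, hm.2⟩ = 1 := by
        rw [← Subgroup.mem_bot, ← he]
        exact Subgroup.mem_map_of_mem _ (show (⟨m, hm.1.1, hm.2⟩ : Y) ∈ M.subgroupOf Y from hm)
      exact (QuotientGroup.eq_one_iff (N := C1.subgroupOf Y) (⟨m, hm.1.1, hm.2⟩ : Y)).1 h1
    haveI := hMn.map π (QuotientGroup.mk'_surjective _)
    obtain ⟨z, hz, hz1⟩ := (Subgroup.bot_or_exists_ne_one
      ((M.subgroupOf Y).map π ⊓ Subgroup.center _)).resolve_left
        (CfsgLib.PGroup.inf_center_ne_bot (p := 2) ((P.2.to_le inf_le_left).to_quotient _) _ hMne)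
    obtain ⟨⟨⟨y, hyY⟩, hyM, rfl⟩, hyc⟩ := hz
    have hyC : y ∉ C1 := fun h1 => hz1 ((QuotientGroup.eq_one_iff _).2 h1)
    have hc : ∀ q ∈ Q, q * y * q⁻¹ * y⁻¹ ∈ C1 := by
      intro q hq
      have h1 := Subgroup.mem_center_iff.1 hyc (π ⟨q, hQY hq⟩)
      rw [← commutatorElement_eq_one_iff_mul_comm, ← map_commutatorElement] at h1
      exact (QuotientGroup.eq_one_iff (N := C1.subgroupOf Y) ⁅(⟨q, hQY hq⟩ : Y), (⟨y, hyY⟩ : Y)⁆).1 h1
    have hcc : ∀ q ∈ Q, ∀ c ∈ C1, (q * y * q⁻¹ * y⁻¹) * c = c * (q * y * q⁻¹ * y⁻¹) := by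
      intro q hq c hcC
      set d := y⁻¹ * c * y
      have hd : d ∈ C1 := by
        have := (Subgroup.mem_normalizer_iff.1 (inv_mem hyY.2) c).1 hcC
        rwa [inv_inv] at this
      have h1 : q * c * q⁻¹ = c := by rw [Subgroup.mem_centralizer_iff.1 hcC.2 q hq, mul_inv_cancel_right]
      have h2 : q * d * q⁻¹ = d := by rw [Subgroup.mem_centralizer_iff.1 hd.2 q hq, mul_inv_cancel_right]
      calc q * y * q⁻¹ * y⁻¹ * c = q * y * q⁻¹ * (y⁻¹ * c * y) * y⁻¹ := by group
        _ = q * y * q⁻¹ * d * y⁻¹ := rfl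
        _ = q * y * q⁻¹ * (q * d * q⁻¹) * y⁻¹ := by rw [h2]
        _ = q * c * y * q⁻¹ * y⁻¹ := by simp only [d]; group
        _ = (q * c * q⁻¹) * (q * y * q⁻¹ * y⁻¹) := by group
        _ = c * (q * y * q⁻¹ * y⁻¹) := by rw [h1]
    let f : Q →* G := MonoidHom.mk' (fun q => (q : G) * y * (q : G)⁻¹ * y⁻¹) fun a b => by
      have h1 := hc _ b.2
      have h2 : (a : G) * ((b : G) * y * (b : G)⁻¹ * y⁻¹) * (a : G)⁻¹ = (b : G) * y * (b : G)⁻¹ * y⁻¹ := by
        rw [Subgroup.mem_centralizer_iff.1 h1.2 _ a.2, mul_inv_cancel_right]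
      show ((a : G) * b) * y * ((a : G) * b)⁻¹ * y⁻¹ = _
      rw [hcc a a.2 _ h1, show ((a : G) * b) * y * ((a : G) * b)⁻¹ * y⁻¹ =
        ((a : G) * ((b : G) * y * (b : G)⁻¹ * y⁻¹) * (a : G)⁻¹) * ((a : G) * y * (a : G)⁻¹ * y⁻¹) by group, h2]
    have hker : ⁅Q, Q⁆ ≤ f.ker.map Q.subtype := by
      rw [Subgroup.commutator_le]
      intro a ha b hb
      refine ⟨⁅(⟨a, ha⟩ : Q), (⟨b, hb⟩ : Q)⁆, ?_, rfl⟩
      rw [SetLike.mem_coe, MonoidHom.mem_ker, map_commutatorElement,
        commutatorElement_eq_one_iff_mul_comm]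
      exact hcc a ha _ (hc b hb)
    obtain ⟨⟨t', ht'⟩, hft, rfl⟩ := hker htQ
    apply hyC
    have hyt : y * t' = t' * y := by
      have h1 : t' * y * t'⁻¹ * y⁻¹ = 1 := hft
      rw [mul_inv_eq_one, mul_inv_eq_iff_eq_mul] at h1
      exact h1.symm
    have h3 : y ∈ N ⊓ Subgroup.centralizer ({t'} : Set G) :=
      ⟨hyM.1.2, Subgroup.mem_centralizer_singleton_iff.2 hyt⟩
    rw [show ({t'} : Set G) = {((Q.subtype) ⟨t', ht'⟩)} from rfl, ← hC] at h3
    exact ⟨hyM.1, h3.2⟩
  -- pass to `G / O(N)`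
  set O := (oddCore N).map N.subtype
  haveI hOc : (oddCore N).Characteristic := CfsgLib.Cores.pPrimeCore_characteristic (G := N) 2
  haveI hOn : O.Normal := inferInstance
  have hON : O ≤ N := Subgroup.map_subtype_le _
  have hOodd : Odd (Nat.card O) := by
    rw [Subgroup.card_map_of_injective (Subgroup.subtype_injective N)]
    exact CfsgLib.Cores.odd_card_oddCore
  set π := QuotientGroup.mk' O
  have hker : ∀ x, π x = 1 ↔ x ∈ O := fun x => QuotientGroup.eq_one_iff x
  have hset : Setup (N.map π) (S.map π) (Q.map π) := by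
    refine ⟨(inferInstance : N.Normal).map π (QuotientGroup.mk'_surjective _),
      Subgroup.map_mono inf_le_right, (P.2.to_le inf_le_left).map π, hQ.map π, ?_, ?_, ?_⟩
    · rw [eq_bot_iff]
      rintro _ ⟨⟨x, hx, rfl⟩, ⟨q, hq, hqx⟩⟩
      have h1 : x⁻¹ * q ∈ O := (hker _).1 (by rw [map_mul, map_inv, hqx, inv_mul_cancel])
      have h2 : q ∈ Q ⊓ N := ⟨hq, by
        have := mul_mem hx (hON h1)
        rwa [mul_inv_cancel_left] at this⟩
      rw [hdisj, Subgroup.mem_bot] at h2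
      rw [Subgroup.mem_bot, ← hqx, h2, map_one]
    · rintro _ ⟨q, hq, rfl⟩ _ ⟨s, hs, rfl⟩
      rw [← map_mul, ← map_mul, Subgroup.mem_centralizer_iff.1 (hSC hs) q hq]
    · have h1 : Odd (S.relIndex N) := by
        rw [Subgroup.inf_relIndex_right, ← Nat.not_even_iff_odd, even_iff_two_dvd]
        intro hd
        have hPN : (P : Subgroup G).relIndex N ∣ (P : Subgroup G).index := by
          have e1 := CfsgLib.Solvable.card_sup_mul_card_inf N (P : Subgroup G)
          have e2 : Nat.card ((P : Subgroup G) ⊓ N : Subgroup G) * (P : Subgroup G).relIndex N = Nat.card N := by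
            rw [← Subgroup.inf_relIndex_right, ← Subgroup.relIndex_bot_left ((P : Subgroup G) ⊓ N),
              ← Subgroup.relIndex_bot_left N]
            exact Subgroup.relIndex_mul_relIndex ⊥ _ _ bot_le inf_le_right
          have e3 : Nat.card P * (P : Subgroup G).relIndex (N ⊔ P) = Nat.card (N ⊔ P : Subgroup G) := by
            rw [← Subgroup.relIndex_bot_left (P : Subgroup G), ← Subgroup.relIndex_bot_left (N ⊔ P)]
            exact Subgroup.relIndex_mul_relIndex ⊥ _ _ bot_le le_sup_right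
          have e4 : (P : Subgroup G).relIndex N = (P : Subgroup G).relIndex (N ⊔ P) := by
            refine Nat.eq_of_mul_eq_mul_left (Nat.card_pos (α := (P : Subgroup G))) ?_
            refine Nat.eq_of_mul_eq_mul_left (Nat.card_pos (α := ((P : Subgroup G) ⊓ N : Subgroup G))) ?_
            rw [mul_left_comm, e2, e3, mul_comm _ (Nat.card (N ⊔ (P : Subgroup G) : Subgroup G)),
              inf_comm (P : Subgroup G) N, e1, mul_comm]
          rw [e4]
          exact Dvd.intro _ (Subgroup.relIndex_mul_index le_sup_right)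
        exact P.not_dvd_index (hd.trans hPN)
      rw [Subgroup.relIndex_map_map, sup_eq_left.2 ((QuotientGroup.ker_mk' O).le.trans hON)]
      exact h1.of_dvd_nat (Subgroup.relIndex_dvd_of_le_left _ le_sup_left)
  have hO' : ∀ K : Subgroup (G ⧸ O), K ≤ N.map π → (∀ k ∈ K, ∀ g ∈ N.map π, g * k * g⁻¹ ∈ K) →
      Odd (Nat.card K) → K = ⊥ := by
    intro K hK hKn hKodd
    have hle : K.comap π ≤ N := by
      have := Subgroup.comap_mono (f := π) hK
      rwa [Subgroup.comap_map_eq, QuotientGroup.ker_mk', sup_eq_left.2 hON] at this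
    haveI : ((K.comap π).subgroupOf N).Normal := ⟨fun k hk g => by
      show π ((g : G) * k * (g : G)⁻¹) ∈ K
      rw [map_mul, map_mul, map_inv]
      exact hKn _ hk _ (Subgroup.mem_map_of_mem _ g.2)⟩
    have hcard : Odd (Nat.card ((K.comap π).subgroupOf N)) := by
      rw [Nat.card_congr (Subgroup.subgroupOfEquivOfLe hle).toEquiv,
        show Nat.card (K.comap π : Subgroup G) = Nat.card O * Nat.card K from
          QuotientGroup.card_preimage_mk O (K : Set (G ⧸ O))]
      exact hOodd.mul hKodd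
    have h2 := CfsgLib.Cores.le_oddCore_of_odd hcard
    rw [eq_bot_iff]
    intro k hk
    obtain ⟨x, rfl⟩ := QuotientGroup.mk'_surjective O k
    exact (hker x).2 ⟨⟨x, hle hk⟩, h2 hk, rfl⟩
  have hsup : Q.map π ⊔ N.map π = ⊤ := by
    rw [← Subgroup.map_sup, hG, ← MonoidHom.range_eq_map]
    exact MonoidHom.range_eq_top.2 (QuotientGroup.mk'_surjective _)
  have hcomm := commutator_centralizes hset hsup hO'
  have htN : ∀ n ∈ N, π n * π t = π t * π n := by
    intro n hn
    have hle : ⁅Q, Q⁆ ≤ (Subgroup.centralizer ({π n} : Set (G ⧸ O))).comap π := by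
      rw [Subgroup.commutator_le]
      intro a ha b hb
      rw [Subgroup.mem_comap, Subgroup.mem_centralizer_singleton_iff, map_commutatorElement]
      exact (hcomm _ (Subgroup.mem_map_of_mem _ ha) _ (Subgroup.mem_map_of_mem _ hb) _
        (Subgroup.mem_map_of_mem _ hn)).symm
    exact (Subgroup.mem_centralizer_singleton_iff.1 (hle htQ)).symm
  have hle : ⁅N, Q⁆ ≤ O := by
    rw [Subgroup.commutator_le]
    intro n hn q hq
    -- `t` fixes a point of the coset `n O`
    have hcoset : ∀ o ∈ O, n⁻¹ * (t * (n * o) * t⁻¹) ∈ O := by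
      intro o ho
      rw [← hker, map_mul, map_mul, map_mul, map_mul, (hker o).2 ho, mul_one, map_inv, map_inv,
        ← htN n hn, mul_inv_cancel_right, inv_mul_cancel]
    let A := Subgroup.zpowers (⟨t, htZ.1⟩ : Q)
    letI : MulAction A {x : G // n⁻¹ * x ∈ O} :=
      { smul := fun a x => ⟨((a : Q) : G) * x.1 * ((a : Q) : G)⁻¹, by
          obtain ⟨⟨_, i, rfl⟩, x, hx⟩ := a, x
          show n⁻¹ * ((((⟨t, htZ.1⟩ : Q) ^ i : Q) : G) * x * (((⟨t, htZ.1⟩ : Q) ^ i : Q) : G)⁻¹) ∈ O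
          rw [← hker, map_mul, map_mul, map_mul, map_inv, map_inv]
          have hx' : π n = π x := by
            have := (hker _).2 hx
            rwa [map_mul, map_inv, inv_mul_eq_one] at this
          have hc : Commute (π n) (π t) := htN n hn
          rw [SubgroupClass.coe_zpow, map_zpow, ← hx', ← (hc.zpow_right i).eq, mul_inv_cancel_right,
            inv_mul_cancel]⟩
        one_smul := fun x => Subtype.ext (by show _ * x.1 * _ = x.1; simp)
        mul_smul := fun a b x => Subtype.ext (by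
          show (((a * b : A) : Q) : G) * x.1 * ((((a * b : A) : Q) : G))⁻¹ = _ * (_ * x.1 * _) * _
          simp [mul_assoc]) }
    have hA : IsPGroup 2 A := (hQ.to_subgroup _)
    obtain ⟨⟨x, hx⟩, hfix⟩ := hA.nonempty_fixed_point_of_prime_not_dvd_card {x : G // n⁻¹ * x ∈ O} (by
      rw [show Nat.card {x : G // n⁻¹ * x ∈ O} = Nat.card O from
        Nat.card_congr ((Equiv.mulLeft n⁻¹).subtypeEquiv (q := fun z => z ∈ O) fun x => Iff.rfl)]
      intro hd
      exact Nat.not_even_iff_odd.2 hOodd (even_iff_two_dvd.2 hd))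
    have hxt : t * x * t⁻¹ = x :=
      congrArg Subtype.val (hfix ⟨⟨t, htZ.1⟩, Subgroup.mem_zpowers _⟩)
    have hxN : x ∈ N := by
      have := mul_mem hn (hON hx)
      rwa [mul_inv_cancel_left] at this
    have hxQ : x ∈ N ⊓ Subgroup.centralizer (Q : Set G) := by
      rw [hC]
      exact ⟨hxN, Subgroup.mem_centralizer_singleton_iff.2 (mul_inv_eq_iff_eq_mul.1 hxt).symm⟩
    have hq' := Subgroup.mem_centralizer_iff.1 hxQ.2 q hq
    rw [← hker, map_commutatorElement]
    have hx' : π n = π x := by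
      have := (hker _).2 hx
      rwa [map_mul, map_inv, inv_mul_eq_one] at this
    rw [hx', ← map_commutatorElement, commutatorElement_eq_one_iff_mul_comm.2 hq'.symm, map_one]
  exact hOodd.of_dvd_nat (Subgroup.card_dvd_of_le hle)

/-- With the odd order theorem the commutator `[N, Q]` is solvable of odd order. -/
theorem solvable_commutator_of_centralizers.{u}
    (hFT : ∀ (H : Type u) [Group H] [Finite H], Odd (Nat.card H) → Group.IsSolvable H)
    {G : Type u} [Group G] [Finite G] (N Q : Subgroup G) [N.Normal] (hG : Q ⊔ N = ⊤) (hQ : IsPGroup 2 Q)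
    (hdisj : Q ⊓ N = ⊥) (t : G) (htZ : t ∈ Q ⊓ Subgroup.centralizer (Q : Set G)) (htQ : t ∈ ⁅Q, Q⁆)
    (hC : N ⊓ Subgroup.centralizer (Q : Set G) = N ⊓ Subgroup.centralizer ({t} : Set G)) :
    Group.IsSolvable (⁅N, Q⁆ : Subgroup G) ∧ Odd (Nat.card (⁅N, Q⁆ : Subgroup G)) :=
  have h := odd_commutator_of_centralizers N Q hG hQ hdisj t htZ htQ hC
  ⟨hFT _ h, h⟩

end CfsgLib.Invol.FixedAut
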