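import Mathlib

/-!
# The dihedral group of order `8 q` as a model of a Sylow 2-subgroup
-/

set_option autoImplicit false

namespace CfsgLib.Invol.DihSylow

open DihedralGroup

variable {m q : ℕ}

/-- Parity on `ZMod m`. -/
def par (hm : m = 4 * q) : ZMod m →+* ZMod 2 :=
  ZMod.castHom (hm ▸ Dvd.dvd.mul_right (by decide : 2 ∣ 4) q) (ZMod 2)

theorem exists_two_mul (hm : m = 4 * q) (hq : 0 < q) {d : ZMod m} (h : par hm d = 0) :
    ∃ k : ZMod m, d = 2 * k := by
  haveI : NeZero m := ⟨by omega⟩
  have h1 : ((d.val : ℕ) : ZMod 2) = 0 := by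
    have := congrArg (par hm) (ZMod.natCast_zmod_val d)
    rw [map_natCast] at this
    rw [this, h]
  obtain ⟨c, hc⟩ := (ZMod.natCast_eq_zero_iff _ _).1 h1
  exact ⟨(c : ZMod m), by rw [← ZMod.natCast_zmod_val d, hc]; push_cast; ring⟩

theorem two_mul_eq_zero_iff (hm : m = 4 * q) (hq : 0 < q) {i : ZMod m} :
    2 * i = 0 ↔ i = 0 ∨ i = (2 * q : ℕ) := by
  haveI : NeZero m := ⟨by omega⟩
  constructor
  · intro h
    rw [← ZMod.natCast_zmod_val i] at h ⊢
    have h1 : ((2 * i.val : ℕ) : ZMod m) = 0 := by push_cast; exact h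
    obtain ⟨c, hc⟩ := (ZMod.natCast_eq_zero_iff _ _).1 h1
    have hlt := ZMod.val_lt i
    have hc2 : c = 0 ∨ c = 1 := by
      have : c < 2 := by nlinarith
      omega
    rcases hc2 with rfl | rfl
    · left; rw [show i.val = 0 by omega]; simp
    · right; rw [show i.val = 2 * q by omega]
  · rintro (rfl | rfl)
    · simp
    · rw [← Nat.cast_two, ← Nat.cast_mul, show 2 * (2 * q) = m by omega, ZMod.natCast_self]

theorem half_ne_zero (hm : m = 4 * q) (hq : 0 < q) : ((2 * q : ℕ) : ZMod m) ≠ 0 := fun h => by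
  have := Nat.le_of_dvd (by omega) ((ZMod.natCast_eq_zero_iff _ _).1 h); omega

theorem neg_half (hm : m = 4 * q) : -((2 * q : ℕ) : ZMod m) = (2 * q : ℕ) := by
  rw [neg_eq_iff_add_eq_zero, ← Nat.cast_add, show 2 * q + 2 * q = m by omega, ZMod.natCast_self]

theorem par_half (hm : m = 4 * q) : par hm ((2 * q : ℕ) : ZMod m) = 0 := by
  rw [map_natCast, ZMod.natCast_eq_zero_iff]; exact dvd_mul_right 2 q

theorem par_zero_or_one (hm : m = 4 * q) (i : ZMod m) : par hm i = par hm 0 ∨ par hm i = par hm 1 := by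
  have : ∀ a : ZMod 2, a = 0 ∨ a = 1 := by decide
  simpa using this (par hm i)

/-- `r ↦ 1` and `sr j ↦ 1`, a homomorphism to the group of order two with kernel missing `sr j`. -/
def chi (hm : m = 4 * q) (j : ZMod m) : DihedralGroup m →* Multiplicative (ZMod 2) where
  toFun
    | r i => Multiplicative.ofAdd (par hm i)
    | sr i => Multiplicative.ofAdd (par hm i + par hm j + 1)
  map_one' := by rw [one_def]; simp
  map_mul' x y := by
    rcases x with a | a <;> rcases y with b | b <;>
      simp only [r_mul_r, r_mul_sr, sr_mul_r, sr_mul_sr, ← ofAdd_add, map_add, map_sub] <;>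
      congr 1 <;>
      (generalize par hm a = u; generalize par hm b = v; generalize par hm j = w; revert u v w; decide)

theorem chi_r (hm : m = 4 * q) (j i : ZMod m) :
    chi hm j (r i) = Multiplicative.ofAdd (par hm i) := rfl

theorem chi_sr (hm : m = 4 * q) (j i : ZMod m) :
    chi hm j (sr i) = Multiplicative.ofAdd (par hm i + par hm j + 1) := rfl

theorem chi_sr_eq_one (hm : m = 4 * q) (j i : ZMod m) :
    chi hm j (sr i) = 1 ↔ par hm i ≠ par hm j := by
  rw [chi_sr, ofAdd_eq_one]
  revert i; intro i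
  generalize par hm i = a
  generalize par hm j = b
  revert a b; decide

theorem chi_surjective (hm : m = 4 * q) (j : ZMod m) : Function.Surjective (chi hm j) := by
  intro a
  have : ∀ a : Multiplicative (ZMod 2), a = 1 ∨ a = Multiplicative.ofAdd 1 := by decide
  rcases this a with rfl | rfl
  · exact ⟨1, map_one _⟩
  · exact ⟨r 1, by rw [chi_r, map_one]⟩

theorem mem_centralizer_sr (hm : m = 4 * q) (hq : 0 < q) (j : ZMod m) (x : DihedralGroup m) :
    x ∈ Subgroup.centralizer ({sr j} : Set (DihedralGroup m)) ↔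
      x = 1 ∨ x = r ((2 * q : ℕ) : ZMod m) ∨ x = sr j ∨ x = sr (j + ((2 * q : ℕ) : ZMod m)) := by
  rw [Subgroup.mem_centralizer_singleton_iff]
  rcases x with i | i
  · simp only [r_mul_sr, sr_mul_r, sr.injEq, one_def, r.injEq, reduceCtorEq, or_false]
    rw [← two_mul_eq_zero_iff hm hq]
    constructor
    · intro h; linear_combination -h
    · intro h; linear_combination -h
  · simp only [sr_mul_sr, r.injEq, one_def, reduceCtorEq, false_or, sr.injEq]
    constructor
    · intro h
      have h2 : 2 * (i - j) = 0 := by linear_combination -h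
      rcases (two_mul_eq_zero_iff hm hq).1 h2 with h3 | h3
      · exact Or.inl (sub_eq_zero.1 h3)
      · right; linear_combination h3
    · rintro (rfl | rfl)
      · rfl
      · linear_combination neg_half hm

theorem conj_r_sr (k i : ZMod m) : r k * sr i * (r k)⁻¹ = sr (i - 2 * k) := by
  rw [inv_r, r_mul_sr, sr_mul_r]; congr 1; ring

theorem isConj_sr (hm : m = 4 * q) (hq : 0 < q) {i j : ZMod m} (h : par hm i = par hm j) :
    ∃ k : ZMod m, r k * sr i * (r k)⁻¹ = sr j := by
  obtain ⟨k, hk⟩ := exists_two_mul hm hq (d := i - j) (by rw [map_sub, h, sub_self])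
  exact ⟨k, by rw [conj_r_sr, ← hk]; congr 1; ring⟩

theorem conj_sr (y : DihedralGroup m) (i : ZMod m) : ∃ l, y * sr i * y⁻¹ = sr l := by
  rcases y with k | k
  · exact ⟨_, conj_r_sr k i⟩
  · exact ⟨_, by rw [inv_sr, sr_mul_sr, r_mul_sr]⟩

theorem involution_cases (hm : m = 4 * q) (hq : 0 < q) {x : DihedralGroup m} (h : x * x = 1) (hx : x ≠ 1) :
    x = r ((2 * q : ℕ) : ZMod m) ∨ ∃ i, x = sr i := by
  rcases x with i | i
  · left
    rw [r_mul_r, one_def, r.injEq, ← two_mul] at h
    rcases (two_mul_eq_zero_iff hm hq).1 h with rfl | rfl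
    · exact absurd rfl hx
    · rfl
  · exact Or.inr ⟨i, rfl⟩

theorem half_central (hm : m = 4 * q) (x : DihedralGroup m) :
    r ((2 * q : ℕ) : ZMod m) * x = x * r ((2 * q : ℕ) : ZMod m) := by
  rcases x with i | i
  · rw [r_mul_r, r_mul_r, add_comm]
  · rw [r_mul_sr, sr_mul_r, sub_eq_add_neg, neg_half hm]

theorem card_centralizer_sr (hm : m = 4 * q) (hq : 0 < q) (j : ZMod m) :
    Nat.card (Subgroup.centralizer ({sr j} : Set (DihedralGroup m))) = 4 := by
  classical
  have h : ((Subgroup.centralizer ({sr j} : Set (DihedralGroup m))) : Set (DihedralGroup m)) =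
      ↑({1, r ((2 * q : ℕ) : ZMod m), sr j, sr (j + ((2 * q : ℕ) : ZMod m))} : Finset (DihedralGroup m)) := by
    ext x; simp [mem_centralizer_sr hm hq]
  have h0 := half_ne_zero hm hq
  rw [← SetLike.coe_sort_coe, Nat.card_coe_set_eq, h, Set.ncard_coe_finset,
    Finset.card_insert_of_notMem, Finset.card_insert_of_notMem, Finset.card_pair]
  · intro hh
    rw [sr.injEq, eq_comm, add_eq_left] at hh
    exact h0 hh
  · simp
  · simp only [Finset.mem_insert, Finset.mem_singleton, one_def, r.injEq, reduceCtorEq, or_false]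
    exact fun hh => h0 hh.symm

theorem eq_top_of_sr {H : Subgroup (DihedralGroup m)} (h0 : sr 0 ∈ H) (h1 : sr 1 ∈ H) : H = ⊤ := by
  have hr : r (1 : ZMod m) ∈ H := by
    have := H.mul_mem h0 h1
    rwa [sr_mul_sr, sub_zero] at this
  have hall : ∀ i : ZMod m, r i ∈ H := fun i => by
    obtain ⟨c, rfl⟩ := ZMod.intCast_surjective i
    rw [← r_one_zpow]; exact H.zpow_mem hr c
  rw [Subgroup.eq_top_iff']
  rintro (i | i)
  · exact hall i
  · have := H.mul_mem h0 (hall i)
    rwa [sr_mul_r, zero_add] at this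

end CfsgLib.Invol.DihSylow
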