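import Mathlib
import Cfsg.Prelude.Def_Transfer
import Cfsg.Prelude.Def_TwoFusion
import Cfsg.Agent.S0514
import Cfsg.Agent.S0111
import Cfsg.Agent.Lib.Transfer.Basic
import Cfsg.Agent.Lib.Transfer.Fusion
import Cfsg.Agent.Lib.Transfer.Frobenius
import Cfsg.Agent.Lib.Invol.QDW.LocalIndex
import Cfsg.Agent.Lib.Invol.DihedralModel
import Cfsg.Agent.Lib.Invol.Dihedral

/-!
# Fusion in a finite group with a dihedral Sylow 2-subgroup of order at least 8
-/

set_option autoImplicit false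

namespace CfsgLib.Invol.DihSylow

open DihedralGroup

variable {G : Type*} [Group G] [Finite G] {m q : ℕ}

/-- A model of the dihedral Sylow subgroup. -/
structure Data (S : Sylow 2 G) (ι : DihedralGroup m →* G) (q : ℕ) : Prop where
  inj : Function.Injective ι
  range : ι.range = (S : Subgroup G)
  hm : m = 4 * q
  hq : 0 < q

theorem exists_data (S : Sylow 2 G) (e : (S : Subgroup G) ≃* DihedralGroup m) (hm : 3 ≤ m) :
    ∃ (ι : DihedralGroup m →* G) (q : ℕ), Data S ι q := by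
  haveI : Fact (Nat.Prime 2) := ⟨Nat.prime_two⟩
  haveI : NeZero m := ⟨by omega⟩
  obtain ⟨k, hk⟩ := S.2.exists_card_eq
  rw [Nat.card_congr e.toEquiv, DihedralGroup.nat_card] at hk
  have h4 : 4 ∣ m := by
    rcases k with _ | _ | _ | k
    · omega
    · omega
    · omega
    · exact ⟨2 ^ k, by rw [pow_succ, pow_succ, pow_succ] at hk; omega⟩
  obtain ⟨q, rfl⟩ := h4
  refine ⟨(S : Subgroup G).subtype.comp e.symm.toMonoidHom, q,
    Subtype.val_injective.comp e.symm.injective, ?_, rfl, by omega⟩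
  ext x
  exact ⟨fun ⟨y, hy⟩ => hy ▸ (e.symm y).2, fun hx => ⟨e ⟨x, hx⟩, congrArg Subtype.val (e.symm_apply_apply ⟨x, hx⟩)⟩⟩

/-- The central involution. -/
def zz (ι : DihedralGroup m →* G) (q : ℕ) : G := ι (r ((2 * q : ℕ) : ZMod m))

/-- The non-central involution `sr j`. -/
def ss (ι : DihedralGroup m →* G) (j : ZMod m) : G := ι (sr j)

/-- The four-group through `sr j`. -/
def uu (ι : DihedralGroup m →* G) (j : ZMod m) : Subgroup G :=
  (Subgroup.centralizer ({sr j} : Set (DihedralGroup m))).map ι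

variable {S : Sylow 2 G} {ι : DihedralGroup m →* G}

theorem mem_S (hd : Data S ι q) (x : DihedralGroup m) : ι x ∈ (S : Subgroup G) := hd.range ▸ ⟨x, rfl⟩

theorem orderOf_zz (hd : Data S ι q) : orderOf (zz ι q) = 2 := by
  rw [zz, orderOf_injective ι hd.inj, orderOf_eq_prime_iff]
  refine ⟨?_, fun h => ?_⟩
  · rw [pow_two, r_mul_r, one_def, r.injEq, ← two_mul, two_mul_eq_zero_iff hd.hm hd.hq]
    exact Or.inr rfl
  · rw [one_def, r.injEq] at h; exact half_ne_zero hd.hm hd.hq h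

theorem orderOf_ss (hd : Data S ι q) (j : ZMod m) : orderOf (ss ι j) = 2 := by
  rw [ss, orderOf_injective ι hd.inj, orderOf_sr]

theorem mem_uu (hd : Data S ι q) {j : ZMod m} {g : G} :
    g ∈ uu ι j ↔ g = 1 ∨ g = zz ι q ∨ g = ss ι j ∨ g = ss ι (j + ((2 * q : ℕ) : ZMod m)) := by
  constructor
  · rintro ⟨x, hx, rfl⟩
    rcases (mem_centralizer_sr hd.hm hd.hq j x).1 hx with rfl | rfl | rfl | rfl
    · exact Or.inl (map_one ι)
    · exact Or.inr (Or.inl rfl)
    · exact Or.inr (Or.inr (Or.inl rfl))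
    · exact Or.inr (Or.inr (Or.inr rfl))
  · rintro (rfl | rfl | rfl | rfl)
    · exact one_mem _
    · exact ⟨_, (mem_centralizer_sr hd.hm hd.hq j _).2 (Or.inr (Or.inl rfl)), rfl⟩
    · exact ⟨_, (mem_centralizer_sr hd.hm hd.hq j _).2 (Or.inr (Or.inr (Or.inl rfl))), rfl⟩
    · exact ⟨_, (mem_centralizer_sr hd.hm hd.hq j _).2 (Or.inr (Or.inr (Or.inr rfl))), rfl⟩

theorem zz_mem_uu (hd : Data S ι q) (j : ZMod m) : zz ι q ∈ uu ι j := (mem_uu hd).2 (Or.inr (Or.inl rfl))

theorem ss_mem_uu (hd : Data S ι q) (j : ZMod m) : ss ι j ∈ uu ι j :=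
  (mem_uu hd).2 (Or.inr (Or.inr (Or.inl rfl)))

theorem zz_ne_ss (hd : Data S ι q) (j : ZMod m) : zz ι q ≠ ss ι j := fun h => by
  have := hd.inj h; simp at this

theorem card_uu (hd : Data S ι q) (j : ZMod m) : Nat.card (uu ι j) = 4 := by
  rw [uu, Subgroup.card_map_of_injective hd.inj, card_centralizer_sr hd.hm hd.hq]

theorem uu_le (hd : Data S ι q) (j : ZMod m) : uu ι j ≤ (S : Subgroup G) := by
  rintro _ ⟨x, -, rfl⟩; exact mem_S hd x

theorem sylow_le_centralizer (hd : Data S ι q) :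
    (S : Subgroup G) ≤ Subgroup.centralizer ({zz ι q} : Set G) := by
  intro v hv
  obtain ⟨x, rfl⟩ : v ∈ ι.range := hd.range ▸ hv
  rw [Subgroup.mem_centralizer_singleton_iff, zz, ← map_mul, ← map_mul, half_central hd.hm]

theorem uu_isConj_model (hd : Data S ι q) {i j : ZMod m} (h : par hd.hm i = par hd.hm j) :
    ∃ x : G, x ∈ (S : Subgroup G) ∧ x * zz ι q = zz ι q * x ∧
      x * ss ι i * x⁻¹ = ss ι j ∧ ∀ v ∈ uu ι i, x * v * x⁻¹ ∈ uu ι j := by
  obtain ⟨k, hk⟩ := isConj_sr hd.hm hd.hq h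
  refine ⟨ι (r k), mem_S hd _, ?_, ?_, ?_⟩
  · rw [zz, ← map_mul, ← map_mul, half_central hd.hm]
  · rw [ss, ss, ← map_inv, ← map_mul, ← map_mul, hk]
  · rintro _ ⟨y, hy, rfl⟩
    refine ⟨r k * y * (r k)⁻¹, ?_, by rw [map_mul, map_mul, map_inv]⟩
    rw [SetLike.mem_coe, Subgroup.mem_centralizer_singleton_iff] at hy ⊢
    rw [← hk]
    calc r k * y * (r k)⁻¹ * (r k * sr i * (r k)⁻¹) = r k * (y * sr i) * (r k)⁻¹ := by group
      _ = r k * (sr i * y) * (r k)⁻¹ := by rw [hy]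
      _ = r k * sr i * (r k)⁻¹ * (r k * y * (r k)⁻¹) := by group

/-- The centralizer of the central involution does not fuse elements of the Sylow subgroup. -/
theorem conj_eq_of_centralizer (hd : Data S ι q) {g v : G}
    (hg : g ∈ Subgroup.centralizer ({zz ι q} : Set G)) (hv : v ∈ (S : Subgroup G))
    (hgv : g * v * g⁻¹ ∈ (S : Subgroup G)) : ∃ x ∈ (S : Subgroup G), g * v * g⁻¹ = x * v * x⁻¹ := by
  haveI : Fact (Nat.Prime 2) := ⟨Nat.prime_two⟩
  have hle := sylow_le_centralizer hd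
  have e : (S : Subgroup G) ≃* DihedralGroup m :=
    ((MulEquiv.subgroupCongr hd.range.symm).trans (MonoidHom.ofInjective hd.inj).symm)
  obtain ⟨N, hN, hNo, k, hk⟩ := Cfsg.Agent.S0514.result S m (by rw [hd.hm]; have := hd.hq; omega) ⟨e⟩
    (zz ι q) (orderOf_zz hd)
  haveI := hN
  have htop := CfsgLib.Transfer.sup_sylow_eq_top (S.subtype hle) hk
  obtain ⟨a, ha, b, hb, hab⟩ := Subgroup.mem_sup_of_normal_left.1
    (show (⟨g, hg⟩ : Subgroup.centralizer ({zz ι q} : Set G)) ∈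
      N ⊔ (S.subtype hle : Subgroup (Subgroup.centralizer ({zz ι q} : Set G))) by rw [htop]; trivial)
  rw [Sylow.coe_subtype, Subgroup.mem_subgroupOf] at hb
  refine ⟨b, hb, ?_⟩
  have hge : g = (a : G) * b := (congrArg Subtype.val hab).symm
  set w : G := (b : G) * v * (b : G)⁻¹ with hw
  have hwS : w ∈ (S : Subgroup G) := mul_mem (mul_mem hb hv) (inv_mem hb)
  have hconj : g * v * g⁻¹ = (a : G) * w * (a : G)⁻¹ := by rw [hge, hw]; group
  set c : G := (g * v * g⁻¹) * w⁻¹ with hc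
  have hcN : (⟨c, mul_mem (hle hgv) (inv_mem (hle hwS))⟩ : Subgroup.centralizer ({zz ι q} : Set G)) ∈ N := by
    have := mul_mem ha (hN.conj_mem _ (inv_mem ha) ⟨w, hle hwS⟩)
    convert this using 1
    refine Subtype.ext ?_
    show c = (a : G) * (w * (a : G)⁻¹ * w⁻¹)
    rw [hc, hconj]; group
  have hcS : c ∈ (S : Subgroup G) := mul_mem hgv (inv_mem hwS)
  have h1 : Odd (orderOf c) := by
    refine hNo.of_dvd_nat ?_
    have := Subgroup.orderOf_dvd_natCard N hcN
    rwa [Subgroup.orderOf_mk] at this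
  obtain ⟨l, hl⟩ := IsPGroup.iff_orderOf.1 S.2 ⟨c, hcS⟩
  rw [Subgroup.orderOf_mk] at hl
  have : c = 1 := by
    rw [← orderOf_eq_one_iff]
    rcases l with _ | l
    · simpa using hl
    · exfalso; rw [hl] at h1
      exact (Nat.not_even_iff_odd.2 h1) (by rw [pow_succ]; exact even_two.mul_left _)
  exact mul_inv_eq_one.1 this

/-- The two classes of four-groups of the Sylow subgroup are not conjugate. -/
theorem par_eq_of_conj (hd : Data S ι q) {i j : ZMod m} {g : G}
    (h : ∀ v ∈ uu ι i, g * v * g⁻¹ ∈ uu ι j) : par hd.hm i = par hd.hm j := by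
  -- we may suppose that `g` fixes the central involution
  suffices hz : ∃ g' : G, (∀ v ∈ uu ι i, g' * v * g'⁻¹ ∈ uu ι j) ∧ g' * zz ι q * g'⁻¹ = zz ι q by
    obtain ⟨g', hg', hgz⟩ := hz
    have hgC : g' ∈ Subgroup.centralizer ({zz ι q} : Set G) :=
      Subgroup.mem_centralizer_singleton_iff.2 (mul_inv_eq_iff_eq_mul.1 hgz)
    obtain ⟨x, hx, he⟩ := conj_eq_of_centralizer hd hgC (mem_S hd (sr i))
      (uu_le hd j (hg' _ (ss_mem_uu hd i)))
    obtain ⟨y, rfl⟩ : x ∈ ι.range := hd.range ▸ hx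
    have hmem := hg' _ (ss_mem_uu hd i)
    rw [ss, he, ← map_inv, ← map_mul, ← map_mul] at hmem
    have h1 := (Subgroup.mem_map_iff_mem hd.inj).1 hmem
    have hchi : chi hd.hm j (y * sr i * y⁻¹) = chi hd.hm j (sr i) := by
      rw [map_mul, map_mul, map_inv, mul_comm (chi hd.hm j y), mul_inv_cancel_right]
    obtain ⟨l, hl⟩ := conj_sr y i
    rw [hl] at h1 hchi
    have hlj : par hd.hm l = par hd.hm j := by
      rcases (mem_centralizer_sr hd.hm hd.hq j _).1 h1 with h2 | h2 | h2 | h2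
      · exact absurd h2 (by rw [one_def]; exact fun h3 => nomatch h3)
      · exact absurd h2 (fun h3 => nomatch h3)
      · rw [sr.inj h2]
      · rw [sr.inj h2, map_add, par_half, add_zero]
    rw [chi_sr, chi_sr, Multiplicative.ofAdd.apply_eq_iff_eq, add_left_inj, add_left_inj] at hchi
    rw [← hchi, hlj]
  by_cases hgz : g * zz ι q * g⁻¹ = zz ι q
  · exact ⟨g, h, hgz⟩
  -- every element of `uu j` is the image of one of `uu i`
  have hback : ∀ u ∈ uu ι j, g⁻¹ * u * g ∈ uu ι i := by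
    have heq : (uu ι i).map (MulAut.conj g).toMonoidHom = uu ι j := by
      refine Subgroup.eq_of_le_of_card_ge ?_ (le_of_eq ?_)
      · rintro _ ⟨v, hv, rfl⟩; exact h v hv
      · rw [card_uu hd, Subgroup.card_map_of_injective (MulAut.conj g).injective, card_uu hd]
    intro u hu
    rw [← heq] at hu
    obtain ⟨v, hv, rfl⟩ := hu
    simpa [mul_assoc] using hv
  set t : G := ι (r (q : ZMod m)) with ht
  have htz : t * zz ι q * t⁻¹ = zz ι q := by
    rw [mul_inv_eq_iff_eq_mul, ht, zz, ← map_mul, ← map_mul, half_central hd.hm]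
  have hts : ∀ l : ZMod m, t * ss ι l * t⁻¹ = ss ι (l + ((2 * q : ℕ) : ZMod m)) := by
    intro l
    rw [ht, ss, ss, ← map_inv, ← map_mul, ← map_mul, conj_r_sr, sub_eq_add_neg,
      ← Nat.cast_two, ← Nat.cast_mul, neg_half hd.hm]
  have htt : ∀ l : ZMod m, l + ((2 * q : ℕ) : ZMod m) + ((2 * q : ℕ) : ZMod m) = l := by
    intro l; linear_combination - (neg_half hd.hm : -((2 * q : ℕ) : ZMod m) = _)
  have htU : ∀ l, ∀ u ∈ uu ι l, t * u * t⁻¹ ∈ uu ι l := by
    intro l u hu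
    rcases (mem_uu hd).1 hu with rfl | rfl | rfl | rfl
    · simp
    · rw [htz]; exact zz_mem_uu hd l
    · rw [hts]; exact (mem_uu hd).2 (Or.inr (Or.inr (Or.inr rfl)))
    · rw [hts, htt]; exact ss_mem_uu hd l
  set w : G := g⁻¹ * zz ι q * g with hw
  have hwU : w ∈ uu ι i := hback _ (zz_mem_uu hd j)
  have hw1 : w ≠ 1 := fun h1 => by
    have h2 : zz ι q = 1 := by simpa using (conj_eq_one_iff (a := g⁻¹) (b := zz ι q)).1 (by simpa using h1)
    have := orderOf_zz hd; rw [h2, orderOf_one] at this; omega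
  have hwz : w ≠ zz ι q := fun h1 => hgz (by
    calc g * zz ι q * g⁻¹ = g * w * g⁻¹ := by rw [h1]
      _ = zz ι q := by rw [hw]; group)
  set n : G := g⁻¹ * t * g with hn
  have hnU : ∀ v ∈ uu ι i, n * v * n⁻¹ ∈ uu ι i := by
    intro v hv
    have := hback _ (htU j _ (h v hv))
    convert this using 1
    rw [hn]; group
  have hnw : n * w * n⁻¹ = w := by
    calc n * w * n⁻¹ = g⁻¹ * (t * zz ι q * t⁻¹) * g := by rw [hn, hw]; group
      _ = w := by rw [htz]
  set v := n * zz ι q * n⁻¹ with hv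
  have hvU : v ∈ uu ι i := hnU _ (zz_mem_uu hd i)
  have hvz : v ≠ zz ι q := by
    intro h1
    have h2 : t * (g * zz ι q * g⁻¹) * t⁻¹ = g * zz ι q * g⁻¹ := by
      calc t * (g * zz ι q * g⁻¹) * t⁻¹ = g * v * g⁻¹ := by rw [hv, hn]; group
        _ = g * zz ι q * g⁻¹ := by rw [h1]
    rcases (mem_uu hd).1 (h _ (zz_mem_uu hd i)) with h3 | h3 | h3 | h3
    · have := orderOf_zz hd; rw [conj_eq_one_iff.1 h3, orderOf_one] at this; omega
    · exact hgz h3
    all_goals
      rw [h3, hts] at h2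
      have h4 := sr.inj (hd.inj h2)
      rw [add_eq_left] at h4
      exact half_ne_zero hd.hm hd.hq h4
  have hvw : v ≠ w := fun h1 => hwz (by
    have := h1.trans hnw.symm
    rw [hv] at this
    exact (mul_left_cancel (mul_right_cancel this)).symm)
  have hv1 : v ≠ 1 := fun h1 => by
    have := orderOf_zz hd; rw [conj_eq_one_iff.1 h1, orderOf_one] at this; omega
  have htv : t * v * t⁻¹ = w := by
    rcases (mem_uu hd).1 hwU with h1 | h1 | h1 | h1
    · exact absurd h1 hw1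
    · exact absurd h1 hwz
    all_goals
      rcases (mem_uu hd).1 hvU with h2 | h2 | h2 | h2
      · exact absurd h2 hv1
      · exact absurd h2 hvz
      · first
          | exact absurd (h2.trans h1.symm) hvw
          | rw [h2, h1, hts]
      · first
          | exact absurd (h2.trans h1.symm) hvw
          | rw [h2, h1, hts, htt]
  refine ⟨g * t * n, fun u hu => ?_, ?_⟩
  · have := h _ (htU i _ (hnU u hu))
    convert this using 1
    group
  · calc g * t * n * zz ι q * (g * t * n)⁻¹ = g * (t * v * t⁻¹) * g⁻¹ := by rw [hv]; group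
      _ = zz ι q := by rw [htv, hw]; group

/-- A non-central involution fused with the central one is fused inside the normalizer of its four-group. -/
theorem exists_normalizer_of_isConj (hd : Data S ι q) {j : ZMod m} (h : IsConj (zz ι q) (ss ι j)) :
    ∃ n ∈ Subgroup.normalizer (uu ι j : Set G), n * zz ι q * n⁻¹ = ss ι j := by
  haveI : Fact (Nat.Prime 2) := ⟨Nat.prime_two⟩
  obtain ⟨g, hg⟩ := isConj_iff.1 h
  have hP : ((g • S : Sylow 2 G) : Subgroup G) ≤ Subgroup.centralizer ({ss ι j} : Set G) := by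
    intro x hx
    rw [Sylow.coe_subgroup_smul, Subgroup.mem_pointwise_smul_iff_inv_smul_mem] at hx
    have hx' : g⁻¹ * x * g ∈ (S : Subgroup G) := by simpa [MulAut.smul_def] using hx
    have := Subgroup.mem_centralizer_singleton_iff.1 (sylow_le_centralizer hd hx')
    rw [Subgroup.mem_centralizer_singleton_iff, ← hg]
    calc x * (g * zz ι q * g⁻¹) = g * (g⁻¹ * x * g * zz ι q) * g⁻¹ := by group
      _ = g * (zz ι q * (g⁻¹ * x * g)) * g⁻¹ := by rw [this]
      _ = g * zz ι q * g⁻¹ * x := by group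
  have hU : uu ι j ≤ Subgroup.centralizer ({ss ι j} : Set G) := by
    rintro _ ⟨y, hy, rfl⟩
    rw [SetLike.mem_coe, Subgroup.mem_centralizer_singleton_iff] at hy
    rw [Subgroup.mem_centralizer_singleton_iff, ss, ← map_mul, ← map_mul, hy]
  obtain ⟨c, hc, hcU⟩ := CfsgLib.Transfer.exists_conj_mem_sylow_of_le (g • S) hP hU
    (S.2.to_le (uu_le hd j))
  set f := g⁻¹ * c with hf
  have hfS : ∀ v ∈ uu ι j, f * v * f⁻¹ ∈ (S : Subgroup G) := by
    intro v hv
    have := hcU v hv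
    rw [Sylow.coe_subgroup_smul, Subgroup.mem_pointwise_smul_iff_inv_smul_mem] at this
    rw [hf]
    convert this using 1
    simp [MulAut.smul_def, mul_assoc]
  have hfs : f * ss ι j * f⁻¹ = zz ι q := by
    rw [hf]
    calc g⁻¹ * c * ss ι j * (g⁻¹ * c)⁻¹ = g⁻¹ * (c * ss ι j) * c⁻¹ * g := by group
      _ = g⁻¹ * ss ι j * g := by rw [Subgroup.mem_centralizer_singleton_iff.1 hc]; group
      _ = zz ι q := by rw [← hg]; group
  obtain ⟨y, hy⟩ : f * zz ι q * f⁻¹ ∈ ι.range := hd.range ▸ hfS _ (zz_mem_uu hd j)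
  have hoy : orderOf y = 2 := by
    rw [← orderOf_injective ι hd.inj, hy, orderOf_conj_eq, orderOf_zz hd]
  obtain ⟨hy1, hy2⟩ := orderOf_eq_prime_iff.1 hoy
  rcases involution_cases hd.hm hd.hq (by rwa [pow_two] at hy1) hy2 with rfl | ⟨i, rfl⟩
  · exact absurd (mul_left_cancel (mul_right_cancel (hy.symm.trans hfs.symm))) (zz_ne_ss hd j)
  have hfU : ∀ v ∈ uu ι j, f * v * f⁻¹ ∈ uu ι i := by
    intro v hv
    obtain ⟨x, hx⟩ : f * v * f⁻¹ ∈ ι.range := hd.range ▸ hfS _ hv
    rw [← hx]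
    refine ⟨x, ?_, rfl⟩
    rw [SetLike.mem_coe, Subgroup.mem_centralizer_singleton_iff]
    refine hd.inj ?_
    rw [map_mul, map_mul, hx, hy]
    have : v * zz ι q = zz ι q * v :=
      Subgroup.mem_centralizer_singleton_iff.1 (sylow_le_centralizer hd (uu_le hd j hv))
    calc f * v * f⁻¹ * (f * zz ι q * f⁻¹) = f * (v * zz ι q) * f⁻¹ := by group
      _ = f * (zz ι q * v) * f⁻¹ := by rw [this]
      _ = f * zz ι q * f⁻¹ * (f * v * f⁻¹) := by group
  obtain ⟨x, -, hxz, -, hxU⟩ := uu_isConj_model hd (par_eq_of_conj hd hfU).symm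
  have hN : x * f ∈ Subgroup.normalizer (uu ι j : Set G) := by
    refine CfsgLib.LocalEven.mem_normalizer_of_conj_le ?_
    rintro _ ⟨v, hv, rfl⟩
    have := hxU _ (hfU v hv)
    convert this using 1
    simp [mul_assoc]
  refine ⟨(x * f)⁻¹, inv_mem hN, ?_⟩
  have h1 : x * f * ss ι j * (x * f)⁻¹ = zz ι q := by
    calc x * f * ss ι j * (x * f)⁻¹ = x * (f * ss ι j * f⁻¹) * x⁻¹ := by group
      _ = zz ι q := by rw [hfs, hxz, mul_inv_cancel_right]
  calc (x * f)⁻¹ * zz ι q * (x * f)⁻¹⁻¹ = (x * f)⁻¹ * (x * f * ss ι j * (x * f)⁻¹) * (x * f) := by rw [h1, inv_inv]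
    _ = ss ι j := by group

/-- Two non-central involutions of different classes of the Sylow subgroup are fused only through the center. -/
theorem par_eq_of_isConj (hd : Data S ι q) {i j : ZMod m} (h : IsConj (ss ι i) (ss ι j))
    (hj : ¬ IsConj (zz ι q) (ss ι j)) : par hd.hm i = par hd.hm j := by
  haveI : Fact (Nat.Prime 2) := ⟨Nat.prime_two⟩
  obtain ⟨g, hg⟩ := isConj_iff.1 h
  set C := Subgroup.centralizer ({ss ι j} : Set G) with hC
  have hUC : ∀ l, uu ι l ≤ Subgroup.centralizer ({ss ι l} : Set G) := by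
    rintro l _ ⟨y, hy, rfl⟩
    rw [SetLike.mem_coe, Subgroup.mem_centralizer_singleton_iff] at hy
    rw [Subgroup.mem_centralizer_singleton_iff, ss, ← map_mul, ← map_mul, hy]
  have hp : IsPGroup 2 ((uu ι j).subgroupOf C) := (S.2.to_le (uu_le hd j)).comap_subtype
  obtain ⟨P0, hP0⟩ := hp.exists_le_sylow
  have hcard : Nat.card (P0 : Subgroup C) ≤ 4 := by
    obtain ⟨f, hf⟩ := CfsgLib.Transfer.exists_conj_mem_sylow S (P0.2.map C.subtype)
    have hsP : ss ι j ∈ (P0 : Subgroup C).map C.subtype :=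
      ⟨⟨ss ι j, hUC j (ss_mem_uu hd j)⟩, hP0 (ss_mem_uu hd j), rfl⟩
    obtain ⟨y, hy⟩ : f * ss ι j * f⁻¹ ∈ ι.range := hd.range ▸ hf _ hsP
    have hoy : orderOf y = 2 := by
      rw [← orderOf_injective ι hd.inj, hy, orderOf_conj_eq, orderOf_ss hd]
    obtain ⟨hy1, hy2⟩ := orderOf_eq_prime_iff.1 hoy
    rcases involution_cases hd.hm hd.hq (by rwa [pow_two] at hy1) hy2 with rfl | ⟨k, rfl⟩
    · exact absurd ((isConj_iff.2 ⟨f, hy.symm⟩).symm) hj
    rw [← card_uu hd k]
    refine Nat.card_le_card_of_injective (fun a => ⟨f * ((a : C) : G) * f⁻¹, ?_⟩) fun a b hab => ?_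
    · obtain ⟨x, hx⟩ : f * ((a : C) : G) * f⁻¹ ∈ ι.range := hd.range ▸ hf _ ⟨(a : C), a.2, rfl⟩
      rw [← hx]
      refine ⟨x, ?_, rfl⟩
      rw [SetLike.mem_coe, Subgroup.mem_centralizer_singleton_iff]
      refine hd.inj ?_
      rw [map_mul, map_mul, hx, hy]
      calc f * ((a : C) : G) * f⁻¹ * (f * ss ι j * f⁻¹) = f * (((a : C) : G) * ss ι j) * f⁻¹ := by group
        _ = f * (ss ι j * ((a : C) : G)) * f⁻¹ := by
          rw [Subgroup.mem_centralizer_singleton_iff.1 (a : C).2]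
        _ = f * ss ι j * f⁻¹ * (f * ((a : C) : G) * f⁻¹) := by group
    · exact Subtype.ext (Subtype.ext (mul_left_cancel (mul_right_cancel (congrArg Subtype.val hab))))
  have hPU : (uu ι j).subgroupOf C = (P0 : Subgroup C) := Subgroup.eq_of_le_of_card_ge hP0 (by
    rw [Nat.card_congr (Subgroup.subgroupOfEquivOfLe (hUC j)).toEquiv, card_uu hd]; exact hcard)
  have hVC : (uu ι i).map (MulAut.conj g).toMonoidHom ≤ C := by
    rintro _ ⟨v, hv, rfl⟩
    rw [hC, Subgroup.mem_centralizer_singleton_iff, ← hg]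
    have := Subgroup.mem_centralizer_singleton_iff.1 (hUC i hv)
    show g * v * g⁻¹ * (g * ss ι i * g⁻¹) = g * ss ι i * g⁻¹ * (g * v * g⁻¹)
    calc g * v * g⁻¹ * (g * ss ι i * g⁻¹) = g * (v * ss ι i) * g⁻¹ := by group
      _ = g * (ss ι i * v) * g⁻¹ := by rw [this]
      _ = _ := by group
  obtain ⟨c, hc⟩ := CfsgLib.Transfer.exists_conj_mem_sylow P0
    (S := ((uu ι i).map (MulAut.conj g).toMonoidHom).subgroupOf C)
    (((S.2.to_le (uu_le hd i)).map _).comap_subtype)
  refine par_eq_of_conj hd (g := (c : G) * g) fun v hv => ?_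
  have h1 := hc ⟨g * v * g⁻¹, hVC ⟨v, hv, rfl⟩⟩ ⟨v, hv, rfl⟩
  rw [← hPU, Subgroup.mem_subgroupOf] at h1
  convert h1 using 1
  simp [mul_assoc]

end CfsgLib.Invol.DihSylow
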