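import Mathlib
import Cfsg.Agent.Lib.Invol.DihedralFusion

/-!
# Involution classes, subgroups of index two and normal 2-complements with dihedral Sylow 2-subgroups
-/

set_option autoImplicit false

namespace CfsgLib.Invol.DihSylow

open DihedralGroup

variable {G : Type*} [Group G] [Finite G] {m q : ℕ} {S : Sylow 2 G} {ι : DihedralGroup m →* G}

theorem isConj_ss_of_par (hd : Data S ι q) {i j : ZMod m} (h : par hd.hm i = par hd.hm j) :
    IsConj (ss ι i) (ss ι j) := by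
  obtain ⟨x, -, -, hx, -⟩ := uu_isConj_model hd h
  exact isConj_iff.2 ⟨x, hx⟩

theorem isConj_cases (hd : Data S ι q) {t : G} (ht : orderOf t = 2) :
    IsConj t (zz ι q) ∨ IsConj t (ss ι 0) ∨ IsConj t (ss ι 1) := by
  haveI : Fact (Nat.Prime 2) := ⟨Nat.prime_two⟩
  obtain ⟨g, hg⟩ := CfsgLib.Transfer.exists_conj_mem_sylow S (S := Subgroup.zpowers t)
    (IsPGroup.of_card (n := 1) (by rw [Nat.card_zpowers, ht, pow_one]))
  obtain ⟨y, hy⟩ : g * t * g⁻¹ ∈ ι.range := hd.range ▸ hg t (Subgroup.mem_zpowers t)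
  have hoy : orderOf y = 2 := by rw [← orderOf_injective ι hd.inj, hy, orderOf_conj_eq, ht]
  obtain ⟨h1, h2⟩ := orderOf_eq_prime_iff.1 hoy
  have hty : IsConj t (ι y) := isConj_iff.2 ⟨g, hy.symm⟩
  rcases involution_cases hd.hm hd.hq (by rwa [pow_two] at h1) h2 with rfl | ⟨i, rfl⟩
  · exact Or.inl hty
  rcases par_zero_or_one hd.hm i with h | h
  · exact Or.inr (Or.inl (hty.trans (isConj_ss_of_par hd h)))
  · exact Or.inr (Or.inr (hty.trans (isConj_ss_of_par hd h)))

theorem par_zero_ne_one (hd : Data S ι q) : par hd.hm (0 : ZMod m) ≠ par hd.hm 1 := by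
  rw [map_zero, map_one]; decide

theorem classes_eq (hd : Data S ι q) :
    {C : ConjClasses G | ∃ g : G, ConjClasses.mk g = C ∧ orderOf g = 2} =
      {ConjClasses.mk (zz ι q), ConjClasses.mk (ss ι 0), ConjClasses.mk (ss ι 1)} := by
  ext C
  simp only [Set.mem_setOf_eq, Set.mem_insert_iff, Set.mem_singleton_iff]
  constructor
  · rintro ⟨t, rfl, ht⟩
    simpa only [ConjClasses.mk_eq_mk_iff_isConj] using isConj_cases hd ht
  · rintro (rfl | rfl | rfl)
    · exact ⟨_, rfl, orderOf_zz hd⟩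
    · exact ⟨_, rfl, orderOf_ss hd 0⟩
    · exact ⟨_, rfl, orderOf_ss hd 1⟩

theorem card_one (hd : Data S ι q) (h0 : IsConj (zz ι q) (ss ι 0)) (h1 : IsConj (zz ι q) (ss ι 1)) :
    Nat.card {C : ConjClasses G // ∃ g : G, ConjClasses.mk g = C ∧ orderOf g = 2} = 1 := by
  show Nat.card {C : ConjClasses G | ∃ g : G, ConjClasses.mk g = C ∧ orderOf g = 2} = 1
  rw [Nat.card_coe_set_eq, classes_eq hd, ← ConjClasses.mk_eq_mk_iff_isConj.2 h0,
    ← ConjClasses.mk_eq_mk_iff_isConj.2 h1]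
  simp

theorem card_two (hd : Data S ι q) {i j : ZMod m} (hij : i = 0 ∧ j = 1 ∨ i = 1 ∧ j = 0)
    (hi : IsConj (zz ι q) (ss ι i)) (hj : ¬ IsConj (zz ι q) (ss ι j)) :
    Nat.card {C : ConjClasses G // ∃ g : G, ConjClasses.mk g = C ∧ orderOf g = 2} = 2 := by
  show Nat.card {C : ConjClasses G | ∃ g : G, ConjClasses.mk g = C ∧ orderOf g = 2} = 2
  rw [Nat.card_coe_set_eq, classes_eq hd]
  have h1 := ConjClasses.mk_eq_mk_iff_isConj.2 hi
  have hne : ConjClasses.mk (zz ι q) ≠ ConjClasses.mk (ss ι j) :=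
    fun h => hj (ConjClasses.mk_eq_mk_iff_isConj.1 h)
  rcases hij with ⟨rfl, rfl⟩ | ⟨rfl, rfl⟩
  · rw [← h1, Set.insert_eq_of_mem (Set.mem_insert _ _), Set.ncard_pair hne]
  · rw [← h1, Set.pair_comm, Set.insert_eq_of_mem (Set.mem_insert _ _), Set.ncard_pair hne]

theorem card_three (hd : Data S ι q) (h0 : ¬ IsConj (zz ι q) (ss ι 0)) (h1 : ¬ IsConj (zz ι q) (ss ι 1)) :
    Nat.card {C : ConjClasses G // ∃ g : G, ConjClasses.mk g = C ∧ orderOf g = 2} = 3 := by
  show Nat.card {C : ConjClasses G | ∃ g : G, ConjClasses.mk g = C ∧ orderOf g = 2} = 3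
  rw [Nat.card_coe_set_eq, classes_eq hd, Set.ncard_eq_three]
  refine ⟨_, _, _, ?_, ?_, ?_, rfl⟩ <;> rw [Ne, ConjClasses.mk_eq_mk_iff_isConj]
  · exact h0
  · exact h1
  · exact fun h => par_zero_ne_one hd (par_eq_of_isConj hd h h1)

/-- A fused non-central involution dies in every abelian quotient. -/
theorem map_ss_eq_one (hd : Data S ι q) {A : Type*} [Group A] (hA : ∀ a b : A, a * b = b * a)
    (f : G →* A) {j : ZMod m} (h : IsConj (zz ι q) (ss ι j)) : f (ss ι j) = 1 := by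
  obtain ⟨g, hg⟩ := isConj_iff.1 h
  have hz : f (zz ι q) = 1 := by
    have e : r ((2 * q : ℕ) : ZMod m) = (sr 0 * sr (q : ZMod m)) * (sr 0 * sr (q : ZMod m)) := by
      rw [sr_mul_sr, r_mul_r]; congr 1; push_cast; ring
    have hinv : ∀ i : ZMod m, f (ι (sr i)) * f (ι (sr i)) = 1 := fun i => by
      rw [← map_mul, ← map_mul, sr_mul_self, map_one, map_one]
    rw [zz, e, map_mul, map_mul, map_mul, map_mul]
    calc f (ι (sr 0)) * f (ι (sr (q : ZMod m))) * (f (ι (sr 0)) * f (ι (sr (q : ZMod m))))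
        = f (ι (sr 0)) * (f (ι (sr (q : ZMod m))) * f (ι (sr 0))) * f (ι (sr (q : ZMod m))) := by group
      _ = f (ι (sr 0)) * (f (ι (sr 0)) * f (ι (sr (q : ZMod m)))) * f (ι (sr (q : ZMod m))) := by
        rw [hA (f (ι (sr (q : ZMod m)))) _]
      _ = (f (ι (sr 0)) * f (ι (sr 0))) * (f (ι (sr (q : ZMod m))) * f (ι (sr (q : ZMod m)))) := by group
      _ = 1 := by rw [hinv, hinv, one_mul]
  rw [← hg, map_mul, map_mul, hA (f g), mul_assoc, ← map_mul, mul_inv_cancel, map_one, mul_one, hz]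

theorem sylow_le_of_mem (hd : Data S ι q) (H : Subgroup G) (h0 : ss ι 0 ∈ H) (h1 : ss ι 1 ∈ H) :
    (S : Subgroup G) ≤ H := by
  rw [← hd.range, MonoidHom.range_eq_map, ← eq_top_of_sr (H := H.comap ι) h0 h1]
  exact Subgroup.map_comap_le ι H

theorem no_index_two (hd : Data S ι q) (h0 : IsConj (zz ι q) (ss ι 0)) (h1 : IsConj (zz ι q) (ss ι 1))
    (N : Subgroup G) : N.index ≠ 2 := by
  intro hN
  haveI : N.Normal := Subgroup.normal_of_index_eq_two hN
  haveI : Fact (Nat.Prime 2) := ⟨Nat.prime_two⟩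
  have hA : ∀ a b : G ⧸ N, a * b = b * a := by
    haveI : IsCyclic (G ⧸ N) := isCyclic_of_prime_card (p := 2) (by rw [← Subgroup.index_eq_card, hN])
    exact fun a b => (IsCyclic.isMulCommutative (α := G ⧸ N)).is_comm.comm a b
  have hmem : ∀ j, IsConj (zz ι q) (ss ι j) → ss ι j ∈ N := fun j hj =>
    (QuotientGroup.eq_one_iff _).1 (map_ss_eq_one hd hA (QuotientGroup.mk' N) hj)
  have hle := sylow_le_of_mem hd N (hmem 0 h0) (hmem 1 h1)
  have hdvd := Subgroup.index_dvd_of_le hle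
  rw [hN] at hdvd
  exact S.not_dvd_index hdvd

theorem no_index_four (hd : Data S ι q) {j : ZMod m} (hj : j = 0 ∨ j = 1) (h : IsConj (zz ι q) (ss ι j))
    (N : Subgroup G) (hNn : N.Normal) : N.index ≠ 4 := by
  intro hN
  haveI : Fact (Nat.Prime 2) := ⟨Nat.prime_two⟩
  have hA : ∀ a b : G ⧸ N, a * b = b * a := fun a b =>
    (IsPGroup.isMulCommutative_of_card_eq_prime_sq (p := 2) (G := G ⧸ N)
      (by rw [← Subgroup.index_eq_card, hN]; rfl)).is_comm.comm a b
  set f := QuotientGroup.mk' N with hf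
  obtain ⟨s, hs, hall⟩ : ∃ s, f s * f s = 1 ∧ (S : Subgroup G) ≤ (Subgroup.zpowers (f s)).comap f := by
    have hfj := map_ss_eq_one hd hA f h
    have hsq : ∀ i, f (ss ι i) * f (ss ι i) = 1 := fun i => by
      rw [← map_mul, ss, ← map_mul, sr_mul_self, map_one, map_one]
    rcases hj with rfl | rfl
    · exact ⟨ss ι 1, hsq 1, sylow_le_of_mem hd _ (by rw [Subgroup.mem_comap, hfj]; exact one_mem _)
        (Subgroup.mem_zpowers _)⟩
    · exact ⟨ss ι 0, hsq 0, sylow_le_of_mem hd _ (Subgroup.mem_zpowers _)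
        (by rw [Subgroup.mem_comap, hfj]; exact one_mem _)⟩
  have htop := CfsgLib.Transfer.sup_sylow_eq_top S (N := N) (k := 2) (by rw [hN]; rfl)
  have h2 : (⊤ : Subgroup (G ⧸ N)) ≤ Subgroup.zpowers (f s) := by
    rw [← Subgroup.map_top_of_surjective f (QuotientGroup.mk'_surjective N), ← htop, Subgroup.map_sup,
      sup_le_iff]
    refine ⟨?_, Subgroup.map_le_iff_le_comap.2 hall⟩
    rw [hf, QuotientGroup.map_mk'_self]; exact bot_le
  have h3 := Subgroup.card_le_of_le h2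
  rw [Subgroup.card_top, ← Subgroup.index_eq_card, hN, Nat.card_zpowers] at h3
  have := orderOf_le_of_pow_eq_one two_pos (show f s ^ 2 = 1 by rw [pow_two]; exact hs)
  omega

theorem exists_index_two (hd : Data S ι q) {j : ZMod m} (h : ¬ IsConj (zz ι q) (ss ι j)) :
    ∃ M : Subgroup G, M.Normal ∧ M.index = 2 ∧ ss ι j ∉ M := by
  set Q : Subgroup G := (chi hd.hm j).ker.map ι with hQ
  have hQS : Q ≤ (S : Subgroup G) := by rintro _ ⟨x, -, rfl⟩; exact mem_S hd x
  have hQi : Q.relIndex (S : Subgroup G) = 2 := by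
    rw [← hd.range, MonoidHom.range_eq_map, hQ, ← Subgroup.relIndex_comap,
      Subgroup.comap_map_eq_self_of_injective hd.inj, Subgroup.relIndex_top_right, Subgroup.index_ker,
      MonoidHom.range_eq_top.2 (chi_surjective hd.hm j), Subgroup.card_top, Nat.card_eq_fintype_card]
    rfl
  have hnot : ss ι j ∉ Q := by
    rintro ⟨x, hx, he⟩
    rw [hd.inj he, SetLike.mem_coe, MonoidHom.mem_ker, chi_sr_eq_one] at hx
    exact hx rfl
  refine (Cfsg.Agent.S0111.result S Q hQS hQi _ (orderOf_ss hd j) (mem_S hd _) hnot).resolve_right ?_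
  rintro ⟨g, y, hy, he⟩
  have hoy : orderOf y = 2 := by rw [← orderOf_injective ι hd.inj, he, orderOf_conj_eq, orderOf_ss hd]
  obtain ⟨h1, h2⟩ := orderOf_eq_prime_iff.1 hoy
  have hc : IsConj (ι y) (ss ι j) := (isConj_iff.2 ⟨g, he.symm⟩).symm
  rcases involution_cases hd.hm hd.hq (by rwa [pow_two] at h1) h2 with rfl | ⟨i, rfl⟩
  · exact h hc
  · rw [SetLike.mem_coe, MonoidHom.mem_ker, chi_sr_eq_one] at hy
    exact hy (par_eq_of_isConj hd hc h)

theorem hasNormalPComplement (hd : Data S ι q) (h0 : ¬ IsConj (zz ι q) (ss ι 0))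
    (h1 : ¬ IsConj (zz ι q) (ss ι 1)) : Cfsg.HasNormalPComplement 2 G := by
  haveI : Fact (Nat.Prime 2) := ⟨Nat.prime_two⟩
  haveI : NeZero m := ⟨by rw [hd.hm]; have := hd.hq; omega⟩
  obtain ⟨M0, hM0, hi0, hn0⟩ := exists_index_two hd h0
  obtain ⟨M1, hM1, hi1, hn1⟩ := exists_index_two hd h1
  haveI := hM0
  haveI := hM1
  set K := M0 ⊓ M1 with hK
  have hKn : K.Normal := inferInstance
  -- odd elements lie in `K`
  have hres : ∀ M : Subgroup G, ∀ [M.Normal], M.index = 2 → Cfsg.pResidual 2 G ≤ M := fun M _ hM =>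
    CfsgLib.Transfer.pResidual_le (IsPGroup.of_card (n := 1) (by rw [← Subgroup.index_eq_card, hM, pow_one]))
  have hrot : ∀ x ∈ (S : Subgroup G) ⊓ K, x ∈ Subgroup.zpowers (ι (r 1)) := by
    rintro x ⟨hxS, hx0, hx1⟩
    obtain ⟨y, rfl⟩ : x ∈ ι.range := hd.range ▸ hxS
    rcases y with i | i
    · refine ⟨(i.val : ℤ), ?_⟩
      show ι (r 1) ^ (i.val : ℤ) = ι (r i)
      rw [zpow_natCast, ← map_pow, r_one_pow, ZMod.natCast_zmod_val]
    · exfalso
      rcases par_zero_or_one hd.hm i with hp | hp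
      · obtain ⟨g, hg⟩ := isConj_iff.1 (isConj_ss_of_par hd hp)
        exact hn0 (hg ▸ hM0.conj_mem _ hx0 g)
      · obtain ⟨g, hg⟩ := isConj_iff.1 (isConj_ss_of_par hd hp)
        exact hn1 (hg ▸ hM1.conj_mem _ hx1 g)
  -- a Sylow subgroup of `K` is cyclic
  obtain ⟨P⟩ : Nonempty (Sylow 2 K) := inferInstance
  obtain ⟨e⟩ := CfsgLib.Invol.QDW.sylow_of_normal S K P
  haveI hcyc : IsCyclic ↥((S : Subgroup G) ⊓ K) := Subgroup.isCyclic_of_le (fun x hx => hrot x hx)
  haveI hPc : IsCyclic (P : Subgroup K) := isCyclic_of_surjective e.symm.toMonoidHom e.symm.surjective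
  have hcomp : Cfsg.HasNormalPComplement 2 K := by
    refine CfsgLib.Transfer.hasNormalPComplement_of_abelian_sylow P hPc.isMulCommutative fun g hg hgo => ?_
    obtain ⟨c, hc⟩ := hPc.exists_generator
    have hcover : ∀ x ∈ (P : Subgroup K), x ∈ Subgroup.zpowers (c : K) := fun x hx => by
      obtain ⟨l, hl⟩ := hc ⟨x, hx⟩
      exact ⟨l, by simpa using congrArg Subtype.val hl⟩
    exact CfsgLib.Invol.QDW.centralizes_of_cyclic P.2 hg (Nat.coprime_two_right.1 hgo) c.2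
      (one_mem _) (fun x hx => Or.inl (hcover x hx))
      (hcover _ ((Subgroup.mem_normalizer_iff.1 hg c).1 c.2))
  obtain ⟨N, hN, hNc, k, hk⟩ := CfsgLib.Transfer.hasNormalPComplement_iff.1 hcomp
  haveI := hN
  rw [CfsgLib.Transfer.hasNormalPComplement_iff_inf_sylow S, eq_bot_iff]
  have hle : Cfsg.pResidual 2 G ≤ N.map K.subtype := by
    refine (Subgroup.closure_le _).2 fun g hg => ?_
    have hgK : g ∈ K := ⟨hres M0 hi0 (Subgroup.subset_closure hg), hres M1 hi1 (Subgroup.subset_closure hg)⟩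
    refine ⟨⟨g, hgK⟩, (CfsgLib.Transfer.mem_iff_coprime_orderOf hNc hk _).2 ?_, rfl⟩
    rwa [Subgroup.orderOf_mk]
  rintro x ⟨hxS, hxR⟩
  obtain ⟨a, ha⟩ := IsPGroup.iff_card.1 S.2
  have hd1 := Subgroup.orderOf_dvd_natCard (S : Subgroup G) hxS
  have hd2 := Subgroup.orderOf_dvd_natCard _ (hle hxR)
  rw [ha] at hd1
  rw [Subgroup.card_map_of_injective K.subtype_injective] at hd2
  exact Subgroup.mem_bot.2 (orderOf_eq_one_iff.1
    (Nat.eq_one_of_dvd_coprimes ((hNc.pow_right a)) hd2 hd1))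

/-- Every four-group of the Sylow subgroup is one of the model four-groups. -/
theorem exists_eq_uu (hd : Data S ι q) {V : Subgroup G} (hV : IsKleinFour V) (hVS : V ≤ (S : Subgroup G)) :
    ∃ i : ZMod m, V = uu ι i := by
  classical
  haveI := hV
  have hsq : ∀ v ∈ V, v * v = 1 := fun v hv => congrArg Subtype.val (IsKleinFour.mul_self (⟨v, hv⟩ : V))
  obtain ⟨i, hi⟩ : ∃ i : ZMod m, ss ι i ∈ V := by
    by_contra hno
    push Not at hno
    have hsub : V ≤ Subgroup.zpowers (zz ι q) := by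
      intro v hv
      obtain ⟨y, rfl⟩ : v ∈ ι.range := hd.range ▸ hVS hv
      by_cases hy : y = 1
      · rw [hy, map_one]; exact one_mem _
      rcases involution_cases hd.hm hd.hq (hd.inj (by rw [map_mul, hsq _ hv, map_one])) hy with rfl | ⟨i, rfl⟩
      · exact Subgroup.mem_zpowers _
      · exact absurd hv (hno i)
    have := Subgroup.card_le_of_le hsub
    rw [IsKleinFour.card_four, Nat.card_zpowers, orderOf_zz hd] at this
    omega
  refine ⟨i, Subgroup.eq_of_le_of_card_ge ?_ (by rw [card_uu hd, IsKleinFour.card_four])⟩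
  intro v hv
  obtain ⟨y, rfl⟩ : v ∈ ι.range := hd.range ▸ hVS hv
  refine ⟨y, ?_, rfl⟩
  rw [SetLike.mem_coe, Subgroup.mem_centralizer_singleton_iff]
  refine hd.inj ?_
  rw [map_mul, map_mul]
  have h2 := hsq _ (mul_mem hv hi)
  have e1 : (ι y)⁻¹ = ι y := inv_eq_of_mul_eq_one_left (hsq _ hv)
  have e2 : (ss ι i)⁻¹ = ss ι i := inv_eq_of_mul_eq_one_left (hsq _ hi)
  calc ι y * ι (sr i) = (ι y * ι (sr i))⁻¹ := (inv_eq_of_mul_eq_one_left h2).symm
    _ = ι (sr i) * ι y := by rw [mul_inv_rev, e1]; exact congrArg (· * ι y) e2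

theorem isKleinFour_uu (hd : Data S ι q) (i : ZMod m) : IsKleinFour (uu ι i) := by
  haveI : Finite (uu ι i) := inferInstance
  have hsq : ∀ v : uu ι i, v ^ 2 = 1 := by
    rintro ⟨v, hv⟩
    refine Subtype.ext ?_
    show v ^ 2 = 1
    rcases (mem_uu hd).1 hv with rfl | rfl | rfl | rfl
    · exact one_pow 2
    · exact (orderOf_eq_prime_iff.1 (orderOf_zz hd)).1
    · exact (orderOf_eq_prime_iff.1 (orderOf_ss hd _)).1
    · exact (orderOf_eq_prime_iff.1 (orderOf_ss hd _)).1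
  refine ⟨card_uu hd i, ?_⟩
  haveI : Nontrivial (uu ι i) := Finite.one_lt_card_iff_nontrivial.1 (by rw [card_uu hd]; omega)
  exact (Monoid.exponent_eq_prime_iff Nat.prime_two).2 fun v hv => orderOf_eq_prime (hsq v) hv

end CfsgLib.Invol.DihSylow
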