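import Mathlib
import Cfsg.Agent.S0514
import Cfsg.Agent.Lib.Transfer.Basic
import Cfsg.Agent.Lib.Local.OddAction
import Cfsg.Agent.Lib.LocalEven.Basic

/-!
# Fusion in groups with dihedral Sylow 2-subgroups
-/

set_option autoImplicit false

namespace CfsgLib.Invol.DihedralSylow

open Subgroup DihedralGroup

/-! ### the model -/

section Model

variable {m : ℕ}

/-- The four-subgroup through the reflection `sr i`. -/
def fourD (i : ZMod m) : Subgroup (DihedralGroup m) where
  carrier := {x | match x with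
    | r j => 2 * j = 0
    | sr j => 2 * (j - i) = 0}
  one_mem' := by show 2 * (0 : ZMod m) = 0; exact mul_zero 2
  mul_mem' := by
    rintro (a | a) (b | b) ha hb <;> simp only [Set.mem_setOf_eq] at ha hb <;>
      simp only [r_mul_r, r_mul_sr, sr_mul_r, sr_mul_sr, Set.mem_setOf_eq] <;>
      first
        | linear_combination ha + hb
        | linear_combination hb - ha
        | linear_combination ha - hb
  inv_mem' := by
    rintro (a | a) ha <;> simp only [Set.mem_setOf_eq] at ha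
    · show 2 * (-a) = 0; linear_combination -ha
    · exact ha

theorem r_mem_fourD {i j : ZMod m} : r j ∈ fourD i ↔ 2 * j = 0 := Iff.rfl

theorem sr_mem_fourD {i j : ZMod m} : sr j ∈ fourD i ↔ 2 * (j - i) = 0 := Iff.rfl

theorem sr_self_mem (i : ZMod m) : sr i ∈ fourD i := by
  rw [sr_mem_fourD, sub_self, mul_zero]

theorem sq_of_mem_fourD {i : ZMod m} {x : DihedralGroup m} (hx : x ∈ fourD i) : x * x = 1 := by
  rcases x with j | j
  · rw [r_mul_r, ← two_mul, r_mem_fourD.mp hx, r_zero]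
  · exact sr_mul_self j

variable {h : ℕ}

theorem two_half (hm : m = 2 * h) : 2 * (h : ZMod m) = 0 := by
  subst hm
  exact_mod_cast ZMod.natCast_self (2 * h)

theorem half_ne_zero (hm : m = 2 * h) (h0 : 0 < h) : (h : ZMod m) ≠ 0 := by
  subst hm
  rw [Ne, ZMod.natCast_eq_zero_iff]
  intro hd
  have := Nat.le_of_dvd h0 hd
  omega

theorem two_cancel (hm : m = 2 * h) (h0 : 0 < h) {x : ZMod m} (hx : 2 * x = 0) : x = 0 ∨ x = (h : ZMod m) := by
  subst hm
  haveI : NeZero (2 * h) := ⟨by omega⟩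
  rw [← ZMod.natCast_zmod_val x] at hx ⊢
  have hd : 2 * h ∣ 2 * x.val := (ZMod.natCast_eq_zero_iff _ _).mp (by exact_mod_cast hx)
  have hlt := x.val_lt
  obtain ⟨c, hc⟩ := Nat.dvd_of_mul_dvd_mul_left (by norm_num) hd
  have hc2 : c < 2 := by
    by_contra h2
    push Not at h2
    have := Nat.mul_le_mul_left h h2
    omega
  rcases c with _ | _ | c
  · left; simp [hc]
  · right; simp [hc]
  · omega

theorem card_fourD (hm : m = 2 * h) (h0 : 0 < h) (i : ZMod m) : Nat.card (fourD i) = 4 := by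
  have hset : (fourD i : Set (DihedralGroup m)) = {r 0, r (h : ZMod m), sr i, sr (i + (h : ZMod m))} := by
    ext x
    rcases x with j | j <;> simp only [SetLike.mem_coe, Set.mem_insert_iff, Set.mem_singleton_iff,
      r.injEq, sr.injEq, reduceCtorEq, or_false, false_or]
    · exact ⟨fun hx => two_cancel hm h0 (r_mem_fourD.mp hx), by rintro (rfl | rfl) <;> simp [r_mem_fourD, two_half hm]⟩
    · refine ⟨fun hx => ?_, by rintro (rfl | rfl) <;> simp [sr_mem_fourD, two_half hm]⟩
      rcases two_cancel hm h0 (sr_mem_fourD.mp hx) with h1 | h1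
      · exact Or.inl (sub_eq_zero.mp h1)
      · exact Or.inr (by rw [← h1]; ring)
  have hne := half_ne_zero hm h0
  rw [show Nat.card (fourD i) = (fourD i : Set (DihedralGroup m)).ncard from rfl, hset]
  have h1 : r (0 : ZMod m) ∉ ({r (h : ZMod m), sr i, sr (i + (h : ZMod m))} : Set (DihedralGroup m)) := by
    simp [-r_zero, Ne.symm hne]
  have h2 : r (h : ZMod m) ∉ ({sr i, sr (i + (h : ZMod m))} : Set (DihedralGroup m)) := by simp
  have h3 : (sr i : DihedralGroup m) ≠ sr (i + (h : ZMod m)) := by simp [hne]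
  rw [Set.ncard_insert_of_notMem h1, Set.ncard_insert_of_notMem h2, Set.ncard_pair h3]

theorem half_central (hm : m = 2 * h) (x : DihedralGroup m) : x * r (h : ZMod m) = r (h : ZMod m) * x := by
  rcases x with j | j
  · rw [r_mul_r, r_mul_r, add_comm]
  · rw [sr_mul_r, r_mul_sr]; congr 1; linear_combination two_half hm

theorem half_mem_fourD (hm : m = 2 * h) (i : ZMod m) : r (h : ZMod m) ∈ fourD i := two_half hm

theorem orderOf_half (hm : m = 2 * h) (h0 : 0 < h) : orderOf (r (h : ZMod m)) = 2 :=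
  orderOf_eq_prime (p := 2) (by rw [pow_two, r_mul_r, ← two_mul, two_half hm, r_zero])
    (by rw [one_def]; simpa [-r_zero] using half_ne_zero hm h0)

/-- Every four-subgroup of the dihedral group is one of the `fourD i`. -/
theorem eq_fourD (hm : m = 2 * h) (h0 : 0 < h) (V : Subgroup (DihedralGroup m)) (hV : Nat.card V = 4)
    (hsq : ∀ x ∈ V, x * x = 1) : ∃ i, V = fourD i := by
  haveI : NeZero m := ⟨by omega⟩
  obtain ⟨i, hi⟩ : ∃ i, sr i ∈ V := by
    by_contra hno
    push Not at hno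
    have hsub : (V : Set (DihedralGroup m)) ⊆ {r 0, r (h : ZMod m)} := by
      rintro (j | j) hj
      · have h1 := hsq _ hj
        rw [r_mul_r, one_def, r.injEq, ← two_mul] at h1
        rcases two_cancel hm h0 h1 with rfl | rfl
        · exact Or.inl rfl
        · exact Or.inr rfl
      · exact absurd hj (hno j)
    have h2 := Set.ncard_le_ncard hsub (Set.toFinite _)
    rw [show (V : Set (DihedralGroup m)).ncard = Nat.card V from rfl, hV] at h2
    have h3 := (Set.ncard_insert_le (r (0 : ZMod m)) {r (h : ZMod m)})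
    rw [Set.ncard_singleton] at h3
    omega
  refine ⟨i, eq_of_le_of_card_ge ?_ (by rw [hV, card_fourD hm h0])⟩
  rintro (j | j) hj
  · have h1 := hsq _ hj
    rw [r_mul_r, one_def, r.injEq, ← two_mul] at h1
    exact h1
  · have h1 := hsq _ (mul_mem hi hj)
    rw [sr_mul_sr, r_mul_r, one_def, r.injEq, ← two_mul] at h1
    exact h1

/-- Parity of the index of a reflection. -/
def par (hm : m = 2 * h) : ZMod m →+* ZMod 2 := ZMod.castHom (hm ▸ dvd_mul_right 2 h) (ZMod 2)

theorem par_conj (hm : m = 2 * h) (σ : DihedralGroup m) (i c : ZMod m) (hc : σ * sr i * σ⁻¹ = sr c) :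
    par hm c = par hm i := by
  have h2 : ∀ a : ZMod 2, -a = a := by decide
  have h2' : ∀ a : ZMod 2, a + a = 0 := by decide
  rcases σ with t | t
  · rw [show (r t : DihedralGroup m)⁻¹ = r (-t) from rfl, r_mul_sr, sr_mul_r, sr.injEq] at hc
    rw [← hc]
    simp only [map_add, map_sub, map_neg, h2, sub_eq_add_neg]
    rw [add_assoc, h2', add_zero]
  · rw [inv_sr, sr_mul_sr, r_mul_sr, sr.injEq] at hc
    rw [← hc]
    simp only [map_sub, sub_eq_add_neg, map_add, map_neg, h2]
    rw [add_comm (par hm i), ← add_assoc, h2', zero_add]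

theorem exists_shift (hm : m = 2 * h) {i j : ZMod m} (hij : par hm i = par hm j) :
    ∃ t : ZMod m, r t * sr i * (r t)⁻¹ = sr j := by
  obtain ⟨k, hk⟩ := ZMod.intCast_surjective (i - j)
  have h0 : ((k : ℤ) : ZMod 2) = 0 := by
    rw [← map_intCast (par hm) k, hk, map_sub, hij, sub_self]
  obtain ⟨l, rfl⟩ := (ZMod.intCast_zmod_eq_zero_iff_dvd k 2).mp h0
  refine ⟨(l : ZMod m), ?_⟩
  rw [show (r (l : ZMod m) : DihedralGroup m)⁻¹ = r (-(l : ZMod m)) from rfl, r_mul_sr, sr_mul_r]
  congr 1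
  push_cast at hk
  linear_combination -hk

theorem conj_fourD (hm : m = 2 * h) (h0 : 0 < h) (σ : DihedralGroup m) {i c : ZMod m} (hc : σ * sr i * σ⁻¹ = sr c) :
    (fourD i).map (MulAut.conj σ).toMonoidHom = fourD c := by
  haveI : NeZero m := ⟨by omega⟩
  refine eq_of_le_of_card_ge ?_ (by
    rw [card_map_of_injective (MulAut.conj σ).injective, card_fourD hm h0, card_fourD hm h0])
  rintro _ ⟨x, hx, rfl⟩
  show σ * x * σ⁻¹ ∈ fourD c
  rcases x with j | j
  · rcases two_cancel hm h0 (r_mem_fourD.mp hx) with rfl | rfl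
    · simp
    · rw [half_central hm σ, mul_inv_cancel_right]; exact half_mem_fourD hm c
  · rcases two_cancel hm h0 (sr_mem_fourD.mp hx) with h1 | h1
    · rw [sub_eq_zero.mp h1, hc]; exact sr_self_mem c
    · have h2 : (sr j : DihedralGroup m) = sr i * r (h : ZMod m) := by
        rw [sr_mul_r, ← h1]; congr 1; ring
      rw [h2, show σ * (sr i * r (h : ZMod m)) * σ⁻¹ = σ * sr i * σ⁻¹ * (σ * r (h : ZMod m) * σ⁻¹) by group,
        hc, half_central hm σ, mul_inv_cancel_right]
      exact mul_mem (sr_self_mem c) (half_mem_fourD hm c)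

end Model

/-! ### normal 2-complements and fusion -/

/-- With a normal 2-complement, fusion in a Sylow 2-subgroup is induced by the subgroup itself. -/
theorem fusion_complement {Y : Type*} [Group Y] [Finite Y] {N : Subgroup Y} [N.Normal] (hodd : Odd (Nat.card N))
    {k : ℕ} (hk : N.index = 2 ^ k) (P : Sylow 2 Y) (g : Y) :
    ∃ n ∈ N, ∃ s ∈ (P : Subgroup Y), g = n * s ∧
      ∀ x ∈ (P : Subgroup Y), g * x * g⁻¹ ∈ (P : Subgroup Y) →
        g * x * g⁻¹ = s * x * s⁻¹ ∧ Commute n (s * x * s⁻¹) := by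
  haveI : Fact (Nat.Prime 2) := ⟨Nat.prime_two⟩
  have htop := CfsgLib.Transfer.sup_sylow_eq_top P hk
  obtain ⟨n, hn, s, hs, hg⟩ := mem_sup_of_normal_left.mp (htop ▸ mem_top g : g ∈ N ⊔ (P : Subgroup Y))
  refine ⟨n, hn, s, hs, hg.symm, fun x hx hgx => ?_⟩
  have hy : s * x * s⁻¹ ∈ (P : Subgroup Y) := mul_mem (mul_mem hs hx) (inv_mem hs)
  have h1 : g * x * g⁻¹ * (s * x * s⁻¹)⁻¹ ∈ (P : Subgroup Y) := mul_mem hgx (inv_mem hy)
  have h2 : g * x * g⁻¹ * (s * x * s⁻¹)⁻¹ ∈ N := by
    rw [← hg, show n * s * x * (n * s)⁻¹ * (s * x * s⁻¹)⁻¹ = n * ((s * x * s⁻¹) * n⁻¹ * (s * x * s⁻¹)⁻¹) by group]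
    exact mul_mem hn (Subgroup.Normal.conj_mem inferInstance _ (inv_mem hn) _)
  have h3 : g * x * g⁻¹ * (s * x * s⁻¹)⁻¹ = 1 := by
    obtain ⟨a, ha⟩ := IsPGroup.iff_card.mp P.isPGroup'
    have hco : Nat.Coprime (Nat.card N) (Nat.card (P : Subgroup Y)) :=
      ha ▸ (Nat.coprime_two_right.mpr hodd).pow_right a
    exact mem_bot.mp ((inf_eq_bot_of_coprime hco) ▸ (⟨h2, h1⟩ : _ ∈ N ⊓ (P : Subgroup Y)))
  have h4 := mul_inv_eq_one.mp h3
  refine ⟨h4, ?_⟩
  show n * (s * x * s⁻¹) = (s * x * s⁻¹) * n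
  rw [← mul_inv_eq_iff_eq_mul]
  nth_rw 2 [← h4]
  rw [← hg]; group

/-! ### the group -/

variable {X : Type*} [Group X] [Finite X]

/-- An embedding of the dihedral model onto the Sylow 2-subgroup. -/
structure Emb (S : Sylow 2 X) (m h : ℕ) where
  hm : m = 2 * h
  pos : 0 < h
  even : h = 1 ∨ ∃ q, h = 2 * q
  ι : DihedralGroup m →* X
  inj : Function.Injective ι
  range_eq : ι.range = (S : Subgroup X)

theorem exists_emb (S : Sylow 2 X) {m : ℕ} (hm2 : 2 ≤ m) (e : (S : Subgroup X) ≃* DihedralGroup m) :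
    ∃ h, Nonempty (Emb S m h) := by
  haveI : Fact (Nat.Prime 2) := ⟨Nat.prime_two⟩
  obtain ⟨a, ha⟩ := IsPGroup.iff_card.mp S.isPGroup'
  rw [Nat.card_congr e.toEquiv, DihedralGroup.nat_card] at ha
  obtain ⟨b, rfl⟩ : ∃ b, a = b + 2 := by
    refine ⟨a - 2, ?_⟩
    have : 2 ^ 1 < 2 ^ a := by omega
    have := (Nat.pow_lt_pow_iff_right (by norm_num : 1 < 2)).mp this
    omega
  refine ⟨2 ^ b, ⟨⟨by rw [pow_succ, pow_succ] at ha; omega, Nat.two_pow_pos b, ?_,
    (S : Subgroup X).subtype.comp e.symm.toMonoidHom, (S : Subgroup X).subtype_injective.comp e.symm.injective,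
    ?_⟩⟩⟩
  · rcases b with _ | b
    · exact Or.inl rfl
    · exact Or.inr ⟨2 ^ b, by rw [pow_succ]; ring⟩
  · rw [MonoidHom.range_comp, MonoidHom.range_eq_top.mpr e.symm.surjective, ← MonoidHom.range_eq_map, range_subtype]

variable {S : Sylow 2 X} {m h : ℕ}

namespace Emb

variable (E : Emb S m h)

/-- The central involution of the Sylow subgroup. -/
def z : X := E.ι (r (h : ZMod m))

/-- The four-subgroup of the Sylow subgroup through the reflection `i`. -/
def four (i : ZMod m) : Subgroup X := (fourD i).map E.ι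

theorem mem_S (x : DihedralGroup m) : E.ι x ∈ (S : Subgroup X) := E.range_eq ▸ ⟨x, rfl⟩

theorem four_le (i : ZMod m) : E.four i ≤ (S : Subgroup X) := by rintro _ ⟨x, -, rfl⟩; exact E.mem_S x

theorem card_four (i : ZMod m) : Nat.card (E.four i) = 4 := by
  rw [four, card_map_of_injective E.inj, card_fourD E.hm E.pos]

theorem sq_four {i : ZMod m} {x : X} (hx : x ∈ E.four i) : x * x = 1 := by
  obtain ⟨y, hy, rfl⟩ := hx
  rw [← map_mul, sq_of_mem_fourD hy, map_one]

theorem isKleinFour_four (i : ZMod m) : IsKleinFour (E.four i) := by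
  haveI : Nontrivial (E.four i) := Finite.one_lt_card_iff_nontrivial.mp (by rw [E.card_four]; norm_num)
  exact ⟨E.card_four i, (Monoid.exponent_eq_prime_iff Nat.prime_two).mpr fun x hx =>
    orderOf_eq_prime (by rw [pow_two]; exact Subtype.ext (E.sq_four x.2)) hx⟩

theorem orderOf_z : orderOf E.z = 2 := by rw [z, orderOf_injective _ E.inj]; exact orderOf_half E.hm E.pos

theorem orderOf_refl (i : ZMod m) : orderOf (E.ι (sr i)) = 2 := by rw [orderOf_injective _ E.inj, orderOf_sr]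

theorem z_ne_refl (i : ZMod m) : E.z ≠ E.ι (sr i) := fun h1 => by
  simpa using E.inj h1

theorem S_le_centralizer : (S : Subgroup X) ≤ centralizer ({E.z} : Set X) := fun x hx => by
  rw [← E.range_eq] at hx
  obtain ⟨y, rfl⟩ := hx
  rw [mem_centralizer_singleton_iff, z, ← map_mul, ← map_mul, half_central E.hm]

/-- Every four-group of `X` is conjugate to some `four i`. -/
theorem exists_conj_four (V : Subgroup X) (hV : Nat.card V = 4) (hsq : ∀ x ∈ V, x * x = 1) :
    ∃ g : X, ∃ i, V.map (MulAut.conj g).toMonoidHom = E.four i := by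
  haveI : Fact (Nat.Prime 2) := ⟨Nat.prime_two⟩
  obtain ⟨T, hT⟩ := (IsPGroup.of_card (p := 2) (n := 2) (by rw [hV]; norm_num) : IsPGroup 2 V).exists_le_sylow
  obtain ⟨g, hg⟩ := MulAction.exists_smul_eq X T S
  set W := V.map (MulAut.conj g).toMonoidHom with hW
  have hWS : W ≤ E.ι.range := by
    rw [E.range_eq, ← hg]
    exact map_mono hT
  obtain ⟨i, hi⟩ := eq_fourD E.hm E.pos (W.comap E.ι) (by
      rw [← card_map_of_injective E.inj, map_comap_eq_self hWS, hW, card_map_of_injective (MulAut.conj g).injective, hV])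
    (by
      intro x hx
      obtain ⟨v, hv, hvx⟩ := hx
      apply E.inj
      rw [map_mul, map_one, ← hvx, ← map_mul, hsq v hv, map_one])
  exact ⟨g, i, by rw [four, ← hi, map_comap_eq_self hWS]⟩

/-- Every involution is conjugate to `z` or to a reflection. -/
theorem exists_conj_involution (u : X) (hu : orderOf u = 2) :
    ∃ g : X, g * u * g⁻¹ = E.z ∨ ∃ i, g * u * g⁻¹ = E.ι (sr i) := by
  haveI : Fact (Nat.Prime 2) := ⟨Nat.prime_two⟩
  obtain ⟨T, hT⟩ := (IsPGroup.of_card (p := 2) (n := 1) (by rw [Nat.card_zpowers, hu, pow_one]) :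
    IsPGroup 2 (zpowers u)).exists_le_sylow
  obtain ⟨g, hg⟩ := MulAction.exists_smul_eq X T S
  have hmem : g * u * g⁻¹ ∈ E.ι.range := by
    rw [E.range_eq, ← hg]
    exact ⟨u, hT (mem_zpowers u), rfl⟩
  obtain ⟨y, hy⟩ := hmem
  have hy2 : orderOf y = 2 := by
    rw [← orderOf_injective _ E.inj, hy, ← hu]; exact (MulAut.conj g).orderOf_eq u
  refine ⟨g, ?_⟩
  rcases y with j | j
  · left
    have h1 : (r j : DihedralGroup m) ^ 2 = 1 := hy2 ▸ pow_orderOf_eq_one _
    rw [pow_two, r_mul_r, one_def, r.injEq, ← two_mul] at h1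
    rcases two_cancel E.hm E.pos h1 with rfl | rfl
    · rw [r_zero, orderOf_one] at hy2; omega
    · exact hy.symm
  · exact Or.inr ⟨j, hy.symm⟩

/-- If the Sylow subgroup is not four, four-groups of different parity are not conjugate. -/
theorem par_eq_of_conj {q : ℕ} (hq : h = 2 * q) {g : X} {i j : ZMod m}
    (hg : (E.four i).map (MulAut.conj g).toMonoidHom = E.four j) : par E.hm i = par E.hm j := by
  classical
  haveI : Fact (Nat.Prime 2) := ⟨Nat.prime_two⟩
  have hgm : ∀ x, g * x * g⁻¹ ∈ E.four j ↔ x ∈ E.four i := fun x => by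
    rw [← hg]
    exact Subgroup.mem_map_iff_mem (MulAut.conj g).injective
  have hswap : ∀ a : ZMod m, E.ι (r (q : ZMod m)) * E.ι (sr a) * (E.ι (r (q : ZMod m)))⁻¹ =
      E.ι (sr (a + (h : ZMod m))) := by
    intro a
    rw [← map_inv, ← map_mul, ← map_mul, show (r (q : ZMod m) : DihedralGroup m)⁻¹ = r (-(q : ZMod m)) from rfl,
      r_mul_sr, sr_mul_r]
    congr 2
    have h1 := two_half E.hm
    rw [hq] at h1 ⊢
    push_cast at h1 ⊢
    linear_combination -h1
  set τ := E.ι (r (q : ZMod m)) with hτ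
  have hτz : τ * E.z * τ⁻¹ = E.z := by
    have := mem_centralizer_singleton_iff.mp (E.S_le_centralizer (E.mem_S (r (q : ZMod m))))
    rw [this, mul_inv_cancel_right]
  have hτmem : ∀ (l : ZMod m) (x : X), x ∈ E.four l → τ * x * τ⁻¹ ∈ E.four l := by
    rintro l _ ⟨(c | c), hc, rfl⟩
    · rcases two_cancel E.hm E.pos (r_mem_fourD.mp hc) with rfl | rfl
      · simp
      · exact hτz.symm ▸ mem_map_of_mem _ (half_mem_fourD E.hm l)
    · rw [hswap]
      refine mem_map_of_mem _ (sr_mem_fourD.mpr ?_)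
      linear_combination sr_mem_fourD.mp hc + two_half E.hm
  -- move `g z g⁻¹` back to `z`
  obtain ⟨g', hg'z, hg'⟩ : ∃ g' : X, g' * E.z * g'⁻¹ = E.z ∧ ∀ x ∈ E.four i, g' * x * g'⁻¹ ∈ E.four j := by
    by_cases hgz : g * E.z * g⁻¹ = E.z
    · exact ⟨g, hgz, fun x hx => (hgm x).mpr hx⟩
    set a := g * E.z * g⁻¹ with ha
    have haj : a ∈ E.four j := (hgm _).mpr (mem_map_of_mem _ (half_mem_fourD E.hm i))
    obtain ⟨(c | c), hc, hca⟩ := haj
    · exfalso
      rcases two_cancel E.hm E.pos (r_mem_fourD.mp hc) with rfl | rfl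
      · have h1 : a = 1 := by rw [← hca, r_zero, map_one]
        have : E.z = 1 := conj_eq_one_iff.mp h1
        have := E.orderOf_z
        simp_all
      · exact hgz hca.symm
    set τ' := g * τ * g⁻¹ with hτ'
    have hτ'a : τ' * a * τ'⁻¹ = a := by
      rw [hτ', ha, show g * τ * g⁻¹ * (g * E.z * g⁻¹) * (g * τ * g⁻¹)⁻¹ = g * (τ * E.z * τ⁻¹) * g⁻¹ by group, hτz]
    have hτ'mem : ∀ x ∈ E.four j, τ' * x * τ'⁻¹ ∈ E.four j := by
      intro x hx
      have h1 : g⁻¹ * x * g ∈ E.four i := (hgm _).mp (by simpa [mul_assoc] using hx)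
      have h2 := (hgm _).mpr (hτmem i _ h1)
      rwa [show g * (τ * (g⁻¹ * x * g) * τ⁻¹) * g⁻¹ = τ' * x * τ'⁻¹ by rw [hτ']; group] at h2
    have hzmove : τ' * E.z * τ'⁻¹ ≠ E.z := by
      intro h1
      have h2 : g⁻¹ * E.z * g ∈ E.four i := (hgm _).mp (by
        rw [show g * (g⁻¹ * E.z * g) * g⁻¹ = E.z by group]
        exact mem_map_of_mem E.ι (half_mem_fourD E.hm j))
      have h3 : τ * (g⁻¹ * E.z * g) * τ⁻¹ = g⁻¹ * E.z * g := by
        calc τ * (g⁻¹ * E.z * g) * τ⁻¹ = g⁻¹ * (τ' * E.z * τ'⁻¹) * g := by rw [hτ']; group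
          _ = g⁻¹ * E.z * g := by rw [h1]
      obtain ⟨(d | d), hd, hde⟩ := h2
      · rcases two_cancel E.hm E.pos (r_mem_fourD.mp hd) with rfl | rfl
        · have h4 : g⁻¹ * E.z * g⁻¹⁻¹ = 1 := by rw [inv_inv, ← hde, r_zero, map_one]
          have := E.orderOf_z
          rw [conj_eq_one_iff.mp h4] at this
          simp at this
        · apply hgz
          have h5 : E.z = g⁻¹ * E.z * g := hde
          calc a = g * (g⁻¹ * E.z * g) * g⁻¹ := by rw [ha]; nth_rw 1 [h5]
            _ = E.z := by group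
      · rw [← hde, hswap] at h3
        have := E.inj h3
        simp [half_ne_zero E.hm E.pos] at this
    have hzimg : τ' * E.z * τ'⁻¹ = E.ι (sr (c + (h : ZMod m))) := by
      obtain ⟨y, hy, hye⟩ := hτ'mem E.z (mem_map_of_mem E.ι (half_mem_fourD E.hm j))
      rw [← hye]
      rcases y with d | d
      · exfalso
        rcases two_cancel E.hm E.pos (r_mem_fourD.mp hy) with rfl | rfl
        · rw [r_zero, map_one] at hye
          have := E.orderOf_z
          rw [conj_eq_one_iff.mp hye.symm] at this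
          simp at this
        · exact hzmove hye.symm
      · have hdc : 2 * (d - c) = 0 := by linear_combination sr_mem_fourD.mp hy - sr_mem_fourD.mp hc
        rcases two_cancel E.hm E.pos hdc with h1 | h1
        · exfalso
          rw [sub_eq_zero.mp h1, hca] at hye
          have h6 : E.z = a := by
            calc E.z = τ'⁻¹ * (τ' * E.z * τ'⁻¹) * τ' := by group
              _ = τ'⁻¹ * (τ' * a * τ'⁻¹) * τ' := by rw [hτ'a, hye]
              _ = a := by group
          exact hgz h6.symm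
        · congr 2; rw [← h1]; ring
    have hττ : τ * τ' * E.z * (τ * τ')⁻¹ = a := by
      rw [show τ * τ' * E.z * (τ * τ')⁻¹ = τ * (τ' * E.z * τ'⁻¹) * τ⁻¹ by group, hzimg, hswap, ← hca]
      congr 2
      linear_combination two_half E.hm
    have hN : τ * τ' ∈ normalizer (E.four j : Set X) :=
      mul_mem (CfsgLib.LocalEven.mem_normalizer_of_conj_le (by rintro _ ⟨x, hx, rfl⟩; exact hτmem j x hx))
        (CfsgLib.LocalEven.mem_normalizer_of_conj_le (by rintro _ ⟨x, hx, rfl⟩; exact hτ'mem x hx))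
    refine ⟨(τ * τ')⁻¹ * g, ?_, fun x hx => ?_⟩
    · calc (τ * τ')⁻¹ * g * E.z * ((τ * τ')⁻¹ * g)⁻¹ = (τ * τ')⁻¹ * a * (τ * τ') := by rw [ha]; group
        _ = (τ * τ')⁻¹ * (τ * τ' * E.z * (τ * τ')⁻¹) * (τ * τ') := by rw [hττ]
        _ = E.z := by group
    · have := (mem_normalizer_iff.mp (inv_mem hN) _).mp ((hgm x).mpr hx)
      rwa [show (τ * τ')⁻¹ * (g * x * g⁻¹) * (τ * τ')⁻¹⁻¹ = (τ * τ')⁻¹ * g * x * ((τ * τ')⁻¹ * g)⁻¹ by group] at this
  -- the centraliser of `z` has a normal 2-complement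
  set C := centralizer ({E.z} : Set X) with hC
  have hgC : g' ∈ C := mem_centralizer_singleton_iff.mpr (mul_inv_eq_iff_eq_mul.mp hg'z)
  obtain ⟨N, hNn, hNodd, k, hk⟩ := Cfsg.Agent.S0514.result S m (by have := E.hm; have := E.pos; omega)
    ⟨(MulEquiv.subgroupCongr E.range_eq.symm).trans (MonoidHom.ofInjective E.inj).symm⟩ E.z E.orderOf_z
  haveI := hNn
  let P : Sylow 2 C := S.subtype E.S_le_centralizer
  obtain ⟨n, hn, s, hs, heq, hfus⟩ := fusion_complement hNodd hk P (⟨g', hgC⟩ : C)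
  have hx : E.ι (sr i) ∈ E.four i := mem_map_of_mem _ (sr_self_mem i)
  have hh := congrArg Subtype.val (hfus ⟨_, E.S_le_centralizer (E.mem_S (sr i))⟩ (E.mem_S (sr i))
    (E.four_le j (hg' _ hx))).1
  obtain ⟨σ, hσ⟩ : (s : X) ∈ E.ι.range := by rw [E.range_eq]; exact hs
  obtain ⟨y, hy, hye⟩ := hg' _ hx
  have hy' : y = σ * sr i * σ⁻¹ := E.inj (by
    rw [hye, map_mul, map_mul, map_inv, hσ]; exact hh)
  rcases hcase : σ * sr i * σ⁻¹ with c | c
  · exfalso
    rcases σ with t | t <;> simp [show ∀ a : ZMod m, (r a : DihedralGroup m)⁻¹ = r (-a) from fun _ => rfl] at hcase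
  · rw [← par_conj E.hm σ i c hcase]
    rw [hy', hcase] at hy
    rcases two_cancel E.hm E.pos (sr_mem_fourD.mp hy) with h1 | h1
    · rw [sub_eq_zero.mp h1]
    · rw [show c = j + (h : ZMod m) by rw [← h1]; ring, map_add, map_natCast,
        (ZMod.natCast_eq_zero_iff h 2).mpr ⟨q, hq⟩, add_zero]

/-- Reflections of the same parity give conjugate four-groups. -/
theorem conj_of_par {i j : ZMod m} (hij : par E.hm i = par E.hm j) :
    ∃ g : X, (E.four i).map (MulAut.conj g).toMonoidHom = E.four j := by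
  obtain ⟨t, ht⟩ := exists_shift E.hm hij
  refine ⟨E.ι (r t), ?_⟩
  rw [four, four, ← conj_fourD E.hm E.pos (r t) ht, map_map, map_map]
  congr 1
  ext x
  show E.ι (r t) * E.ι x * (E.ι (r t))⁻¹ = E.ι (r t * x * (r t)⁻¹)
  rw [map_mul, map_mul, map_inv]

end Emb

end CfsgLib.Invol.DihedralSylow
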