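import Mathlib
import Cfsg.Agent.S0111
import Cfsg.Agent.Lib.Invol.DihedralSylow
import Cfsg.Agent.Lib.Transfer.Frobenius

/-!
# One class of involutions and the Frobenius criterion for dihedral Sylow 2-subgroups
-/

set_option autoImplicit false

namespace CfsgLib.Invol.DihedralSylow

open Subgroup DihedralGroup

variable {X : Type*} [Group X] [Finite X] {S : Sylow 2 X} {m h : ℕ}

namespace Emb

variable (E : Emb S m h)

/-- The rotation subgroup of the Sylow subgroup. -/
def rot : Subgroup X := (zpowers (r (1 : ZMod m))).map E.ι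

theorem r_mem_rot (j : ZMod m) : E.ι (r j) ∈ E.rot := by
  obtain ⟨k, rfl⟩ := ZMod.intCast_surjective j
  exact mem_map_of_mem _ ⟨k, r_one_zpow k⟩

theorem rot_cases {x : X} (hx : x ∈ E.rot) : ∃ j, x = E.ι (r j) := by
  obtain ⟨y, ⟨k, rfl⟩, rfl⟩ := hx
  exact ⟨k, by show E.ι (r 1 ^ k) = _; rw [r_one_zpow]⟩

theorem refl_notMem_rot (i : ZMod m) : E.ι (sr i) ∉ E.rot := fun h1 => by
  obtain ⟨j, hj⟩ := E.rot_cases h1
  simpa using E.inj hj

theorem relIndex_rot : E.rot.relIndex (S : Subgroup X) = 2 := by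
  haveI : NeZero m := ⟨by have := E.hm; have := E.pos; omega⟩
  have h1 : Nat.card E.rot = m := by
    rw [rot, card_map_of_injective E.inj, Nat.card_zpowers, orderOf_r_one]
  have h2 : Nat.card (S : Subgroup X) = 2 * m := by
    rw [← E.range_eq, ← Nat.card_congr (MonoidHom.ofInjective E.inj).toEquiv, DihedralGroup.nat_card]
  have hle : E.rot ≤ (S : Subgroup X) := by rintro _ ⟨x, -, rfl⟩; exact E.mem_S x
  have h3 := (E.rot.subgroupOf (S : Subgroup X)).card_mul_index
  rw [Nat.card_congr (subgroupOfEquivOfLe hle).toEquiv, h1, h2, mul_comm 2 m] at h3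
  exact Nat.eq_of_mul_eq_mul_left (by have := E.hm; have := E.pos; omega) h3

/-- With no subgroup of index two there is a single class of involutions. -/
theorem one_class (E : Emb S m h) (hno : ∀ H : Subgroup X, H.index ≠ 2) {a b : X} (ha : orderOf a = 2)
    (hb : orderOf b = 2) : IsConj a b := by
  have key : ∀ u : X, orderOf u = 2 → IsConj u E.z := by
    intro u hu
    obtain ⟨g, hg | ⟨i, hi⟩⟩ := E.exists_conj_involution u hu
    · exact isConj_iff.mpr ⟨g, hg⟩
    rcases Cfsg.Agent.S0111.result S E.rot (by rintro _ ⟨x, -, rfl⟩; exact E.mem_S x) E.relIndex_rot _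
        (E.orderOf_refl i) (E.mem_S _) (E.refl_notMem_rot i) with ⟨M, -, hM, -⟩ | ⟨k, hk⟩
    · exact absurd hM (hno M)
    obtain ⟨j, hj⟩ := E.rot_cases hk
    have h2 : orderOf (r j : DihedralGroup m) = 2 := by
      rw [← orderOf_injective _ E.inj, ← hj, ← E.orderOf_refl i]
      exact (MulAut.conj k).orderOf_eq _
    have h3 : (r j : DihedralGroup m) ^ 2 = 1 := h2 ▸ pow_orderOf_eq_one _
    rw [pow_two, r_mul_r, one_def, r.injEq, ← two_mul] at h3
    rcases two_cancel E.hm E.pos h3 with rfl | rfl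
    · rw [r_zero, orderOf_one] at h2; omega
    · refine (isConj_iff.mpr ⟨g, hi⟩).trans (isConj_iff.mpr ⟨k, ?_⟩)
      rw [hj]; rfl
  exact (key a ha).trans (key b hb).symm

/-- A single class of involutions forbids subgroups of index two. -/
theorem index_ne_two (E : Emb S m h) (hone : ∀ a b : X, orderOf a = 2 → orderOf b = 2 → IsConj a b)
    (H : Subgroup X) : H.index ≠ 2 := by
  intro hH
  haveI : Fact (Nat.Prime 2) := ⟨Nat.prime_two⟩
  haveI := normal_of_index_eq_two hH
  have hz : E.z ∈ H := by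
    obtain ⟨u, huS, huH, hu⟩ : ∃ u, u ∈ (S : Subgroup X) ∧ u ∈ H ∧ orderOf u = 2 := by
      set a := E.ι (sr 0) with ha
      by_cases h1 : a ∈ H
      · exact ⟨a, E.mem_S _, h1, E.orderOf_refl 0⟩
      by_cases h2 : E.z ∈ H
      · exact ⟨E.z, E.mem_S _, h2, E.orderOf_z⟩
      refine ⟨a * E.z, mul_mem (E.mem_S _) (E.mem_S _), ?_, ?_⟩
      · exact (mul_mem_iff_of_index_two hH).mpr (iff_of_false h1 h2)
      · rw [ha, z, ← map_mul, sr_mul_r, E.orderOf_refl]
    obtain ⟨g, hg⟩ := isConj_iff.mp (hone u E.z hu E.orderOf_z)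
    rw [← hg]
    exact Normal.conj_mem inferInstance u huH g
  have hinv : ∀ u : X, orderOf u = 2 → u ∈ H := fun u hu => by
    obtain ⟨g, hg⟩ := isConj_iff.mp (hone E.z u E.orderOf_z hu)
    rw [← hg]
    exact Normal.conj_mem inferInstance _ hz g
  have hSH : (S : Subgroup X) ≤ H := by
    intro x hx
    rw [← E.range_eq] at hx
    obtain ⟨(j | j), rfl⟩ := hx
    · rw [show (r j : DihedralGroup m) = sr 0 * sr j by rw [sr_mul_sr, sub_zero], map_mul]
      exact mul_mem (hinv _ (E.orderOf_refl 0)) (hinv _ (E.orderOf_refl j))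
    · exact hinv _ (E.orderOf_refl j)
  have := index_dvd_of_le hSH
  rw [hH] at this
  exact S.not_dvd_index this

/-- An element of odd prime power order normalising a 2-subgroup that is not four centralises it. -/
theorem centralizes_of_not_four (E : Emb S m h) {Q : Subgroup X} (hQ : IsPGroup 2 Q) {g : X}
    (hg : g ∈ normalizer (Q : Set X)) {q k : ℕ} [Fact q.Prime] (hq2 : q ≠ 2) (hk : orderOf g = q ^ k)
    (hnot : ¬ (Nat.card Q = 4 ∧ ∀ x ∈ Q, x * x = 1)) : g ∈ centralizer (Q : Set X) := by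
  classical
  haveI : Fact (Nat.Prime 2) := ⟨Nat.prime_two⟩
  have hqp : ¬ q ∣ 2 * (2 - 1) := by
    simpa using fun h => hq2 ((Nat.prime_dvd_prime_iff_eq (Fact.out : q.Prime) Nat.prime_two).1 h)
  obtain ⟨T, hT⟩ := hQ.exists_le_sylow
  let e : (S : Subgroup X) ≃* DihedralGroup m :=
    (MulEquiv.subgroupCongr E.range_eq.symm).trans (MonoidHom.ofInjective E.inj).symm
  let f : Q →* DihedralGroup m := ((T.equiv S).trans e).toMonoidHom.comp (Subgroup.inclusion hT)
  have hf : Function.Injective f := ((T.equiv S).trans e).injective.comp (Subgroup.inclusion_injective hT)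
  set R : Subgroup Q := (zpowers (r 1 : DihedralGroup m)).comap f with hR
  have hout : ∀ x : Q, x ∉ R → ∃ i, f x = sr i := by
    intro x hx
    rcases hfx : f x with i | i
    · exact absurd (show f x ∈ zpowers (r 1) by rw [hfx]; exact Cfsg.Agent.S0514.mem_rot i) hx
    · exact ⟨i, rfl⟩
  have hinv : ∀ x : Q, x ∉ R → x ^ 2 = 1 := fun x hx => by
    obtain ⟨i, hi⟩ := hout x hx
    refine hf ?_
    rw [map_pow, map_one, hi, pow_two, sr_mul_sr, sub_self, r_zero]
  have hcard : Nat.card Q ≤ 2 * Nat.card R := Cfsg.Agent.S0514.card_le_two_mul R fun x y hx hy => by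
    obtain ⟨i, hi⟩ := hout x hx
    obtain ⟨j, hj⟩ := hout y hy
    show f (x * y) ∈ zpowers _
    rw [map_mul, hi, hj, sr_mul_sr]; exact Cfsg.Agent.S0514.mem_rot _
  have hcyc : IsCyclic R :=
    isCyclic_of_injective (f.subgroupComap (zpowers (r 1 : DihedralGroup m)))
      fun a b h => Subtype.ext (hf (congrArg Subtype.val h :))
  by_cases hall : ∀ x : Q, x ^ 2 = 1
  · have hR2 : Nat.card R ≤ 2 := by
      obtain ⟨x, hx⟩ := hcyc.exists_generator
      rw [← orderOf_eq_card_of_forall_mem_zpowers hx]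
      exact orderOf_le_of_pow_eq_one two_pos (Subtype.ext (hall x))
    refine CfsgLib.Local.centralizes_of_fixed_le hQ hg hk hqp ?_
    obtain ⟨a, ha⟩ := IsPGroup.iff_card.mp hQ
    have ha2 : a < 2 := by
      by_contra h4
      push Not at h4
      have h5 : 2 ^ 2 ≤ 2 ^ a := Nat.pow_le_pow_right (by norm_num) h4
      exact hnot ⟨by omega, fun x hx => by
        have := congrArg Subtype.val (hall ⟨x, hx⟩); rw [← pow_two]; exact this⟩
    have h6 : 2 ^ a ≤ 2 ^ 1 := Nat.pow_le_pow_right (by norm_num) (by omega)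
    have h7 : 0 < Nat.card ↥(Q ⊓ centralizer ({g} : Set X)) := Nat.card_pos
    omega
  · push Not at hall
    obtain ⟨x0, hx0⟩ := hall
    obtain ⟨w, hw⟩ := hcyc.exists_generator
    have hx0R : x0 ∈ R := by_contra fun h' => hx0 (hinv x0 h')
    have hgen : ∀ y : Q, y ∈ R ↔ (y : X) ∈ zpowers ((w : Q) : X) := by
      intro y
      constructor
      · intro hy
        obtain ⟨i, hi⟩ := mem_zpowers_iff.1 (hw ⟨y, hy⟩)
        exact ⟨i, congrArg (fun v : R => ((v : Q) : X)) hi⟩
      · rintro ⟨i, hi⟩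
        have hy : y = (w : Q) ^ i := Subtype.ext hi.symm
        rw [hy]; exact R.zpow_mem w.2 i
    have hw2 : (w : Q) ^ 2 ≠ 1 := by
      intro h2
      obtain ⟨i, hi⟩ := mem_zpowers_iff.1 (hw ⟨x0, hx0R⟩)
      refine hx0 ?_
      rw [← show ((w ^ i : R) : Q) = x0 from congrArg Subtype.val hi, coe_zpow,
        ← zpow_natCast, ← zpow_mul, mul_comm, zpow_mul, zpow_natCast, h2, one_zpow]
    have hgr : g ∈ normalizer (zpowers ((w : Q) : X) : Set X) := by
      refine CfsgLib.LocalEven.mem_normalizer_of_conj_le ?_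
      rw [MonoidHom.map_zpowers, zpowers_le]
      have hmem : g * (w : Q) * g⁻¹ ∈ Q := (mem_normalizer_iff.1 hg _).1 (w : Q).2
      refine (hgen ⟨_, hmem⟩).1 (by_contra fun h1 => hw2 ?_)
      have h' : (g * ((w : Q) : X) * g⁻¹) ^ 2 = 1 := congrArg Subtype.val (hinv _ h1)
      rw [conj_pow] at h'
      exact Subtype.ext (conj_eq_one_iff.1 h')
    obtain ⟨d, hd⟩ := IsPGroup.iff_orderOf.1 hQ (w : Q)
    rw [← Subgroup.orderOf_coe] at hd
    have hgc := CfsgLib.Local.centralizes_cyclic_two hk hq2 d _ hd hgr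
    refine CfsgLib.Local.centralizes_of_fixed_le hQ hg hk hqp (hcard.trans (Nat.mul_le_mul_left 2 ?_))
    refine Nat.card_le_card_of_injective (fun y => (⟨((y : Q) : X), (y : Q).2, ?_⟩ :
      ↥(Q ⊓ centralizer ({g} : Set X)))) fun a b h => ?_
    · exact (zpowers_le.2 (mem_centralizer_singleton_iff.2 hgc.symm)) ((hgen _).1 y.2)
    · exact Subtype.ext (Subtype.ext (congrArg (fun v : ↥(Q ⊓ centralizer ({g} : Set X)) => (v : X)) h))

end Emb

end CfsgLib.Invol.DihedralSylow
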