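import Cfsg.Agent.Lib.Invol.IsolatedSylow
import Cfsg.Agent.Lib.Solvable.LagrangeConverse

/-!
# Automorphisms fixing a Sylow 2-subgroup pointwise

Glauberman: if `O(G) = 1`, a group of automorphisms of `G` fixing a Sylow 2-subgroup pointwise has
abelian Sylow 2-subgroups, and they are central in their normalisers.
-/

set_option autoImplicit false

namespace CfsgLib.Invol.FixedAut

open Cfsg

variable {X : Type*} [Group X] [Finite X]

/-- Sylow conjugation inside a subgroup. -/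
theorem conj_into {M P L : Subgroup X} (hPM : P ≤ M) (hP : IsPGroup 2 P) (hodd : Odd (P.relIndex M))
    (hLM : L ≤ M) (hL : IsPGroup 2 L) : ∃ m ∈ M, ∀ x ∈ L, m * x * m⁻¹ ∈ P := by
  haveI : Fact (Nat.Prime 2) := ⟨Nat.prime_two⟩
  obtain ⟨Q, hQ⟩ := (hL.comap_subtype (K := M)).exists_le_sylow
  let P' : Sylow 2 M := (hP.comap_subtype (K := M)).toSylow (fun h =>
    Nat.not_even_iff_odd.2 hodd (even_iff_two_dvd.2 h))
  obtain ⟨m, hm⟩ := MulAction.exists_smul_eq M Q P'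
  refine ⟨m.1, m.2, fun x hx => ?_⟩
  have h1 : m * (⟨x, hLM hx⟩ : M) * m⁻¹ ∈ (P' : Subgroup M) := by
    rw [← hm]
    exact Subgroup.smul_mem_pointwise_smul (⟨x, hLM hx⟩ : M) (MulAut.conj m) _ (hQ hx)
  exact h1

/-- A normal subgroup `G`, a complement-disjoint subgroup `T`, and `S ≤ G` centralised by `T`. -/
structure Setup (G S T : Subgroup X) : Prop where
  normal : G.Normal
  hSG : S ≤ G
  two_S : IsPGroup 2 S
  two_T : IsPGroup 2 T
  disj : G ⊓ T = ⊥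
  comm : ∀ τ ∈ T, ∀ s ∈ S, τ * s = s * τ
  odd_index : Odd (S.relIndex G)

variable {G S T : Subgroup X} (h : Setup G S T)
include h

/-- The Sylow 2-subgroup `S T` of `G T`. -/
theorem mem_sup {x : X} (hx : x ∈ S ⊔ T) : ∃ s ∈ S, ∃ τ ∈ T, x = s * τ := by
  have hle : S ≤ Subgroup.normalizer (T : Set X) := fun s hs =>
    mem_normalizer_of_conj_mem fun τ hτ => by rwa [← h.comm τ hτ s hs, mul_inv_cancel_right]
  rw [← SetLike.mem_coe, Subgroup.coe_mul_of_left_le_normalizer_right _ _ hle, Set.mem_mul] at hx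
  obtain ⟨s, hs, τ, hτ, rfl⟩ := hx
  exact ⟨s, hs, τ, hτ, rfl⟩

theorem inf_G {x : X} (hx : x ∈ S ⊔ T) (hxG : x ∈ G) : x ∈ S := by
  obtain ⟨s, hs, τ, hτ, rfl⟩ := mem_sup h hx
  have h1 : τ ∈ G ⊓ T := ⟨by simpa using mul_mem (inv_mem (h.hSG hs)) hxG, hτ⟩
  rw [h.disj, Subgroup.mem_bot] at h1
  rw [h1, mul_one]
  exact hs

theorem isPGroup_sup : IsPGroup 2 (S ⊔ T : Subgroup X) := by
  refine h.two_S.to_sup_of_normal_right' h.two_T ?_
  intro s hs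
  refine mem_normalizer_of_conj_mem fun τ hτ => ?_
  rwa [← h.comm τ hτ s hs, mul_inv_cancel_right]

theorem odd_relIndex_sup : Odd ((S ⊔ T).relIndex (G ⊔ T)) := by
  haveI := h.normal
  have e1 : Nat.card (G ⊔ T : Subgroup X) = Nat.card G * Nat.card T := by
    rw [← CfsgLib.Solvable.card_sup_mul_card_inf G T, h.disj, Subgroup.card_bot, mul_one]
  have e2 : Nat.card (S ⊔ T : Subgroup X) = Nat.card S * Nat.card T := by
    rw [← Nat.card_prod]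
    symm
    refine Nat.card_eq_of_bijective (fun p => ⟨p.1.1 * p.2.1, mul_mem ((le_sup_left : S ≤ S ⊔ T) p.1.2)
      ((le_sup_right : T ≤ S ⊔ T) p.2.2)⟩) ⟨?_, ?_⟩
    · exact Function.Injective.of_comp (f := Subtype.val)
        (Subgroup.mul_injective_of_disjoint (disjoint_iff.2 (le_bot_iff.1
          (h.disj ▸ le_inf (inf_le_left.trans h.hSG) inf_le_right))))
    · rintro ⟨x, hx⟩
      obtain ⟨s, hs, τ, hτ, rfl⟩ := mem_sup h hx
      exact ⟨(⟨s, hs⟩, ⟨τ, hτ⟩), rfl⟩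
  have hle : S ⊔ T ≤ G ⊔ T := sup_le (h.hSG.trans le_sup_left) le_sup_right
  have e3 := Subgroup.relIndex_mul_relIndex ⊥ (S ⊔ T) (G ⊔ T) bot_le hle
  have e4 := Subgroup.relIndex_mul_relIndex ⊥ S G bot_le h.hSG
  simp only [Subgroup.relIndex_bot_left] at e3 e4
  have : (S ⊔ T).relIndex (G ⊔ T) = S.relIndex G := by
    refine Nat.eq_of_mul_eq_mul_left (Nat.card_pos (α := (S ⊔ T : Subgroup X))) ?_
    rw [e3, e1, e2, ← e4]
    ring
  rw [this]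
  exact h.odd_index

/-- A 2-subgroup of `G T` centralising `t` is moved into `S T` by an element of `G` centralising `t`. -/
theorem conj_into_sup {L : Subgroup X} (hL : IsPGroup 2 L) (hLX : L ≤ G ⊔ T) (t : X)
    (htT : ∀ τ ∈ T, τ * t = t * τ) (hts : ∀ s ∈ S, s * t = t * s) (hLt : ∀ x ∈ L, x * t = t * x) :
    ∃ g ∈ G, g * t = t * g ∧ ∀ x ∈ L, g * x * g⁻¹ ∈ S ⊔ T := by
  set M := (G ⊔ T) ⊓ Subgroup.centralizer ({t} : Set X)
  have hPM : S ⊔ T ≤ M := le_inf (sup_le (h.hSG.trans le_sup_left) le_sup_right)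
    (sup_le (fun s hs => Subgroup.mem_centralizer_singleton_iff.2 (hts s hs))
      (fun τ hτ => Subgroup.mem_centralizer_singleton_iff.2 (htT τ hτ)))
  have hodd : Odd ((S ⊔ T).relIndex M) := by
    have := Subgroup.relIndex_mul_relIndex _ M (G ⊔ T) hPM inf_le_left
    exact (odd_relIndex_sup h).of_dvd_nat (Dvd.intro _ this)
  obtain ⟨m, hm, hmL⟩ := conj_into hPM (isPGroup_sup h) hodd
    (le_inf hLX fun x hx => Subgroup.mem_centralizer_singleton_iff.2 (hLt x hx)) hL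
  haveI := h.normal
  obtain ⟨g, hg, τ, hτ, rfl⟩ := Subgroup.mem_sup_of_normal_left.1 hm.1
  have hm' := Subgroup.mem_centralizer_singleton_iff.1 hm.2
  refine ⟨τ⁻¹ * (g * τ), ?_, ?_, fun x hx => ?_⟩
  · have := h.normal.conj_mem g hg τ⁻¹
    rwa [inv_inv, mul_assoc] at this
  · exact (Commute.inv_left (htT τ hτ)).mul_left hm'
  · have h1 := (S ⊔ T).mul_mem ((S ⊔ T).mul_mem (Subgroup.inv_mem _
      ((le_sup_right : T ≤ S ⊔ T) hτ)) (hmL x hx)) ((le_sup_right : T ≤ S ⊔ T) hτ)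
    rwa [show τ⁻¹ * (g * τ * x * (g * τ)⁻¹) * τ = τ⁻¹ * (g * τ) * x * (τ⁻¹ * (g * τ))⁻¹ by group] at h1

/-- At maximal centraliser order an element centralising `R` does not twist `t`. -/
theorem no_twist {U : Set X} {N : ℕ}
    (hU : ∀ t ∈ U, t ∈ T ∧ t * t = 1 ∧ ∀ τ ∈ T, τ * t = t * τ)
    (hmax : ∀ t ∈ U, ∀ s ∈ S, s ≠ 1 → (∃ g ∈ G, g * t * g⁻¹ = s * t) →
      Nat.card (S ⊓ Subgroup.centralizer ({s} : Set X) : Subgroup X) ≤ N)
    {R : Subgroup X} (hRS : R ≤ S) (hRN : Nat.card R = N) {t : X} (ht : t ∈ U) {s : X} (hs : s ∈ R)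
    {c : X} (hc : c ∈ G) (hcR : ∀ r ∈ R, c * r = r * c) (hct : c * t * c⁻¹ = s * t) : s = 1 := by
  by_contra hs1
  haveI : Fact (Nat.Prime 2) := ⟨Nat.prime_two⟩
  obtain ⟨htT, htt, htc⟩ := hU t ht
  have hst : s * t = t * s := (h.comm t htT s (hRS hs)).symm
  have hss : s * s = 1 := by
    have h1 : (c * t * c⁻¹) * (c * t * c⁻¹) = 1 := by
      rw [show c * t * c⁻¹ * (c * t * c⁻¹) = c * (t * t) * c⁻¹ by group, htt]; group
    rwa [hct, mul_assoc, ← mul_assoc t, ← hst, mul_assoc s t t, htt, mul_one] at h1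
  -- replace `c` by a 2-element
  obtain ⟨a, m, hm, ham⟩ := Nat.exists_eq_two_pow_mul_odd (orderOf_pos c).ne'
  set d := c ^ m
  have hd : d ∈ G := pow_mem hc m
  have hdR : ∀ r ∈ R, d * r = r * d := fun r hr => (Commute.pow_left (hcR r hr) m)
  have hpow : ∀ k : ℕ, c ^ k * t * (c ^ k)⁻¹ = s ^ k * t := by
    intro k
    induction k with
    | zero => simp
    | succ k ih =>
      rw [pow_succ' c, show c * c ^ k * t * (c * c ^ k)⁻¹ = c * (c ^ k * t * (c ^ k)⁻¹) * c⁻¹ by group,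
        ih, show c * (s ^ k * t) * c⁻¹ = c * s ^ k * c⁻¹ * (c * t * c⁻¹) by group, hct,
        hcR _ (pow_mem hs k), mul_inv_cancel_right, pow_succ, mul_assoc]
  have hdt : d * t * d⁻¹ = s * t := by
    obtain ⟨j, rfl⟩ := hm
    rw [hpow, pow_succ, pow_mul, pow_two, hss, one_pow, one_mul]
  -- the 2-group generated by `R`, `t` and `d`
  set D := R ⊔ Subgroup.zpowers t
  have hD : IsPGroup 2 D := (isPGroup_sup h).to_le
    (sup_le (hRS.trans le_sup_left)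
      ((Subgroup.zpowers_le.2 htT).trans le_sup_right))
  have hdN : Subgroup.zpowers d ≤ Subgroup.normalizer (D : Set X) := by
    rw [Subgroup.zpowers_le]
    refine mem_normalizer_of_conj_mem fun x hx => ?_
    have hle : D ≤ D.comap (MulAut.conj d).toMonoidHom := by
      refine sup_le (fun r hr => ?_) (Subgroup.zpowers_le.2 ?_)
      · show d * r * d⁻¹ ∈ D
        rw [hdR r hr, mul_inv_cancel_right]
        exact (le_sup_left : R ≤ D) hr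
      · show d * t * d⁻¹ ∈ D
        rw [hdt]
        exact mul_mem ((le_sup_left : R ≤ D) hs)
          ((le_sup_right : Subgroup.zpowers t ≤ D) (Subgroup.mem_zpowers t))
    exact hle hx
  have hZ : IsPGroup 2 (Subgroup.zpowers d) := by
    refine IsPGroup.of_card_dvd_pow (n := a) ?_
    rw [Nat.card_zpowers]
    exact orderOf_dvd_of_pow_eq_one (by rw [← pow_mul, mul_comm, ← ham, pow_orderOf_eq_one])
  set L := Subgroup.zpowers d ⊔ D
  have hL : IsPGroup 2 L := hZ.to_sup_of_normal_right' hD hdN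
  have hLX : L ≤ G ⊔ T := sup_le ((Subgroup.zpowers_le.2 hd).trans le_sup_left)
    (sup_le ((hRS.trans h.hSG).trans le_sup_left) ((Subgroup.zpowers_le.2 htT).trans le_sup_right))
  obtain ⟨x, hx, -, hxL⟩ := conj_into_sup h hL hLX 1 (by simp) (by simp) (by simp)
  have hxR : ∀ r ∈ R, x * r * x⁻¹ ∈ S := fun r hr => inf_G h
    (hxL r ((le_sup_right : D ≤ L) ((le_sup_left : R ≤ D) hr)))
    (h.normal.conj_mem r (h.hSG (hRS hr)) x)
  have htL : t ∈ L := (le_sup_right : D ≤ L)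
    ((le_sup_right : Subgroup.zpowers t ≤ D) (Subgroup.mem_zpowers t))
  have hμG : x * t * x⁻¹ * t⁻¹ ∈ G := by
    rw [show x * t * x⁻¹ * t⁻¹ = x * (t * x⁻¹ * t⁻¹) by group]
    exact mul_mem hx (h.normal.conj_mem _ (inv_mem hx) t)
  set μ := x * t * x⁻¹ * t⁻¹ with hμ
  have hμS : μ ∈ S := inf_G h (mul_mem (hxL t htL) (inv_mem ((le_sup_right : T ≤ S ⊔ T) htT))) hμG
  have hdS : x * d * x⁻¹ ∈ S := inf_G h
    (hxL d ((le_sup_left : Subgroup.zpowers d ≤ L) (Subgroup.mem_zpowers d)))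
    (h.normal.conj_mem d hd x)
  have hxt : x * t * x⁻¹ = μ * t := by rw [hμ]; group
  have hdμ : (x * d * x⁻¹) * μ * (x * d * x⁻¹)⁻¹ ≠ μ := by
    intro he
    apply hs1
    have h1 : (x * d * x⁻¹) * (μ * t) * (x * d * x⁻¹)⁻¹ = μ * t := by
      rw [show (x * d * x⁻¹) * (μ * t) * (x * d * x⁻¹)⁻¹ =
        ((x * d * x⁻¹) * μ * (x * d * x⁻¹)⁻¹) * ((x * d * x⁻¹) * t * (x * d * x⁻¹)⁻¹) by group, he,
        ← h.comm t htT _ hdS, mul_inv_cancel_right]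
    rw [← hxt, show x * d * x⁻¹ * (x * t * x⁻¹) * (x * d * x⁻¹)⁻¹ = x * (d * t * d⁻¹) * x⁻¹ by group,
      hdt, mul_left_inj, mul_right_inj, mul_eq_right] at h1
    exact h1
  have hμ1 : μ ≠ 1 := fun h1 => hdμ (by rw [h1]; group)
  set R' := R.map (MulAut.conj x).toMonoidHom
  have hsub : R' ≤ S ⊓ Subgroup.centralizer ({μ} : Set X) := by
    rintro _ ⟨r, hr, rfl⟩
    refine ⟨hxR r hr, Subgroup.mem_centralizer_singleton_iff.2 ?_⟩
    show x * r * x⁻¹ * μ = μ * (x * r * x⁻¹)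
    have h1 : (x * r * x⁻¹) * (μ * t) = (μ * t) * (x * r * x⁻¹) := by
      rw [← hxt, show x * r * x⁻¹ * (x * t * x⁻¹) = x * (r * t) * x⁻¹ by group,
        ← h.comm t htT r (hRS hr)]
      group
    refine mul_right_cancel (b := t) ?_
    rw [mul_assoc (x * r * x⁻¹) μ t, h1, mul_assoc μ t, h.comm t htT _ (hxR r hr), ← mul_assoc]
  have hR'N : Nat.card R' = N := by rw [card_map_conj, hRN]
  have heq : R' = S ⊓ Subgroup.centralizer ({μ} : Set X) :=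
    Subgroup.eq_of_le_of_card_ge hsub (by rw [hR'N]; exact hmax t ht μ hμS hμ1 ⟨x, hx, hxt⟩)
  have hμR : μ ∈ R' := heq ▸ ⟨hμS, Subgroup.mem_centralizer_singleton_iff.2 rfl⟩
  obtain ⟨r, hr, hre⟩ := hμR
  apply hdμ
  rw [← hre]
  show (x * d * x⁻¹) * (x * r * x⁻¹) * (x * d * x⁻¹)⁻¹ = x * r * x⁻¹
  rw [show (x * d * x⁻¹) * (x * r * x⁻¹) * (x * d * x⁻¹)⁻¹ = x * (d * r * d⁻¹) * x⁻¹ by group,
    hdR r hr, mul_inv_cancel_right]

/-- A fused element gives an abelian twist of maximal centraliser. -/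
theorem exists_twist {U : Set X} (hU : ∀ t ∈ U, t ∈ T ∧ t * t = 1 ∧ ∀ τ ∈ T, τ * t = t * τ)
    (hbad : ∃ t ∈ U, ∃ s ∈ S, s ≠ 1 ∧ ∃ g ∈ G, g * t * g⁻¹ = s * t) :
    ∃ (N : ℕ) (R : Subgroup X) (g : X) (σ : X → X) (t : X),
      (∀ t ∈ U, ∀ s ∈ S, s ≠ 1 → (∃ g ∈ G, g * t * g⁻¹ = s * t) →
        Nat.card (S ⊓ Subgroup.centralizer ({s} : Set X) : Subgroup X) ≤ N) ∧
      Nat.card R = N ∧ R ≤ S ∧ g ∈ G ∧ t ∈ U ∧ σ t ≠ 1 ∧ (∀ r ∈ R, g⁻¹ * r * g ∈ S) ∧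
      ∀ τ ∈ T, σ τ ∈ R ∧ g * τ * g⁻¹ = σ τ * τ ∧ ∀ r ∈ R, σ τ * r = r * σ τ := by
  classical
  let A : Set (X × X) := {p | p.2 ∈ U ∧ p.1 ∈ S ∧ p.1 ≠ 1 ∧ ∃ g ∈ G, g * p.2 * g⁻¹ = p.1 * p.2}
  have hA : A.Nonempty := by
    obtain ⟨t, ht, s, hs, hs1, hg⟩ := hbad
    exact ⟨(s, t), ht, hs, hs1, hg⟩
  obtain ⟨⟨s, t⟩, ⟨ht, hs, hs1, g₀, hg₀, hgt⟩, hmax⟩ := (Set.toFinite A).exists_maximalFor
    (fun p => Nat.card (S ⊓ Subgroup.centralizer ({p.1} : Set X) : Subgroup X)) A hA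
  dsimp only at ht hs hs1 hgt hmax
  obtain ⟨htT, htt, htc⟩ := hU t ht
  set N := Nat.card (S ⊓ Subgroup.centralizer ({s} : Set X) : Subgroup X)
  have hmax' : ∀ t ∈ U, ∀ s' ∈ S, s' ≠ 1 → (∃ g ∈ G, g * t * g⁻¹ = s' * t) →
      Nat.card (S ⊓ Subgroup.centralizer ({s'} : Set X) : Subgroup X) ≤ N := by
    intro t' ht' s' hs' hs1' hg'
    rcases le_total (Nat.card (S ⊓ Subgroup.centralizer ({s'} : Set X) : Subgroup X)) N with h1 | h1
    · exact h1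
    · exact hmax (j := (s', t')) ⟨ht', hs', hs1', hg'⟩ h1
  set R₀ := S ⊓ Subgroup.centralizer ({s} : Set X)
  -- move `R₀ T` into `S T` by an element sending `s t` to `t`
  have hR₀t : ∀ x ∈ R₀ ⊔ T, x * (s * t) = (s * t) * x := by
    intro x hx
    have hle : R₀ ⊔ T ≤ Subgroup.centralizer ({s * t} : Set X) := by
      refine sup_le (fun r hr => ?_) (fun τ hτ => ?_)
      · rw [Subgroup.mem_centralizer_singleton_iff, ← mul_assoc,
          Subgroup.mem_centralizer_singleton_iff.1 hr.2, mul_assoc, ← h.comm t htT r hr.1, mul_assoc]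
      · rw [Subgroup.mem_centralizer_singleton_iff, ← mul_assoc, h.comm τ hτ s hs, mul_assoc,
          htc τ hτ, mul_assoc]
    exact Subgroup.mem_centralizer_singleton_iff.1 (hle hx)
  set L := (R₀ ⊔ T).map (MulAut.conj g₀⁻¹).toMonoidHom
  have hL2 : IsPGroup 2 L := ((isPGroup_sup h).to_le (sup_le_sup_right inf_le_left T)).map _
  have hLX : L ≤ G ⊔ T := by
    rintro _ ⟨x, hx, rfl⟩
    show g₀⁻¹ * x * g₀⁻¹⁻¹ ∈ G ⊔ T
    exact mul_mem (mul_mem ((le_sup_left : G ≤ G ⊔ T) (inv_mem hg₀))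
      (sup_le_sup_right (inf_le_left.trans h.hSG) T hx))
      (inv_mem ((le_sup_left : G ≤ G ⊔ T) (inv_mem hg₀)))
  have hgt' : g₀⁻¹ * (s * t) * g₀ = t := by rw [← hgt]; group
  obtain ⟨g₁, hg₁, hg₁t, hg₁L⟩ := conj_into_sup h hL2 hLX t htc
    (fun s' hs' => (h.comm t htT s' hs').symm) (by
      rintro _ ⟨x, hx, rfl⟩
      show g₀⁻¹ * x * g₀⁻¹⁻¹ * t = t * (g₀⁻¹ * x * g₀⁻¹⁻¹)
      rw [inv_inv]
      conv_lhs => rw [← hgt']
      conv_rhs => rw [← hgt']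
      rw [show g₀⁻¹ * x * g₀ * (g₀⁻¹ * (s * t) * g₀) = g₀⁻¹ * (x * (s * t)) * g₀ by group,
        hR₀t x hx]
      group)
  set g := g₁ * g₀⁻¹ with hgdef
  have hg : g ∈ G := mul_mem hg₁ (inv_mem hg₀)
  have hgP : ∀ x ∈ R₀ ⊔ T, g * x * g⁻¹ ∈ S ⊔ T := fun x hx => by
    have := hg₁L _ (Subgroup.mem_map_of_mem _ hx)
    rwa [MulEquiv.coe_toMonoidHom, MulAut.conj_apply,
      show g₁ * (g₀⁻¹ * x * g₀⁻¹⁻¹) * g₁⁻¹ = g * x * g⁻¹ by rw [hgdef]; group] at this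
  have hgst : g * (s * t) * g⁻¹ = t := by
    rw [show g * (s * t) * g⁻¹ = g₁ * (g₀⁻¹ * (s * t) * g₀) * g₁⁻¹ by rw [hgdef]; group, hgt',
      hg₁t, mul_inv_cancel_right]
  set R := R₀.map (MulAut.conj g).toMonoidHom
  have hRS : R ≤ S := by
    rintro _ ⟨r, hr, rfl⟩
    exact inf_G h (hgP r ((le_sup_left : R₀ ≤ R₀ ⊔ T) hr))
      (h.normal.conj_mem r (h.hSG hr.1) g)
  let σ : X → X := fun τ => g * τ * g⁻¹ * τ⁻¹
  have hσS : ∀ τ ∈ T, σ τ ∈ S := by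
    intro τ hτ
    refine inf_G h (mul_mem (hgP τ ((le_sup_right : T ≤ R₀ ⊔ T) hτ))
      (inv_mem ((le_sup_right : T ≤ S ⊔ T) hτ))) ?_
    show g * τ * g⁻¹ * τ⁻¹ ∈ G
    rw [show g * τ * g⁻¹ * τ⁻¹ = g * (τ * g⁻¹ * τ⁻¹) by group]
    exact mul_mem hg (h.normal.conj_mem _ (inv_mem hg) τ)
  have hσc : ∀ τ ∈ T, ∀ r ∈ R, σ τ * r = r * σ τ := by
    rintro τ hτ _ ⟨r, hr, rfl⟩
    show g * τ * g⁻¹ * τ⁻¹ * (g * r * g⁻¹) = g * r * g⁻¹ * (g * τ * g⁻¹ * τ⁻¹)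
    have h1 : τ⁻¹ * (g * r * g⁻¹) = g * r * g⁻¹ * τ⁻¹ :=
      h.comm τ⁻¹ (inv_mem hτ) _ (hRS ⟨r, hr, rfl⟩)
    rw [mul_assoc (g * τ * g⁻¹), h1, ← mul_assoc, ← mul_assoc (g * r * g⁻¹) (g * τ * g⁻¹)]
    congr 1
    rw [show g * τ * g⁻¹ * (g * r * g⁻¹) = g * (τ * r) * g⁻¹ by group, h.comm τ hτ r hr.1]
    group
  have hgs : g * s * g⁻¹ * σ t = 1 := by
    show g * s * g⁻¹ * (g * t * g⁻¹ * t⁻¹) = 1
    rw [show g * s * g⁻¹ * (g * t * g⁻¹ * t⁻¹) = g * (s * t) * g⁻¹ * t⁻¹ by group, hgst,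
      mul_inv_cancel]
  have hsR : g * s * g⁻¹ ∈ R :=
    Subgroup.mem_map_of_mem _ (show s ∈ R₀ from ⟨hs, Subgroup.mem_centralizer_singleton_iff.2 rfl⟩)
  have hσtR : σ t ∈ R := by
    rw [eq_inv_of_mul_eq_one_right hgs]
    exact inv_mem hsR
  have hσt1 : σ t ≠ 1 := by
    intro h1
    rw [h1, mul_one, conj_eq_one_iff] at hgs
    exact hs1 hgs
  have hsub : R ≤ S ⊓ Subgroup.centralizer ({σ t} : Set X) := fun r hr =>
    ⟨hRS hr, Subgroup.mem_centralizer_singleton_iff.2 (hσc t htT r hr).symm⟩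
  have hRN : Nat.card R = N := card_map_conj R₀ g
  have heq : R = S ⊓ Subgroup.centralizer ({σ t} : Set X) :=
    Subgroup.eq_of_le_of_card_ge hsub (by
      rw [hRN]
      exact hmax' t ht _ (hσS t htT) hσt1 ⟨g, hg, by show _ = g * t * g⁻¹ * t⁻¹ * t; group⟩)
  refine ⟨N, R, g, σ, t, hmax', hRN, hRS, hg, ht, hσt1, ?_, fun τ hτ => ⟨?_, ?_, hσc τ hτ⟩⟩
  · rintro _ ⟨r, hr, rfl⟩
    show g⁻¹ * (g * r * g⁻¹) * g ∈ S
    rw [show g⁻¹ * (g * r * g⁻¹) * g = r by group]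
    exact hr.1
  · rw [heq]
    exact ⟨hσS τ hτ, Subgroup.mem_centralizer_singleton_iff.2 (hσc τ hτ _ hσtR)⟩
  · show g * τ * g⁻¹ = g * τ * g⁻¹ * τ⁻¹ * τ
    group

/-- An involution of `Z(T)` with no twist centralises `G`. -/
theorem centralizes_of_no_fusion (hO : ∀ K : Subgroup X, K ≤ G →
      (∀ k ∈ K, ∀ g ∈ G, g * k * g⁻¹ ∈ K) → Odd (Nat.card K) → K = ⊥)
    {t : X} (htT : t ∈ T) (htt : t * t = 1) (ht1 : t ≠ 1) (htc : ∀ τ ∈ T, τ * t = t * τ)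
    (hno : ∀ s ∈ S, (∃ g ∈ G, g * t * g⁻¹ = s * t) → s = 1) : ∀ g ∈ G, g * t = t * g := by
  haveI : Fact (Nat.Prime 2) := ⟨Nat.prime_two⟩
  haveI := h.normal
  set Y := G ⊔ T
  let P : Sylow 2 Y := ((isPGroup_sup h).comap_subtype (K := Y)).toSylow (fun hd =>
    Nat.not_even_iff_odd.2 (odd_relIndex_sup h) (even_iff_two_dvd.2 hd))
  set t' : Y := ⟨t, (le_sup_right : T ≤ Y) htT⟩
  have ho : orderOf t' = 2 := by
    rw [← Subgroup.orderOf_coe]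
    exact orderOf_eq_prime (by rw [pow_two, htt]) ht1
  have hiso : IsIsolatedInvolution t' := by
    refine isolated_of_sylow P ho ((le_sup_right : T ≤ S ⊔ T) htT) fun y hy => ?_
    obtain ⟨x, hx⟩ := y
    obtain ⟨g, hg, τ, hτ, rfl⟩ := Subgroup.mem_sup_of_normal_left.1 hx
    apply Subtype.ext
    show g * τ * t * (g * τ)⁻¹ = t
    have hy' : g * τ * t * (g * τ)⁻¹ ∈ S ⊔ T := hy
    rw [show g * τ * t * (g * τ)⁻¹ = g * t * g⁻¹ by
      rw [mul_assoc g τ t, htc τ hτ]; group] at hy' ⊢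
    have hμ : g * t * g⁻¹ * t⁻¹ ∈ S := inf_G h
      (mul_mem hy' (inv_mem ((le_sup_right : T ≤ S ⊔ T) htT))) (by
        rw [show g * t * g⁻¹ * t⁻¹ = g * (t * g⁻¹ * t⁻¹) by group]
        exact mul_mem hg (h.normal.conj_mem _ (inv_mem hg) t))
    exact mul_inv_eq_one.1 (hno _ hμ ⟨g, hg, by group⟩)
  intro g hg
  set y : Y := ⟨g, (le_sup_left : G ≤ Y) hg⟩
  have hz := zstar hiso y
  set O := oddCore Y
  haveI hOn : O.Normal := by
    have := CfsgLib.Cores.pPrimeCore_characteristic (G := Y) 2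
    exact inferInstanceAs (pPrimeCore 2 Y).Normal
  have hK := hO (O.map Y.subtype ⊓ G) inf_le_right (fun k hk g' hg' => by
      obtain ⟨⟨z, hz', rfl⟩, hkG⟩ := hk
      exact ⟨⟨_, hOn.conj_mem z hz' ⟨g', (le_sup_left : G ≤ Y) hg'⟩, rfl⟩,
        h.normal.conj_mem _ hkG g'⟩)
    ((CfsgLib.Cores.odd_card_oddCore (G := Y)).of_dvd_nat
      ((Subgroup.card_dvd_of_le inf_le_left).trans
        (Subgroup.card_map_of_injective (Subgroup.subtype_injective Y)).dvd))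
  have h1 : t * g * t⁻¹ * g⁻¹ ∈ O.map Y.subtype ⊓ G :=
    ⟨⟨_, hz, rfl⟩, G.mul_mem (h.normal.conj_mem g hg t) (G.inv_mem hg)⟩
  rw [hK, Subgroup.mem_bot, mul_inv_eq_one, mul_inv_eq_iff_eq_mul] at h1
  exact h1.symm

end CfsgLib.Invol.FixedAut
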