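import Cfsg.Agent.Lib.Invol.FixedPointAutMain

/-!
# Glauberman's theorem on automorphisms fixing a Sylow 2-subgroup, for a group of automorphisms
-/

set_option autoImplicit false

namespace CfsgLib.Invol.FixedAut

open Cfsg

universe u

/-- The automorphisms fixing a Sylow 2-subgroup pointwise have abelian Sylow 2-subgroups with normal
complements. -/
theorem sylow_abelian_complement {G : Type u} [Group G] [Finite G]
    (hO : ∀ N : Subgroup G, N.Normal → Odd (Nat.card N) → N = ⊥) (S : Sylow 2 G)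
    (C : Subgroup (MulAut G)) (hC : ∀ φ : MulAut G, φ ∈ C ↔ ∀ s : G, s ∈ S → φ s = s)
    (T : Sylow 2 ↥C) :
    (∀ a b : ↥T, a * b = b * a) ∧
      ∃ N : Subgroup ↥C, N.Normal ∧ Odd (Nat.card N) ∧ Subgroup.IsComplement' N (T : Subgroup ↥C) := by
  classical
  haveI : Fact (Nat.Prime 2) := ⟨Nat.prime_two⟩
  haveI : Finite (MulAut G) := Finite.of_injective (fun φ : MulAut G => (φ : G → G))
    DFunLike.coe_injective
  haveI : Finite (G ⋊[C.subtype] ↥C) := Finite.of_equiv _ SemidirectProduct.equivProd.symm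
  let X := G ⋊[C.subtype] ↥C
  let ι : G →* X := SemidirectProduct.inl
  let κ : ↥C →* X := SemidirectProduct.inr
  have hconj : ∀ (c : ↥C) (g : G), κ c * ι g * (κ c)⁻¹ = ι ((c : MulAut G) g) := fun c g => by
    rw [← map_inv]; exact (SemidirectProduct.inl_aut c g).symm
  have hfix : ∀ (c : ↥C) (s : G), s ∈ S → κ c * ι s = ι s * κ c := fun c s hs => by
    rw [← mul_inv_eq_iff_eq_mul, hconj, (hC _).1 c.2 s hs]
  have hset : Setup ι.range ((S : Subgroup G).map ι) ((T : Subgroup ↥C).map κ) := by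
    refine ⟨?_, Subgroup.map_le_range ι _, S.2.map _, T.2.map _, ?_, ?_, ?_⟩
    · rw [SemidirectProduct.range_inl_eq_ker_rightHom]; infer_instance
    · rw [eq_bot_iff]
      rintro _ ⟨⟨g, hg⟩, ⟨c, -, rfl⟩⟩
      have := congrArg SemidirectProduct.rightHom hg
      have hc : c = 1 := by
        exact ((congrArg SemidirectProduct.right hg).symm :
          (κ c).right = (ι g).right)
      rw [Subgroup.mem_bot, hc, map_one]
    · rintro _ ⟨c, -, rfl⟩ _ ⟨s, hs, rfl⟩
      exact hfix c s hs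
    · rw [MonoidHom.range_eq_map,
        Subgroup.relIndex_map_map_of_injective _ _ (SemidirectProduct.inl_injective (φ := C.subtype)),
        Subgroup.relIndex_top_right, ← Nat.not_even_iff_odd, even_iff_two_dvd]
      exact S.not_dvd_index
  have hOX : ∀ K : Subgroup X, K ≤ ι.range → (∀ k ∈ K, ∀ g ∈ ι.range, g * k * g⁻¹ ∈ K) →
      Odd (Nat.card K) → K = ⊥ := by
    intro K hK hKn hKodd
    have h1 := hO (K.comap ι) ⟨fun x hx g => by
      show ι (g * x * g⁻¹) ∈ K
      rw [map_mul, map_mul, map_inv]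
      exact hKn _ hx _ ⟨g, rfl⟩⟩ (by
        rwa [← Subgroup.card_map_of_injective (SemidirectProduct.inl_injective (φ := C.subtype)),
          Subgroup.map_comap_eq_self hK])
    rw [← Subgroup.map_comap_eq_self hK, h1, Subgroup.map_bot]
  have hfX : ∀ τ ∈ (T : Subgroup ↥C).map κ, (∀ g ∈ ι.range, g * τ = τ * g) → τ = 1 := by
    rintro _ ⟨c, -, rfl⟩ hc
    have : c = 1 := Subtype.ext (MulEquiv.ext fun g => (SemidirectProduct.inl_injective (φ := C.subtype)) (by
      show ι ((c : MulAut G) g) = ι g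
      rw [← hconj, ← hc _ ⟨g, rfl⟩, mul_inv_cancel_right]))
    rw [this, map_one]
  have hab : ∀ a b : ↥T, a * b = b * a := fun a b => Subtype.ext ((SemidirectProduct.inr_injective (φ := C.subtype)) (by
    show κ ((a : ↥C) * b) = κ ((b : ↥C) * a)
    rw [map_mul, map_mul]
    exact abelian hset hOX hfX _ (Subgroup.mem_map_of_mem _ a.2) _ (Subgroup.mem_map_of_mem _ b.2)))
  refine ⟨hab, ?_⟩
  have hNC : Subgroup.normalizer ((T : Subgroup ↥C) : Set ↥C) ≤
      Subgroup.centralizer ((T : Subgroup ↥C) : Set ↥C) := by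
    intro n hn
    obtain ⟨a, m, hm, ham⟩ := Nat.exists_eq_two_pow_mul_odd (orderOf_pos n).ne'
    -- the odd part
    have h1 : n ^ 2 ^ a ∈ Subgroup.centralizer ((T : Subgroup ↥C) : Set ↥C) := by
      have hn' := pow_mem hn (2 ^ a)
      have hodd : Odd (orderOf (n ^ 2 ^ a)) := hm.of_dvd_nat (orderOf_dvd_of_pow_eq_one (by
        rw [← pow_mul, ← ham, pow_orderOf_eq_one]))
      intro x hx
      apply (SemidirectProduct.inr_injective (φ := C.subtype))
      show κ (x * n ^ 2 ^ a) = κ (n ^ 2 ^ a * x)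
      rw [map_mul κ x, map_mul κ (n ^ 2 ^ a)]
      refine (centralized hset hOX hfX (k := κ (n ^ 2 ^ a)) ?_ ?_ ?_ ?_ _
        (Subgroup.mem_map_of_mem _ hx)).symm
      · rintro _ ⟨s, hs, rfl⟩
        exact hfix _ s hs
      · rintro _ ⟨g, rfl⟩
        exact ⟨_, (hconj _ g).symm⟩
      · rintro _ ⟨τ, hτ, rfl⟩
        refine ⟨_, (Subgroup.mem_normalizer_iff.1 hn' τ).1 hτ, ?_⟩
        rw [map_mul, map_mul, map_inv]
      · rwa [orderOf_injective κ (SemidirectProduct.inr_injective (φ := C.subtype))]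
    -- the 2-part
    have h2 : n ^ m ∈ Subgroup.centralizer ((T : Subgroup ↥C) : Set ↥C) := by
      have hn' := pow_mem hn m
      have hp : IsPGroup 2 (Subgroup.zpowers (n ^ m)) := IsPGroup.of_card_dvd_pow (n := a) (by
        rw [Nat.card_zpowers]
        exact orderOf_dvd_of_pow_eq_one (by rw [← pow_mul, mul_comm, ← ham, pow_orderOf_eq_one]))
      have hle := T.3 (hp.to_sup_of_normal_right' T.2 (Subgroup.zpowers_le.2 hn')) le_sup_right
      have hmem : n ^ m ∈ (T : Subgroup ↥C) :=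
        hle.le ((le_sup_left : Subgroup.zpowers (n ^ m) ≤ _) (Subgroup.mem_zpowers _))
      intro x hx
      exact congrArg Subtype.val (hab ⟨x, hx⟩ ⟨_, hmem⟩)
    have hco : Nat.Coprime (2 ^ a) m := (Nat.coprime_two_left.2 hm).pow_left a
    have hbez := Nat.gcd_eq_gcd_ab (2 ^ a) m
    rw [hco.gcd_eq_one] at hbez
    rw [← zpow_one n, show (1 : ℤ) = _ from hbez, zpow_add, zpow_mul, zpow_mul, zpow_natCast,
      zpow_natCast]
    exact mul_mem (zpow_mem h1 _) (zpow_mem h2 _)
  refine ⟨(MonoidHom.transferSylow T hNC).ker, inferInstance, ?_,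
    MonoidHom.ker_transferSylow_isComplement' T hNC⟩
  rw [← Nat.not_even_iff_odd, even_iff_two_dvd]
  exact MonoidHom.not_dvd_card_ker_transferSylow T hNC

/-- With the odd order theorem, the automorphisms fixing a Sylow 2-subgroup form a solvable group. -/
theorem solvable_of_oddOrder
    (hFT : ∀ (H : Type u) [Group H] [Finite H], Odd (Nat.card H) → Group.IsSolvable H)
    {G : Type u} [Group G] [Finite G] (hO : ∀ N : Subgroup G, N.Normal → Odd (Nat.card N) → N = ⊥)
    (S : Sylow 2 G) (C : Subgroup (MulAut G))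
    (hC : ∀ φ : MulAut G, φ ∈ C ↔ ∀ s : G, s ∈ S → φ s = s) :
    (∀ T : Sylow 2 ↥C, (∀ a b : ↥T, a * b = b * a) ∧ ∃ N : Subgroup ↥C, N.Normal ∧
      Subgroup.IsComplement' N (T : Subgroup ↥C)) ∧ Group.IsSolvable ↥C := by
  haveI : Fact (Nat.Prime 2) := ⟨Nat.prime_two⟩
  haveI : Finite (MulAut G) := Finite.of_injective (fun φ : MulAut G => (φ : G → G))
    DFunLike.coe_injective
  refine ⟨fun T => ?_, ?_⟩
  · obtain ⟨h1, N, hN, -, h2⟩ := sylow_abelian_complement hO S C hC T
    exact ⟨h1, N, hN, h2⟩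
  obtain ⟨T⟩ := (inferInstance : Nonempty (Sylow 2 ↥C))
  obtain ⟨hab, N, hN, hodd, hNT⟩ := sylow_abelian_complement hO S C hC T
  haveI := hN
  haveI : Group.IsSolvable N := hFT N hodd
  haveI : Group.IsSolvable (T : Subgroup ↥C) := Group.isSolvable_of_comm hab
  haveI : Group.IsSolvable (↥C ⧸ N) := Group.isSolvable_of_surjective
    (f := (QuotientGroup.mk' N).comp (T : Subgroup ↥C).subtype) (by
      intro x
      obtain ⟨y, rfl⟩ := QuotientGroup.mk'_surjective N x
      obtain ⟨⟨⟨n, hn⟩, t⟩, rfl⟩ := hNT.2 y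
      refine ⟨t, ?_⟩
      simp [QuotientGroup.eq_one_iff n |>.2 hn])
  exact (Group.isSolvable_iff_subgroup_quotient N).2 ⟨inferInstance, inferInstance⟩

end CfsgLib.Invol.FixedAut
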