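import Cfsg.Agent.Lib.Invol.FixedPointAut
import Cfsg.Agent.Lib.PGroup.Basic

/-!
# Glauberman's theorem on automorphisms fixing a Sylow 2-subgroup: conclusion
-/

set_option autoImplicit false

namespace CfsgLib.Invol.FixedAut

open Cfsg
open scoped commutatorElement

variable {X : Type*} [Group X] [Finite X] {G S T : Subgroup X} (h : Setup G S T)
  (hO : ∀ K : Subgroup X, K ≤ G → (∀ k ∈ K, ∀ g ∈ G, g * k * g⁻¹ ∈ K) → Odd (Nat.card K) → K = ⊥)
  (hf : ∀ τ ∈ T, (∀ g ∈ G, g * τ = τ * g) → τ = 1)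
include h hO hf

/-- If no twist survives on a set of central involutions, that set is trivial. -/
theorem eq_one_of_twist {U : Set X} (hU : ∀ t ∈ U, t ∈ T ∧ t * t = 1 ∧ ∀ τ ∈ T, τ * t = t * τ)
    (hkill : ∀ (N : ℕ) (R : Subgroup X) (g : X) (σ : X → X),
      (∀ t ∈ U, ∀ s ∈ S, s ≠ 1 → (∃ g ∈ G, g * t * g⁻¹ = s * t) →
        Nat.card (S ⊓ Subgroup.centralizer ({s} : Set X) : Subgroup X) ≤ N) →
      Nat.card R = N → R ≤ S → g ∈ G → (∀ r ∈ R, g⁻¹ * r * g ∈ S) →
      (∀ τ ∈ T, σ τ ∈ R ∧ g * τ * g⁻¹ = σ τ * τ ∧ ∀ r ∈ R, σ τ * r = r * σ τ) →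
      ∀ t ∈ U, σ t = 1) : ∀ t ∈ U, t = 1 := by
  intro t ht
  obtain ⟨htT, htt, htc⟩ := hU t ht
  by_contra ht1
  refine ht1 (hf t htT (centralizes_of_no_fusion h hO htT htt ht1 htc fun s hs hg => ?_))
  by_contra hs1
  obtain ⟨N, R, g, σ, t', h1, h2, h3, h4, ht', hσ, h5, h6⟩ :=
    exists_twist h hU ⟨t, ht, s, hs, hs1, hg⟩
  exact hσ (hkill N R g σ h1 h2 h3 h4 h5 h6 t' ht')

/-- The group `T` is abelian. -/
theorem abelian : ∀ a ∈ T, ∀ b ∈ T, a * b = b * a := by
  haveI : Fact (Nat.Prime 2) := ⟨Nat.prime_two⟩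
  have hbot : commutator (T : Subgroup X) = ⊥ := by
    by_contra hne
    obtain ⟨z, hz, hz1⟩ := (Subgroup.bot_or_exists_ne_one
      (commutator (T : Subgroup X) ⊓ Subgroup.center (T : Subgroup X))).resolve_left
        (CfsgLib.PGroup.inf_center_ne_bot (p := 2) h.two_T _ hne)
    obtain ⟨k, hk⟩ := h.two_T z
    obtain ⟨w, hw, hw1, hww⟩ : ∃ w ∈ commutator (T : Subgroup X) ⊓ Subgroup.center (T : Subgroup X),
        w ≠ 1 ∧ w * w = 1 := by
      induction k generalizing z with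
      | zero => exact absurd (by simpa using hk) hz1
      | succ k ih =>
        by_cases hzz : z * z = 1
        · exact ⟨z, hz, hz1, hzz⟩
        · exact ih (z * z) (mul_mem hz hz) hzz (by rw [← pow_two, ← pow_mul, ← pow_succ', hk])
    apply hw1
    refine Subtype.ext (eq_one_of_twist h hO hf (U := {(w : X)}) ?_ ?_ _ rfl)
    · rintro t rfl
      exact ⟨w.2, congrArg Subtype.val hww,
        fun τ hτ => congrArg Subtype.val (Subgroup.mem_center_iff.1 hw.2 ⟨τ, hτ⟩)⟩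
    · rintro N R g σ - - hRS hg - hσ t rfl
      let f : (T : Subgroup X) →* X := MonoidHom.mk' (fun τ => σ τ) fun a b => by
        apply mul_right_cancel (b := ((a * b : (T : Subgroup X)) : X))
        rw [← (hσ _ (a * b).2).2.1, Subgroup.coe_mul,
          show g * ((a : X) * b) * g⁻¹ = (g * a * g⁻¹) * (g * b * g⁻¹) by group, (hσ _ a.2).2.1,
          (hσ _ b.2).2.1, mul_assoc (σ a), ← mul_assoc (a : X) (σ b),
          h.comm a a.2 _ (hRS (hσ _ b.2).1)]
        simp only [mul_assoc]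
      have hker : commutator (T : Subgroup X) ≤ f.ker := by
        rw [commutator_def, Subgroup.commutator_le]
        intro a _ b _
        rw [MonoidHom.mem_ker, map_commutatorElement, commutatorElement_eq_one_iff_mul_comm]
        exact (hσ _ a.2).2.2 _ (hσ _ b.2).1
      exact hker hw.1
  intro a ha b hb
  have h1 : ⁅(⟨a, ha⟩ : (T : Subgroup X)), (⟨b, hb⟩ : (T : Subgroup X))⁆ ∈ commutator (T : Subgroup X) :=
    Subgroup.commutator_mem_commutator (Subgroup.mem_top _) (Subgroup.mem_top _)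
  rw [hbot, Subgroup.mem_bot, commutatorElement_eq_one_iff_mul_comm] at h1
  exact congrArg Subtype.val h1

/-- An element of odd order fixing `S` and normalising `T` centralises `T`. -/
theorem centralized {k : X} (hkS : ∀ s ∈ S, k * s = s * k) (hkG : ∀ g ∈ G, k * g * k⁻¹ ∈ G)
    (hkT : ∀ τ ∈ T, k * τ * k⁻¹ ∈ T) (hodd : Odd (orderOf k)) : ∀ τ ∈ T, k * τ = τ * k := by
  haveI : Fact (Nat.Prime 2) := ⟨Nat.prime_two⟩
  have hab := abelian h hO hf
  let f : X → X := fun w => k * w * k⁻¹ * w⁻¹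
  have hfT : ∀ w ∈ T, f w ∈ T := fun w hw => mul_mem (hkT w hw) (inv_mem hw)
  have hf2 : ∀ w ∈ T, w * w = 1 → f w * f w = 1 := fun w hw hww => by
    have hc : Commute (k * w * k⁻¹) w⁻¹ := hab _ (hkT w hw) _ (inv_mem hw)
    show k * w * k⁻¹ * w⁻¹ * (k * w * k⁻¹ * w⁻¹) = 1
    rw [← pow_two, hc.mul_pow, inv_pow, pow_two, pow_two, hww, inv_one, mul_one,
      show k * w * k⁻¹ * (k * w * k⁻¹) = k * (w * w) * k⁻¹ by group, hww]
    group
  -- a fixed value of `f` on an involution is trivial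
  have hfix : ∀ w ∈ T, f w * f w = 1 → f (f w) = 1 → f w = 1 := by
    intro w hw h2 hff
    have hkf : k * f w * k⁻¹ = f w := mul_inv_eq_one.1 hff
    have hiter : ∀ i : ℕ, k ^ i * w * (k ^ i)⁻¹ = f w ^ i * w := by
      intro i
      induction i with
      | zero => simp
      | succ i ih =>
        rw [pow_succ' k, show k * k ^ i * w * (k * k ^ i)⁻¹ = k * (k ^ i * w * (k ^ i)⁻¹) * k⁻¹ by group,
          ih, show k * (f w ^ i * w) * k⁻¹ = (k * f w * k⁻¹) ^ i * (k * w * k⁻¹) by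
            rw [conj_pow]; group, hkf, pow_succ, mul_assoc (f w ^ i) (f w) w]
        congr 1
        show k * w * k⁻¹ = k * w * k⁻¹ * w⁻¹ * w
        group
    have h3 := hiter (orderOf k)
    rw [pow_orderOf_eq_one, one_mul, inv_one, mul_one] at h3
    obtain ⟨j, hj⟩ := hodd
    rw [hj, pow_succ, pow_mul, pow_two, h2, one_pow, one_mul] at h3
    exact mul_eq_right.1 h3.symm
  -- involutions are fixed
  have hU : ∀ w ∈ T, w * w = 1 → f w = 1 := by
    intro w₀ hw₀ hww₀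
    refine eq_one_of_twist h hO hf
      (U := {t | ∃ w ∈ T, w * w = 1 ∧ f w = t}) ?_ ?_ _ ⟨w₀, hw₀, hww₀, rfl⟩
    · rintro _ ⟨w, hw, hww, rfl⟩
      exact ⟨hfT w hw, hf2 w hw hww, fun τ hτ => hab τ hτ _ (hfT w hw)⟩
    · intro N R g σ hmax hRN hRS hg hgR hσ
      set U : Set X := {t | ∃ w ∈ T, w * w = 1 ∧ f w = t}
      have hUk : ∀ u ∈ U, k * u * k⁻¹ ∈ U := by
        rintro _ ⟨w, hw, hww, rfl⟩
        refine ⟨k * w * k⁻¹, hkT w hw,
          by rw [show k * w * k⁻¹ * (k * w * k⁻¹) = k * (w * w) * k⁻¹ by group, hww]; group, ?_⟩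
        show k * (k * w * k⁻¹) * k⁻¹ * (k * w * k⁻¹)⁻¹ = k * (k * w * k⁻¹ * w⁻¹) * k⁻¹
        group
      have hUU : ∀ t ∈ U, ∃ u ∈ U, f u = t := by
        have hmaps : Set.MapsTo f U U := by
          rintro _ ⟨w, hw, hww, rfl⟩
          exact ⟨f w, hfT w hw, hf2 w hw hww, rfl⟩
        have hinj : Set.InjOn f U := by
          rintro _ ⟨a, ha, haa, rfl⟩ _ ⟨b, hb, hbb, rfl⟩ he
          have hhom : ∀ x ∈ T, ∀ y ∈ T, f (x * y) = f x * f y := by
            intro x hx y hy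
            have hc : Commute (k * y * k⁻¹ * y⁻¹) x⁻¹ := hab _ (hfT y hy) _ (inv_mem hx)
            show k * (x * y) * k⁻¹ * (x * y)⁻¹ = k * x * k⁻¹ * x⁻¹ * (k * y * k⁻¹ * y⁻¹)
            rw [mul_assoc (k * x * k⁻¹) x⁻¹, ← hc.eq]
            group
          have hab2 : (a * b) * (a * b) = 1 := by
            rw [← pow_two, Commute.mul_pow (hab a ha b hb), pow_two, pow_two, haa, hbb, one_mul]
          have h1 := hfix _ (mul_mem ha hb) (hf2 _ (mul_mem ha hb) hab2) (by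
            rw [hhom a ha b hb, hhom _ (hfT a ha) _ (hfT b hb), he]
            exact hf2 (f b) (hfT b hb) (hf2 b hb hbb))
          rw [hhom a ha b hb] at h1
          rw [eq_inv_of_mul_eq_one_left h1]
          exact (eq_inv_of_mul_eq_one_left (hf2 b hb hbb)).symm
        exact fun t ht => (((Set.toFinite U).surjOn_iff_bijOn_of_mapsTo hmaps).mpr
          ⟨hmaps, hinj, ((Set.toFinite U).injOn_iff_bijOn_of_mapsTo hmaps).1 hinj |>.surjOn⟩) ht
      -- the twist is invariant under `k`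
      have hinv : ∀ u ∈ U, σ (k * u * k⁻¹) = σ u := by
        intro u hu
        obtain ⟨w, hw, hww, rfl⟩ := hu
        have huT := hfT w hw
        obtain ⟨h1, h2, h3⟩ := hσ _ huT
        obtain ⟨h1', h2', h3'⟩ := hσ _ (hkT _ huT)
        set u := f w
        set u' := k * u * k⁻¹
        set c := k * g * k⁻¹ * g⁻¹
        have hc : c ∈ G := mul_mem (hkG g hg) (inv_mem hg)
        have hcR : ∀ r ∈ R, c * r = r * c := by
          intro r hr
          have e1 := hkS _ (hgR r hr)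
          have e2 := hkS r (hRS hr)
          show k * g * k⁻¹ * g⁻¹ * r = r * (k * g * k⁻¹ * g⁻¹)
          calc k * g * k⁻¹ * g⁻¹ * r = k * g * k⁻¹ * (g⁻¹ * r * g) * g⁻¹ := by group
            _ = k * g * k⁻¹ * (g⁻¹ * r * g * k) * k⁻¹ * g⁻¹ := by group
            _ = k * g * k⁻¹ * (k * (g⁻¹ * r * g)) * k⁻¹ * g⁻¹ := by rw [e1]
            _ = k * r * g * k⁻¹ * g⁻¹ := by group
            _ = r * k * g * k⁻¹ * g⁻¹ := by rw [e2]
            _ = r * (k * g * k⁻¹ * g⁻¹) := by group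
        have hct : c * u' * c⁻¹ = (σ u')⁻¹ * σ u * u' := by
          have e : (k * g * k⁻¹) * u' * (k * g * k⁻¹)⁻¹ = σ u * u' := by
            rw [show (k * g * k⁻¹) * u' * (k * g * k⁻¹)⁻¹ = k * (g * u * g⁻¹) * k⁻¹ by
              show (k * g * k⁻¹) * (k * u * k⁻¹) * (k * g * k⁻¹)⁻¹ = _; group, h2, ← mul_assoc,
              hkS _ (hRS h1)]
            show σ u * k * u * k⁻¹ = σ u * (k * u * k⁻¹)
            group
          have e' : g⁻¹ * (σ u' * u') * g = u' := by rw [← h2']; group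
          have e'' : c * (σ u' * u') * c⁻¹ = σ u * u' := by
            rw [show c * (σ u' * u') * c⁻¹ =
              (k * g * k⁻¹) * (g⁻¹ * (σ u' * u') * g) * (k * g * k⁻¹)⁻¹ by
                show (k * g * k⁻¹ * g⁻¹) * (σ u' * u') * (k * g * k⁻¹ * g⁻¹)⁻¹ = _
                group, e', e]
          rw [show c * (σ u' * u') * c⁻¹ = c * σ u' * c⁻¹ * (c * u' * c⁻¹) by group, hcR _ h1',
            mul_inv_cancel_right] at e''
          rw [eq_inv_mul_of_mul_eq e'', mul_assoc]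
        have h4 := no_twist h (fun t ht => ⟨?_, ?_, ?_⟩) hmax hRS hRN (hUk u ⟨w, hw, hww, rfl⟩)
          (mul_mem (inv_mem h1') h1) hc hcR hct
        · exact inv_mul_eq_one.1 h4
        all_goals obtain ⟨w', hw', hww', rfl⟩ := ht
        · exact hfT w' hw'
        · exact hf2 w' hw' hww'
        · exact fun τ hτ => hab τ hτ _ (hfT w' hw')
      intro t ht
      obtain ⟨u, hu, rfl⟩ := hUU t ht
      obtain ⟨w, hw, hww, rfl⟩ := hu
      set u := f w
      have huT := hfT w hw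
      obtain ⟨h1, h2, h3⟩ := hσ _ (hkT u huT)
      obtain ⟨h1', h2', h3'⟩ := hσ u huT
      obtain ⟨h1'', h2'', -⟩ := hσ _ (hfT u huT)
      have e : σ (k * u * k⁻¹) = σ (f u) * σ u := by
        apply mul_right_cancel (b := k * u * k⁻¹)
        rw [← h2, show g * (k * u * k⁻¹) * g⁻¹ = g * f u * g⁻¹ * (g * u * g⁻¹) by
          show _ = g * (k * u * k⁻¹ * u⁻¹) * g⁻¹ * (g * u * g⁻¹); group, h2', h2'',
          mul_assoc (σ (f u)), ← mul_assoc (f u) (σ u), h.comm (f u) (hfT u huT) _ (hRS h1'),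
          show k * u * k⁻¹ = f u * u by show _ = k * u * k⁻¹ * u⁻¹ * u; group]
        simp only [mul_assoc]
      rw [hinv u ⟨w, hw, hww, rfl⟩, eq_comm, mul_eq_right] at e
      exact e
  -- all of `T`
  have main : ∀ n : ℕ, ∀ w ∈ T, w ^ 2 ^ n = 1 → f w = 1 := by
    intro n
    induction n with
    | zero => intro w _ h1; rw [pow_zero, pow_one] at h1; subst h1; simp [f]
    | succ n ih =>
      intro w hw h1
      have h2 : f (w * w) = 1 := ih _ (mul_mem hw hw) (by rw [← pow_two, ← pow_mul, ← pow_succ', h1])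
      have h3 : f w * f w = 1 := by
        have hc : Commute (k * w * k⁻¹) w⁻¹ := hab _ (hkT w hw) _ (inv_mem hw)
        rw [← h2]
        show (k * w * k⁻¹ * w⁻¹) * (k * w * k⁻¹ * w⁻¹) = k * (w * w) * k⁻¹ * (w * w)⁻¹
        rw [← pow_two, hc.mul_pow, conj_pow, pow_two w, inv_pow, pow_two w]
      exact hfix w hw h3 (hU _ (hfT w hw) h3)
  intro τ hτ
  obtain ⟨n, hn⟩ := h.two_T ⟨τ, hτ⟩
  have := main n τ hτ (congrArg Subtype.val hn)
  calc k * τ = (k * τ * k⁻¹ * τ⁻¹) * τ * k := by group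
    _ = τ * k := by rw [show k * τ * k⁻¹ * τ⁻¹ = 1 from this, one_mul]

end CfsgLib.Invol.FixedAut
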