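import Mathlib
import Cfsg.Agent.Lib.Techniques.AlperinGoldschmidtCore
import Cfsg.Agent.Lib.Invol.ZStarFinal
import Cfsg.Agent.Lib.Cores.Basic
import Cfsg.Agent.Lib.Transfer.Frobenius
import Cfsg.Agent.S0205

/-!
# Automorphisms fixing a Sylow 2-subgroup pointwise (Glauberman)

For `O(G) = 1` the automorphisms fixing a Sylow 2-subgroup `S` elementwise form a group with abelian
Sylow 2-subgroups, a normal 2-complement, hence solvable.

The components in `Z(D)` of `φ(n) n⁻¹`, `n ∈ N(D)`, `D` an Alperin–Goldschmidt subgroup, give a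
homomorphism to an abelian group; an involution in its kernel gives an isolated involution of the
semidirect product, so the kernel has odd order.
-/

set_option autoImplicit false

noncomputable section

namespace CfsgLib.Invol.FixedSylowAut

open Subgroup Cfsg
open CfsgLib.Techniques.AlperinGoldschmidtCore (good Real real)
open CfsgLib.Techniques.Functor (Fam)
open CfsgLib.Fusion (conjSub mem_conjSub)
open scoped commutatorElement

variable {G : Type*} [Group G] [Finite G] (S : Sylow 2 G)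

local instance : Fact (Nat.Prime 2) := ⟨Nat.prime_two⟩

/-- The odd core of the normalizer, inside `G`. -/
def coreN (D : Subgroup G) : Subgroup G :=
  (pPrimeCore 2 ↥(normalizer (D : Set G))).map (normalizer (D : Set G)).subtype

theorem coreN_le (D : Subgroup G) : coreN D ≤ normalizer (D : Set G) := map_subtype_le _

theorem odd_of_mem_coreN {D : Subgroup G} {o : G} (ho : o ∈ coreN D) : Odd (orderOf o) := by
  obtain ⟨o', ho', rfl⟩ := ho
  rw [Subgroup.coe_subtype, Subgroup.orderOf_coe, ← Nat.not_even_iff_odd, even_iff_two_dvd]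
  exact fun h => CfsgLib.Cores.not_dvd_card_pPrimeCore (G := ↥(normalizer (D : Set G))) 2
    (h.trans (Subgroup.orderOf_dvd_natCard _ ho'))

theorem good_le {D : Subgroup G} (hD : D ∈ good S) : D ≤ (S : Subgroup G) := hD.1

theorem good_dec {D : Subgroup G} (hD : D ∈ good S) {c : G} (hc : c ∈ centralizer (D : Set G)) :
    ∃ o ∈ coreN D, ∃ z ∈ D, z ∈ centralizer (D : Set G) ∧ c = o * z := by
  obtain ⟨h1, -, h3, -, h5⟩ := hD.2.2.2
  have hmem := hD.2.2.1 hc
  rw [← h5] at hmem
  have hle : D ≤ normalizer ((coreN D : Subgroup G) : Set G) := by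
    intro d hd
    refine CfsgLib.Fusion.mem_normalizer_of_forall fun o ho => ?_
    rw [← h3 o ho d hd, mul_inv_cancel_right]
    exact ho
  have hnm := Subgroup.coe_mul_of_right_le_normalizer_left (coreN D) D hle
  have hmem' : c ∈ ((coreN D ⊔ D : Subgroup G) : Set G) := hmem
  rw [hnm] at hmem'
  obtain ⟨o, ho, z, hz, rfl⟩ := hmem'
  refine ⟨o, ho, z, hz, ?_, rfl⟩
  have hoC : o ∈ centralizer (D : Set G) := mem_centralizer_iff.2 fun d hd => (h3 o ho d hd).symm
  exact (Subgroup.mul_mem_cancel_left _ hoC).1 hc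

theorem good_coreN_central {D : Subgroup G} (hD : D ∈ good S) {o : G} (ho : o ∈ coreN D) :
    o ∈ centralizer (D : Set G) :=
  mem_centralizer_iff.2 fun d hd => (hD.2.2.2.2.2.1 o ho d hd).symm

theorem good_unique {D : Subgroup G} (hD : D ∈ good S) {o o' z z' : G} (ho : o ∈ coreN D)
    (ho' : o' ∈ coreN D) (hz : z ∈ D) (hz' : z' ∈ D) (h : o * z = o' * z') : z = z' := by
  have hinf : coreN D ⊓ D = ⊥ := hD.2.2.2.2.2.2.1
  have hm : o'⁻¹ * o ∈ coreN D ⊓ D := by
    refine Subgroup.mem_inf.2 ⟨mul_mem (inv_mem ho') ho, ?_⟩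
    rw [show o'⁻¹ * o = z' * z⁻¹ by
      rw [eq_mul_inv_iff_mul_eq, mul_assoc, h, inv_mul_cancel_left]]
    exact mul_mem hz' (inv_mem hz)
  rw [hinf, mem_bot, inv_mul_eq_one] at hm
  subst hm
  exact mul_left_cancel h

/-- `φ` fixes every element of `S`. -/
def Fixes (φ : MulAut G) : Prop := ∀ s : G, s ∈ (S : Subgroup G) → φ s = s

theorem mem_centralizer_of_fixed {φ : MulAut G} {D : Subgroup G} (hfix : ∀ d ∈ D, φ d = d) {n : G}
    (hn : n ∈ normalizer (D : Set G)) : φ n * n⁻¹ ∈ centralizer (D : Set G) := by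
  refine mem_centralizer_iff.2 fun d hd => ?_
  have h1 : n⁻¹ * d * n ∈ D := by
    simpa using (mem_normalizer_iff.1 (inv_mem hn) d).1 hd
  have h2 := hfix _ h1
  rw [map_mul, map_mul, map_inv, hfix d hd] at h2
  calc d * (φ n * n⁻¹) = φ n * ((φ n)⁻¹ * d * φ n) * n⁻¹ := by group
    _ = φ n * n⁻¹ * d := by rw [h2]; group

theorem map_coreN {φ : MulAut G} {D : Subgroup G} (hfix : ∀ d ∈ D, φ d = d) {o : G} (ho : o ∈ coreN D) :
    φ o ∈ coreN D := by
  have hDm : D.map φ.toMonoidHom = D := by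
    refine le_antisymm ?_ fun d hd => ⟨d, hd, hfix d hd⟩
    rintro _ ⟨d, hd, rfl⟩
    show φ d ∈ D
    rw [hfix d hd]; exact hd
  have hN : (normalizer (D : Set G)).map φ.toMonoidHom = normalizer (D : Set G) := by
    rw [Subgroup.map_equiv_normalizer_eq, hDm]
  let e : ↥(normalizer (D : Set G)) ≃* ↥(normalizer (D : Set G)) :=
    (φ.subgroupMap _).trans (MulEquiv.subgroupCongr hN)
  obtain ⟨o', ho', rfl⟩ := ho
  have hc := CfsgLib.Cores.pPrimeCore_characteristic (G := ↥(normalizer (D : Set G))) 2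
  exact ⟨e o', (Subgroup.characteristic_iff_le_comap.1 hc e) ho', rfl⟩

/-- The component in `Z(D)` of `φ(n) n⁻¹`. -/
def Comp (φ : MulAut G) (D : Subgroup G) (n z : G) : Prop :=
  ∃ o ∈ coreN D, z ∈ D ∧ z ∈ centralizer (D : Set G) ∧ φ n * n⁻¹ = o * z

theorem Comp.unique {φ : MulAut G} {D : Subgroup G} (hD : D ∈ good S) {n z z' : G} (h : Comp φ D n z)
    (h' : Comp φ D n z') : z = z' := by
  obtain ⟨o, ho, hz, -, he⟩ := h
  obtain ⟨o', ho', hz', -, he'⟩ := h'
  exact good_unique S hD ho ho' hz hz' (he.symm.trans he')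

theorem exists_comp {φ : MulAut G} (hφ : Fixes S φ) {D : Subgroup G} (hD : D ∈ good S) {n : G}
    (hn : n ∈ normalizer (D : Set G)) : ∃ z, Comp φ D n z := by
  obtain ⟨o, ho, z, hz, hzC, h⟩ :=
    good_dec S hD (mem_centralizer_of_fixed (fun d hd => hφ d (hD.1 hd)) hn)
  exact ⟨z, o, ho, hz, hzC, h⟩

theorem Comp.mul {φ ψ : MulAut G} (hφ : Fixes S φ) {D : Subgroup G} (hD : D ∈ good S) {n z w : G}
    (hz : Comp φ D n z) (hw : Comp ψ D n w) : Comp (φ * ψ) D n (z * w) := by
  obtain ⟨o, ho, hzD, hzC, he⟩ := hz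
  obtain ⟨o', ho', hwD, hwC, he'⟩ := hw
  refine ⟨φ o' * o, mul_mem (map_coreN (fun d hd => hφ d (hD.1 hd)) ho') ho, mul_mem hzD hwD,
    mul_mem hzC hwC, ?_⟩
  have h1 : ψ n = o' * w * n := by rw [← he', inv_mul_cancel_right]
  rw [MulAut.mul_apply, h1, map_mul, map_mul, hφ w (hD.1 hwD), mul_assoc _ (φ n), he]
  have hwo : w * o = o * w := mem_centralizer_iff.1 (good_coreN_central S hD ho) w hwD
  have hwz : w * z = z * w := mem_centralizer_iff.1 hzC w hwD
  calc φ o' * w * (o * z) = φ o' * (w * o) * z := by group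
    _ = φ o' * o * (w * z) := by rw [hwo]; group
    _ = _ := by rw [hwz]

theorem comm_trivial {φ ψ : MulAut G} (hφ : Fixes S φ) (hψ : Fixes S ψ) {D : Subgroup G} (hD : D ∈ good S)
    {n : G} (hn : n ∈ normalizer (D : Set G)) : (φ * ψ * φ⁻¹ * ψ⁻¹) n * n⁻¹ ∈ coreN D := by
  set c := φ * ψ * φ⁻¹ * ψ⁻¹ with hc
  have hinv : ∀ {α : MulAut G}, Fixes S α → Fixes S α⁻¹ := fun hα s hs => by
    conv_lhs => rw [← hα s hs]
    exact MulEquiv.symm_apply_apply _ _
  have hcf : Fixes S c := fun s hs => by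
    simp only [hc, MulAut.mul_apply]
    rw [hinv hψ s hs, hinv hφ s hs, hψ s hs, hφ s hs]
  obtain ⟨z, hz⟩ := exists_comp S hφ hD hn
  obtain ⟨w, hw⟩ := exists_comp S hψ hD hn
  obtain ⟨v, hv⟩ := exists_comp S hcf hD hn
  have h1 := Comp.mul S hφ hD hz hw
  have h2 := Comp.mul S hψ hD hw hz
  have h3 := Comp.mul S hcf hD hv h2
  rw [show c * (ψ * φ) = φ * ψ by rw [hc]; group] at h3
  have h4 := Comp.unique S hD h1 h3
  have hwz : w * z = z * w := mem_centralizer_iff.1 hz.choose_spec.2.2.1 w hw.choose_spec.2.1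
  rw [hwz] at h4
  have hv1 : v = 1 := mul_eq_right.1 h4.symm
  subst hv1
  obtain ⟨o, ho, -, -, he⟩ := hv
  rw [he, mul_one]; exact ho

/-- The kernel condition. -/
def InKer (φ : MulAut G) : Prop :=
  ∀ D ∈ good S, ∀ n ∈ normalizer (D : Set G), φ n * n⁻¹ ∈ coreN D

/-- The subgroup of the kernel elements. -/
def kerGood : Subgroup (MulAut G) where
  carrier := {φ | Fixes S φ ∧ InKer S φ}
  one_mem' := ⟨fun _ _ => rfl, fun D _ n _ => by simp [one_mem]⟩
  mul_mem' := by
    rintro φ ψ ⟨hφ, hφk⟩ ⟨hψ, hψk⟩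
    refine ⟨fun s hs => by rw [MulAut.mul_apply, hψ s hs, hφ s hs], fun D hD n hn => ?_⟩
    rw [MulAut.mul_apply, show ψ n = (ψ n * n⁻¹) * n by group, map_mul, mul_assoc]
    exact mul_mem (map_coreN (fun d hd => hφ d (hD.1 hd)) (hψk D hD n hn)) (hφk D hD n hn)
  inv_mem' := by
    rintro φ ⟨hφ, hφk⟩
    have hfi : ∀ s, s ∈ (S : Subgroup G) → φ⁻¹ s = s := fun s hs => by
      conv_lhs => rw [← hφ s hs]
      exact MulEquiv.symm_apply_apply _ _
    refine ⟨hfi, fun D hD n hn => ?_⟩
    have h := map_coreN (φ := φ⁻¹) (fun d hd => hfi d (hD.1 hd)) (inv_mem (hφk D hD n hn))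
    rw [mul_inv_rev, inv_inv, map_mul, map_inv, show φ⁻¹ (φ n) = n from MulEquiv.symm_apply_apply φ n] at h
    simpa using h

/-- The subgroup generated by the elements of odd order in `C(A)`. -/
def oddGen (A : Subgroup G) : Subgroup G :=
  closure {o | o ∈ centralizer (A : Set G) ∧ Odd (orderOf o)}

theorem fam_mem {φ : MulAut G} (hk : InKer S φ) {A : Subgroup G} {x : G} (h : Fam (good S) A x) :
    φ x * x⁻¹ ∈ oddGen A := by
  induction h with
  | nil A => simp [one_mem]
  | @cons A T y g hT hA hy _ ih =>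
    have h1 : φ y * y⁻¹ ∈ oddGen A := subset_closure
      ⟨centralizer_le hA (good_coreN_central S hT (hk T hT y hy)), odd_of_mem_coreN (hk T hT y hy)⟩
    have h2 : y * (φ g * g⁻¹) * y⁻¹ ∈ oddGen A := by
      have hle : oddGen (conjSub y⁻¹ A) ≤ (oddGen A).comap (MulAut.conj y).toMonoidHom := by
        refine (closure_le _).2 fun o ho => subset_closure ⟨mem_centralizer_iff.2 fun a ha => ?_, ?_⟩
        · have h := mem_centralizer_iff.1 ho.1 (y⁻¹ * a * y) (by
            simp only [SetLike.mem_coe, mem_conjSub]; simpa [mul_assoc] using ha)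
          show a * (y * o * y⁻¹) = y * o * y⁻¹ * a
          calc a * (y * o * y⁻¹) = y * (y⁻¹ * a * y * o) * y⁻¹ := by group
            _ = _ := by rw [h]; group
        · show Odd (orderOf (y * o * y⁻¹))
          rw [(SemiconjBy.conj_mk y o).orderOf_eq.symm]; exact ho.2
      exact hle ih
    rw [map_mul, show φ y * φ g * (y * g)⁻¹ = φ y * y⁻¹ * (y * (φ g * g⁻¹) * y⁻¹) by group]
    exact mul_mem h1 h2

theorem isolated_step {φ : MulAut G} (hφ : Fixes S φ) (hk : InKer S φ) (hinv : φ * φ = 1) :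
    ∀ (d : ℕ) (g : G), g * (φ g)⁻¹ ∈ (S : Subgroup G) →
      Nat.card G - Nat.card ↥((S : Subgroup G) ⊓ centralizer ({g * (φ g)⁻¹} : Set G)) ≤ d →
      g * (φ g)⁻¹ = 1 := by
  classical
  have hinv' : ∀ x, φ (φ x) = x := fun x => congrArg (fun α : MulAut G => α x) hinv
  intro d
  induction d using Nat.strong_induction_on with
  | _ d ih =>
    intro g hg hd
    set s := g * (φ g)⁻¹ with hs
    by_contra hs1
    set A := (S : Subgroup G) ⊓ centralizer ({s} : Set G) with hA
    have hsA : s ∈ A := ⟨hg, mem_centralizer_singleton_iff.2 rfl⟩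
    have hφg : φ g = s⁻¹ * g := by rw [hs]; group
    let F : Subgroup G :=
      { carrier := {x | φ x = x}
        one_mem' := map_one φ
        mul_mem' := fun {x y} (hx : φ x = x) (hy : φ y = y) => by
          show φ (x * y) = x * y; rw [map_mul, hx, hy]
        inv_mem' := fun {x} (hx : φ x = x) => by show φ x⁻¹ = x⁻¹; rw [map_inv, hx] }
    have hSF : (S : Subgroup G) ≤ F := fun x hx => hφ x hx
    have hconj : ∀ {X : Subgroup G}, X ≤ F → IsPGroup 2 ↥X →
        ∃ h ∈ F, ∀ x ∈ X, h * x * h⁻¹ ∈ (S : Subgroup G) := by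
      intro X hX hXp
      obtain ⟨R, hR⟩ := (hXp.of_equiv (subgroupOfEquivOfLe hX).symm).exists_le_sylow
      obtain ⟨c, hc⟩ := MulAction.exists_smul_eq ↥F R (S.subtype hSF)
      refine ⟨c, c.2, fun x hx => ?_⟩
      have hm : c * (⟨x, hX hx⟩ : ↥F) * c⁻¹ ∈ ((S.subtype hSF : Sylow 2 ↥F) : Subgroup ↥F) := by
        rw [← hc, Sylow.coe_subgroup_smul]
        exact ⟨⟨x, hX hx⟩, hR hx, rfl⟩
      exact hm
    -- the 2-elements centralizing `A` and fixed by `φ` lie in `A`
    have hmax : ∀ B : Subgroup G, A ≤ B → IsPGroup 2 ↥B → B ≤ F →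
        (∀ b ∈ B, b * s = s * b) → B ≤ A := by
      intro B hAB hBp hBF hBs
      obtain ⟨h, hh, hhB⟩ := hconj hBF hBp
      have hφh : φ h = h := hh
      have e1 : h * g * (φ (h * g))⁻¹ = h * s * h⁻¹ := by
        rw [map_mul, hφh, mul_inv_rev, hs]; group
      by_contra hne
      have hlt : Nat.card A < Nat.card B := by
        refine lt_of_le_of_ne (card_le_of_le hAB) fun hc => hne ?_
        exact (eq_of_le_of_card_ge hAB hc.ge).ge
      have hB' : B.map (MulAut.conj h).toMonoidHom ≤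
          (S : Subgroup G) ⊓ centralizer ({h * g * (φ (h * g))⁻¹} : Set G) := by
        rintro _ ⟨b, hb, rfl⟩
        refine ⟨hhB b hb, mem_centralizer_singleton_iff.2 ?_⟩
        rw [e1]
        show h * b * h⁻¹ * (h * s * h⁻¹) = h * s * h⁻¹ * (h * b * h⁻¹)
        calc h * b * h⁻¹ * (h * s * h⁻¹) = h * (b * s) * h⁻¹ := by group
          _ = _ := by rw [hBs b hb]; group
      have hc2 := card_le_of_le hB'
      rw [card_map_of_injective (MulAut.conj h).injective] at hc2
      have hle : Nat.card ↥((S : Subgroup G) ⊓ centralizer ({h * g * (φ (h * g))⁻¹} : Set G)) ≤ Nat.card G :=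
        card_le_card_group _
      have h' := ih _ (by omega) (h * g) (by rw [e1]; exact hhB s (hAB hsA)) le_rfl
      rw [e1] at h'
      exact hs1 (conj_eq_one_iff.1 h')
    -- a stable Sylow subgroup of `C(A)`
    set H := centralizer (A : Set G) with hH
    have hAfix : ∀ a ∈ A, φ a = a := fun a ha => hφ a ha.1
    have hHφ : ∀ c ∈ H, φ c ∈ H := fun c hc => mem_centralizer_iff.2 fun a ha => by
      rw [← hAfix a ha, ← map_mul, ← map_mul, mem_centralizer_iff.1 hc a ha]
    let σ : ↥H ≃* ↥H :=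
      { toFun := fun c => ⟨φ c, hHφ c c.2⟩
        invFun := fun c => ⟨φ c, hHφ c c.2⟩
        left_inv := fun c => Subtype.ext (hinv' c)
        right_inv := fun c => Subtype.ext (hinv' c)
        map_mul' := fun a b => Subtype.ext (map_mul φ _ _) }
    obtain ⟨T, hT⟩ : ∃ T : Sylow 2 ↥H, (T : Subgroup ↥H).map σ.toMonoidHom = (T : Subgroup ↥H) := by
      have hσ : ∀ X : Subgroup ↥H, (X.map σ.toMonoidHom).map σ.toMonoidHom = X := fun X => by
        rw [map_map]
        convert map_id X using 2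
        ext c
        exact hinv' c
      have := Fintype.ofFinite (Sylow 2 ↥H)
      let f : Sylow 2 ↥H → Sylow 2 ↥H := fun Q => Q.mapSurjective (f := σ.toMonoidHom) σ.surjective
      have hf : Function.Involutive f := fun Q => Sylow.ext (by
        simp only [f, Sylow.coe_mapSurjective]; exact hσ _)
      obtain ⟨Q, hQ⟩ := Equiv.Perm.exists_fixed_point_of_prime (p := 2) (n := 1)
        (σ := hf.toPerm) (by
          rw [← Nat.card_eq_fintype_card]
          have h := card_sylow_modEq_one 2 ↥H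
          unfold Nat.ModEq at h
          omega) (by
          ext Q; simp [pow_two, Equiv.Perm.mul_apply, hf Q])
      exact ⟨Q, by simpa [f, Sylow.coe_mapSurjective] using congrArg (fun R : Sylow 2 ↥H => (R : Subgroup ↥H)) hQ⟩
    set T0 := (T : Subgroup ↥H).map H.subtype with hT0
    have hT0H : T0 ≤ H := map_subtype_le _
    have hT0p : IsPGroup 2 ↥T0 := T.2.map _
    have hT0φ : ∀ t ∈ T0, φ t ∈ T0 := by
      rintro _ ⟨t, ht, rfl⟩
      exact ⟨σ t, hT ▸ ⟨t, ht, rfl⟩, rfl⟩
    have hAp : IsPGroup 2 ↥A := S.2.to_le inf_le_left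
    have hjoin : ∀ W : Subgroup G, W ≤ H → IsPGroup 2 ↥W → IsPGroup 2 ↥(A ⊔ W) := fun W hW hWp =>
      hAp.to_sup_of_normal_left' hWp (fun w hw => CfsgLib.Fusion.centralizer_le_normalizer' A (hW hw))
    have hfixT : ∀ t ∈ T0, φ t = t → t ∈ A := by
      intro t ht htf
      have hle : zpowers t ≤ H := zpowers_le.2 (hT0H ht)
      refine hmax (A ⊔ zpowers t) le_sup_left (hjoin _ hle (hT0p.to_le (zpowers_le.2 ht)))
        (sup_le (fun a ha => hAfix a ha) (zpowers_le.2 htf)) ?_ (mem_sup_right (mem_zpowers t))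
      intro b hb
      have : A ⊔ zpowers t ≤ centralizer ({s} : Set G) :=
        sup_le inf_le_right (zpowers_le.2 (mem_centralizer_singleton_iff.2
          (mem_centralizer_iff.1 (hT0H ht) s hsA).symm))
      exact mem_centralizer_singleton_iff.1 (this hb)
    -- `φ` acts on `T` as an element of `T`, so trivially
    have hTA : T0 ≤ A := by
      obtain ⟨Q, hQ⟩ := (hjoin T0 hT0H hT0p).exists_le_sylow
      obtain ⟨g₁, hg₁⟩ := MulAction.exists_smul_eq G Q S
      have hg₁' : ∀ x ∈ A ⊔ T0, g₁ * x * g₁⁻¹ ∈ (S : Subgroup G) := fun x hx => by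
        rw [← hg₁, Sylow.coe_subgroup_smul]
        exact ⟨x, hQ hx, rfl⟩
      set e := (φ g₁)⁻¹ * g₁ with he
      have hact : ∀ x ∈ A ⊔ T0, φ x = e * x * e⁻¹ := by
        intro x hx
        have h := hφ _ (hg₁' x hx)
        rw [map_mul, map_mul, map_inv] at h
        calc φ x = (φ g₁)⁻¹ * (φ g₁ * φ x * (φ g₁)⁻¹) * φ g₁ := by group
          _ = _ := by rw [h, he]; group
      have heH : e ∈ H := mem_centralizer_iff.2 fun a ha => by
        have h := hact a (mem_sup_left ha)
        rw [hAfix a ha] at h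
        exact (mul_inv_eq_iff_eq_mul.1 h.symm).symm
      set k := (orderOf e).factorization 2 with hk2
      set j := orderOf e / 2 ^ k with hj
      have hjodd : ¬ 2 ∣ j := Nat.not_dvd_ordCompl Nat.prime_two (orderOf_pos e).ne'
      have he2p : IsPGroup 2 ↥(zpowers (e ^ j)) := IsPGroup.of_card (n := k) (by
        rw [Nat.card_zpowers, orderOf_pow' _ (by omega), Nat.gcd_eq_right (Nat.ordCompl_dvd _ _)]
        exact Nat.div_div_self (Nat.ordProj_dvd _ _) (orderOf_pos e).ne')
      have hact2 : ∀ (i : ℕ), ∀ t ∈ T0, e ^ i * t * (e ^ i)⁻¹ = if Even i then t else φ t := by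
        intro i
        induction i with
        | zero => intro t _; simp
        | succ i hi =>
          intro t ht
          rw [pow_succ', show e * e ^ i * t * (e * e ^ i)⁻¹ = e * (e ^ i * t * (e ^ i)⁻¹) * e⁻¹ by group,
            hi t ht]
          by_cases hev : Even i
          · rw [if_pos hev, if_neg (by simp [Nat.even_add_one, hev]), ← hact t (mem_sup_right ht)]
          · rw [if_neg hev, if_pos (by simp [Nat.even_add_one, hev]),
              ← hact (φ t) (mem_sup_right (hT0φ t ht)), hinv']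
      have hce : ∀ t ∈ T0, e ^ j * t * (e ^ j)⁻¹ = φ t := fun t ht => by
        rw [hact2 j t ht, if_neg (by rw [even_iff_two_dvd]; exact hjodd)]
      have hmemT : e ^ j ∈ T0 := by
        have hnorm : zpowers (e ^ j) ≤ normalizer (T0 : Set G) := by
          refine zpowers_le.2 (CfsgLib.Fusion.mem_normalizer_of_forall fun t ht => ?_)
          rw [hce t ht]; exact hT0φ t ht
        have hp : IsPGroup 2 ↥(T0 ⊔ zpowers (e ^ j)) := hT0p.to_sup_of_normal_left' he2p hnorm
        have hle : T0 ⊔ zpowers (e ^ j) ≤ H := sup_le hT0H (zpowers_le.2 (pow_mem heH j))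
        have hTle : (T : Subgroup ↥H) ≤ (T0 ⊔ zpowers (e ^ j)).subgroupOf H := fun t ht =>
          mem_sup_left ⟨t, ht, rfl⟩
        have heq := T.3 (hp.of_equiv (subgroupOfEquivOfLe hle).symm) hTle
        refine ⟨⟨e ^ j, pow_mem heH j⟩, ?_, rfl⟩
        rw [← heq]
        exact mem_sup_right (mem_zpowers _)
      have hejA : e ^ j ∈ A := hfixT _ hmemT (by rw [← hce _ hmemT]; group)
      intro t ht
      refine hfixT t ht ?_
      rw [← hce t ht, mem_centralizer_iff.1 (hT0H ht) _ hejA]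
      group
    -- the Sylow subgroup is central, so there is a normal complement
    have hcen : ∀ t ∈ (T : Subgroup ↥H), ∀ c : ↥H, t * c = c * t := fun t ht c =>
      Subtype.ext (mem_centralizer_iff.1 c.2 _ (hTA ⟨t, ht, rfl⟩))
    obtain ⟨i, hi⟩ := CfsgLib.OddLocal.Ten.index_pPrimeCore_eq_pow
      (CfsgLib.Transfer.hasNormalPComplement_of_normalizer_le_centralizer T
        fun c _ => mem_centralizer_iff.2 fun t ht => hcen t ht c)
    set O := pPrimeCore 2 ↥H with hO
    haveI hOn : O.Normal := by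
      have := CfsgLib.Cores.pPrimeCore_characteristic (G := ↥H) 2
      exact inferInstance
    set O0 := O.map H.subtype with hO0
    have hoddGen : oddGen A ≤ O0 := by
      refine (closure_le _).2 fun o ho => ⟨⟨o, ho.1⟩, ?_, rfl⟩
      refine CfsgLib.Blocks.mem_of_index_pow Nat.prime_two ⟨i, hi⟩ ?_
      rw [Subgroup.orderOf_mk]
      exact fun h => Nat.not_even_iff_odd.2 ho.2 (even_iff_two_dvd.2 h)
    -- move `g` so that it conjugates `A` into `S`
    obtain ⟨h, hh, hhA⟩ := hconj (X := A.map (MulAut.conj g⁻¹).toMonoidHom) (by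
      rintro _ ⟨a, ha, rfl⟩
      show φ (g⁻¹ * a * g⁻¹⁻¹) = g⁻¹ * a * g⁻¹⁻¹
      have hsa : a * s = s * a := mem_centralizer_singleton_iff.1 ha.2
      rw [inv_inv, map_mul, map_mul, map_inv, hAfix a ha, hφg]
      calc (s⁻¹ * g)⁻¹ * a * (s⁻¹ * g) = g⁻¹ * (s * a) * s⁻¹ * g := by group
        _ = _ := by rw [← hsa]; group) (hAp.map _)
    have hφh : φ h = h := hh
    set g' := g * h⁻¹ with hg'
    have hφg' : φ g' * g'⁻¹ = s⁻¹ := by rw [hg', map_mul, map_inv, hφh, hφg]; group
    obtain ⟨c, hc, hfam⟩ := real S A inf_le_left g' (by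
      intro x hx
      rw [mem_conjSub, inv_inv] at hx
      have h2 := hhA _ ⟨_, hx, rfl⟩
      have e2 : h * (g⁻¹ * (g' * x * g'⁻¹) * g⁻¹⁻¹) * h⁻¹ = x := by rw [hg']; group
      exact e2 ▸ h2)
    have hE : φ (c⁻¹ * g') * (c⁻¹ * g')⁻¹ ∈ O0 := hoddGen (fam_mem S hk hfam)
    have hcO : φ c * c⁻¹ ∈ O0 := by
      -- write `c` as an element of `T` times an element of `O`
      have hcomp : O.IsComplement' (T : Subgroup ↥H) := by
        refine Subgroup.isComplement'_of_coprime ?_ ?_
        · rw [T.card_eq_multiplicity, ← O.card_mul_index, hi, Nat.factorization_mul Nat.card_pos.ne'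
            (pow_ne_zero _ two_ne_zero), Finsupp.add_apply, Nat.factorization_eq_zero_of_not_dvd
              (CfsgLib.Cores.not_dvd_card_pPrimeCore 2), zero_add, Nat.prime_two.factorization_pow,
            Finsupp.single_eq_same]
        · exact Nat.Coprime.coprime_dvd_right (dvd_refl _) (by
            obtain ⟨l, hl⟩ := T.2.exists_card_eq
            rw [hl]
            exact Nat.Coprime.pow_right l (CfsgLib.Cores.coprime_card_pPrimeCore 2))
      have hmem : (⟨c, hc⟩ : ↥H) ∈ ((O ⊔ (T : Subgroup ↥H) : Subgroup ↥H) : Set ↥H) := by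
        rw [hcomp.sup_eq_top]; trivial
      rw [normal_mul] at hmem
      obtain ⟨o, ho, t, ht, hot⟩ := hmem
      have hceq : c = (o : G) * (t : G) := congrArg Subtype.val hot.symm
      have htA : (t : G) ∈ A := hTA ⟨t, ht, rfl⟩
      rw [hceq, map_mul, hAfix _ htA, mul_inv_rev,
        show φ (o : G) * (t : G) * ((t : G)⁻¹ * (o : G)⁻¹) = φ (o : G) * (o : G)⁻¹ by group]
      refine mul_mem ⟨σ o, ?_, rfl⟩ (inv_mem ⟨o, ho, rfl⟩)
      exact (Subgroup.characteristic_iff_le_comap.1
        (CfsgLib.Cores.pPrimeCore_characteristic (G := ↥H) 2) σ) ho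
    have hnormc : ∀ x ∈ O0, c * x * c⁻¹ ∈ O0 := by
      rintro _ ⟨x, hx, rfl⟩
      exact ⟨⟨c, hc⟩ * x * (⟨c, hc⟩ : ↥H)⁻¹, hOn.conj_mem x hx _, rfl⟩
    have hsO : s⁻¹ ∈ O0 := by
      have hsplit : φ g' = φ c * φ (c⁻¹ * g') := by rw [← map_mul, mul_inv_cancel_left]
      rw [← hφg', show φ g' * g'⁻¹ = φ c * c⁻¹ * (c * (φ (c⁻¹ * g') * (c⁻¹ * g')⁻¹) * c⁻¹) by
        conv_lhs => rw [hsplit]
        group]
      exact mul_mem hcO (hnormc _ hE)
    obtain ⟨l, hl⟩ := IsPGroup.iff_orderOf.1 S.2 ⟨s, hg⟩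
    rw [Subgroup.orderOf_mk] at hl
    obtain ⟨o, ho, hos⟩ := hsO
    have hdvd : orderOf s ∣ Nat.card O := by
      rw [← orderOf_inv, ← hos, Subgroup.coe_subtype, Subgroup.orderOf_coe]
      exact Subgroup.orderOf_dvd_natCard _ ho
    rw [hl] at hdvd
    rcases Nat.eq_zero_or_pos l with rfl | hlp
    · rw [pow_zero, orderOf_eq_one_iff] at hl
      exact hs1 hl
    · exact CfsgLib.Cores.not_dvd_card_pPrimeCore (G := ↥H) 2
        ((dvd_pow_self 2 hlp.ne').trans hdvd)

theorem eq_one_of_involution (hO : ∀ N : Subgroup G, N.Normal → Odd (Nat.card N) → N = ⊥)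
    {φ : MulAut G} (hφ : Fixes S φ) (hk : InKer S φ) (hinv : φ * φ = 1) : φ = 1 := by
  classical
  by_contra hne
  have hinv' : ∀ x, φ (φ x) = x := fun x => congrArg (fun α : MulAut G => α x) hinv
  have hord : orderOf φ = 2 := orderOf_eq_prime (by rw [pow_two, hinv]) hne
  let u₀ : ↥(zpowers φ) := ⟨φ, mem_zpowers φ⟩
  let ψ : ↥(zpowers φ) →* MulAut G := (zpowers φ).subtype
  let u : G ⋊[ψ] ↥(zpowers φ) := SemidirectProduct.inr u₀
  have hu₀ : orderOf u₀ = 2 := by rw [← hord]; exact Subgroup.orderOf_mk ..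
  have hu : orderOf u = 2 := by
    rw [← hu₀]; exact orderOf_injective _ SemidirectProduct.inr_injective _
  have hcard : Nat.card ↥(zpowers φ) = 2 := by rw [Nat.card_zpowers, hord]
  have : Finite (G ⋊[ψ] ↥(zpowers φ)) := Finite.of_equiv _ SemidirectProduct.equivProd.symm
  have hiso : IsIsolatedInvolution u := by
    refine ⟨hu, fun w hw => ?_⟩
    -- reduce to a conjugate by an element of `G`
    obtain ⟨g, hg⟩ : ∃ g : G, w * u * w⁻¹ = SemidirectProduct.inl g * u * (SemidirectProduct.inl g)⁻¹ := by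
      refine ⟨w.left, ?_⟩
      have hcm : w.right * u₀ = u₀ * w.right := by
        obtain ⟨k, hk⟩ := mem_zpowers_iff.1 w.right.2
        exact Subtype.ext (show (w.right : MulAut G) * φ = φ * w.right by
          rw [← hk]; exact ((Commute.refl φ).zpow_left k).eq)
      conv_lhs => rw [← SemidirectProduct.inl_left_mul_inr_right w]
      have h2 : (SemidirectProduct.inr w.right : G ⋊[ψ] ↥(zpowers φ)) * u * (SemidirectProduct.inr w.right)⁻¹ = u := by
        show SemidirectProduct.inr w.right * SemidirectProduct.inr u₀ * (SemidirectProduct.inr w.right)⁻¹ =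
          SemidirectProduct.inr u₀
        rw [← map_inv, ← map_mul, ← map_mul, hcm, mul_inv_cancel_right]
      calc SemidirectProduct.inl w.left * SemidirectProduct.inr w.right * u *
            (SemidirectProduct.inl w.left * SemidirectProduct.inr w.right)⁻¹
          = SemidirectProduct.inl w.left *
              (SemidirectProduct.inr w.right * u * (SemidirectProduct.inr w.right)⁻¹) *
              (SemidirectProduct.inl w.left)⁻¹ := by group
        _ = _ := by rw [h2]
    rw [hg] at hw ⊢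
    set a := g * (φ g)⁻¹ with ha
    have hval : SemidirectProduct.inl g * u * (SemidirectProduct.inl g)⁻¹ =
        SemidirectProduct.inl a * u := by
      refine SemidirectProduct.ext ?_ ?_
      · simp [u, ψ, ha, u₀, map_inv]
      · simp [u]
    rw [hval] at hw ⊢
    have hafix : φ a = a := by
      have h := congrArg SemidirectProduct.left hw.eq
      simpa [u, ψ, u₀] using h
    have ha2 : a ^ 2 = 1 := by
      have h1 : φ a = φ g * g⁻¹ := by rw [ha, map_mul, map_inv, hinv']
      rw [hafix, ha] at h1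
      rw [pow_two, ha]
      nth_rewrite 2 [h1]
      group
    -- conjugate `a` into `S` inside the fixed points
    let F : Subgroup G :=
      { carrier := {x | φ x = x}
        one_mem' := map_one φ
        mul_mem' := fun {x y} (hx : φ x = x) (hy : φ y = y) => by
          show φ (x * y) = x * y; rw [map_mul, hx, hy]
        inv_mem' := fun {x} (hx : φ x = x) => by show φ x⁻¹ = x⁻¹; rw [map_inv, hx] }
    have hSF : (S : Subgroup G) ≤ F := fun x hx => hφ x hx
    have hap : IsPGroup 2 ↥(zpowers (⟨a, hafix⟩ : ↥F)) := by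
      refine IsPGroup.iff_orderOf.2 fun x => ?_
      obtain ⟨i, -, hi⟩ := (Nat.dvd_prime_pow Nat.prime_two (m := 1)).1 (show orderOf x ∣ 2 ^ 1 by
        rw [← Subgroup.orderOf_coe, pow_one]
        exact (orderOf_dvd_of_mem_zpowers x.2).trans
          (orderOf_dvd_of_pow_eq_one (Subtype.ext ha2)))
      exact ⟨i, hi⟩
    obtain ⟨R, hR⟩ := hap.exists_le_sylow
    obtain ⟨c, hc⟩ := MulAction.exists_smul_eq ↥F R (S.subtype hSF)
    have hm : c * (⟨a, hafix⟩ : ↥F) * c⁻¹ ∈ ((S.subtype hSF : Sylow 2 ↥F) : Subgroup ↥F) := by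
      rw [← hc, Sylow.coe_subgroup_smul]
      exact ⟨_, hR (mem_zpowers _), rfl⟩
    have hφc : φ (c : G) = c := c.2
    have e1 : (c : G) * g * (φ ((c : G) * g))⁻¹ = c * a * (c : G)⁻¹ := by
      rw [map_mul, hφc, mul_inv_rev, ha]; group
    have h1 := isolated_step S hφ hk hinv _ ((c : G) * g) (by rw [e1]; exact hm) le_rfl
    rw [e1] at h1
    rw [conj_eq_one_iff.1 h1, map_one, one_mul]
  have hOΓ : oddCore (G ⋊[ψ] ↥(zpowers φ)) = ⊥ := by
    set O := oddCore (G ⋊[ψ] ↥(zpowers φ)) with hOdef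
    have hOodd : Odd (Nat.card O) := CfsgLib.Cores.odd_card_oddCore
    have hOn : O.Normal := by rw [hOdef]; infer_instance
    have h1 : O.comap SemidirectProduct.inl = ⊥ := by
      refine hO _ inferInstance ?_
      refine Odd.of_dvd_nat hOodd ?_
      exact Subgroup.card_comap_dvd_of_injective O _ SemidirectProduct.inl_injective
    refine (Subgroup.eq_bot_iff_forall _).2 fun x hx => ?_
    have hxo : ¬ 2 ∣ orderOf x := fun h => Nat.not_even_iff_odd.2 hOodd
      (even_iff_two_dvd.2 (h.trans (Subgroup.orderOf_dvd_natCard _ hx)))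
    have hr : SemidirectProduct.rightHom x = 1 := by
      rw [← orderOf_eq_one_iff]
      have h2 : orderOf (SemidirectProduct.rightHom x) ∣ orderOf x := orderOf_map_dvd _ _
      have h3 : orderOf (SemidirectProduct.rightHom x) ∣ 2 := hcard ▸ orderOf_dvd_natCard _
      rcases (Nat.dvd_prime Nat.prime_two).1 h3 with h | h
      · exact h
      · exact absurd (h ▸ h2) hxo
    have hx' : x = SemidirectProduct.inl x.left := by
      conv_lhs => rw [← SemidirectProduct.inl_left_mul_inr_right x]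
      rw [show x.right = 1 from hr, map_one, mul_one]
    have hmem : x.left ∈ O.comap SemidirectProduct.inl := by
      rw [Subgroup.mem_comap, ← hx']; exact hx
    rw [h1, Subgroup.mem_bot] at hmem
    rw [hx', hmem, map_one]
  have hcen := zstar_center hiso hOΓ
  refine hne (MulEquiv.ext fun x => ?_)
  have h := congrArg SemidirectProduct.left (Subgroup.mem_center_iff.1 hcen (SemidirectProduct.inl x))
  simp [u, ψ, u₀] at h
  exact h.symm

theorem odd_kerGood (hO : ∀ N : Subgroup G, N.Normal → Odd (Nat.card N) → N = ⊥) :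
    Odd (Nat.card (kerGood S)) := by
  rw [← Nat.not_even_iff_odd, even_iff_two_dvd]
  intro h
  obtain ⟨x, hx⟩ := exists_prime_orderOf_dvd_card' 2 h
  have h1 : (x : MulAut G) * x = 1 := by
    rw [← Subgroup.coe_mul, ← pow_two, ← hx, pow_orderOf_eq_one, OneMemClass.coe_one]
  have := eq_one_of_involution S hO x.2.1 x.2.2 h1
  rw [show x = 1 from Subtype.ext this, orderOf_one] at hx
  norm_num at hx

/-- **Glauberman.** -/
theorem main (hO : ∀ N : Subgroup G, N.Normal → Odd (Nat.card N) → N = ⊥) (C : Subgroup (MulAut G))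
    (hC : ∀ φ : MulAut G, φ ∈ C ↔ Fixes S φ) :
    (∀ T : Sylow 2 ↥C, (∀ a b : ↥T, a * b = b * a) ∧
      ∃ N : Subgroup ↥C, N.Normal ∧ Subgroup.IsComplement' N (T : Subgroup ↥C)) ∧ Group.IsSolvable ↥C := by
  classical
  set K := (kerGood S).subgroupOf C with hK
  have hKC : kerGood S ≤ C := fun φ hφ => (hC φ).2 hφ.1
  have hKodd : Odd (Nat.card K) := by
    rw [hK, Nat.card_congr (subgroupOfEquivOfLe hKC).toEquiv]; exact odd_kerGood S hO
  have hcomm : ∀ a b : ↥C, a * b * a⁻¹ * b⁻¹ ∈ K := by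
    intro a b
    have ha := (hC _).1 a.2
    have hb := (hC _).1 b.2
    show ((a * b * a⁻¹ * b⁻¹ : ↥C) : MulAut G) ∈ kerGood S
    exact ⟨(hC _).1 (a * b * a⁻¹ * b⁻¹ : ↥C).2, fun D hD n hn => comm_trivial S ha hb hD hn⟩
  have hTK : ∀ T : Sylow 2 ↥C, ∀ x ∈ (T : Subgroup ↥C), x ∈ K → x = 1 := by
    intro T x hx hxK
    obtain ⟨l, hl⟩ := IsPGroup.iff_orderOf.1 T.2 ⟨x, hx⟩
    rw [Subgroup.orderOf_mk] at hl
    have hd := Subgroup.orderOf_dvd_natCard _ hxK
    rw [hl] at hd
    rcases Nat.eq_zero_or_pos l with rfl | hlp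
    · rw [pow_zero, orderOf_eq_one_iff] at hl; exact hl
    · exact absurd ((dvd_pow_self 2 hlp.ne').trans hd) fun h =>
        Nat.not_even_iff_odd.2 hKodd (even_iff_two_dvd.2 h)
  refine ⟨fun T => ⟨fun a b => ?_, ?_⟩, ?_⟩
  · have h := hTK T ((a : ↥C) * b * (a : ↥C)⁻¹ * (b : ↥C)⁻¹)
      (mul_mem (mul_mem (mul_mem a.2 b.2) (inv_mem a.2)) (inv_mem b.2)) (hcomm _ _)
    exact Subtype.ext (commutatorElement_eq_one_iff_mul_comm.1 h)
  · have hnc : HasNormalPComplement 2 ↥C :=
      CfsgLib.Transfer.hasNormalPComplement_of_normalizer_le_centralizer T fun n hn => by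
        rw [mem_centralizer_iff]
        intro t ht
        have h := hTK T (n * t * n⁻¹ * t⁻¹)
          (mul_mem ((mem_normalizer_iff.1 hn t).1 ht) (inv_mem ht)) (hcomm n t)
        exact (commutatorElement_eq_one_iff_mul_comm.1 h).symm
    obtain ⟨Q, N, hN, hQ⟩ := hnc
    refine ⟨N, hN, Subgroup.isComplement'_of_coprime ?_ ?_⟩
    · rw [← hQ.card_mul, T.card_eq_multiplicity, Q.card_eq_multiplicity]
    · have h1 : ¬ 2 ∣ Nat.card N := by
        rw [← hQ.index_eq_card]; exact Q.not_dvd_index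
      obtain ⟨l, hl⟩ := T.2.exists_card_eq
      rw [hl]
      exact Nat.Coprime.pow_right l ((Nat.prime_two.coprime_iff_not_dvd.2 h1).symm)
  · haveI hKn : K.Normal := ⟨fun k hk a => by
      have := mul_mem (hcomm a k) hk
      simpa [mul_assoc] using this⟩
    haveI : Group.IsSolvable ↥K := Cfsg.Agent.S0205.result hKodd
    haveI : Group.IsSolvable (↥C ⧸ K) := by
      refine Group.isSolvable_of_comm fun x y => ?_
      obtain ⟨a, rfl⟩ := QuotientGroup.mk_surjective x
      obtain ⟨b, rfl⟩ := QuotientGroup.mk_surjective y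
      rw [← commutatorElement_eq_one_iff_mul_comm, commutatorElement_def, ← QuotientGroup.mk_inv,
        ← QuotientGroup.mk_inv, ← QuotientGroup.mk_mul, ← QuotientGroup.mk_mul, ← QuotientGroup.mk_mul]
      exact (QuotientGroup.eq_one_iff _).2 (hcomm a b)
    exact Group.isSolvable_of_ker_le_range K.subtype (QuotientGroup.mk' K)
      (by rw [QuotientGroup.ker_mk', Subgroup.range_subtype])

end CfsgLib.Invol.FixedSylowAut
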