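import Mathlib
import Cfsg.Agent.Lib.Invol.ZStarFinal
import Cfsg.Agent.Lib.Transfer.Fusion

/-!
# Sylow subgroups normalized by an isolated involution
-/

set_option autoImplicit false

namespace CfsgLib.Invol

open Cfsg

variable {G : Type*} [Group G] [Finite G]

/-- A subgroup mapped into itself by conjugation with `g` is normalized by `g`. -/
theorem mem_normalizer_of_conj_mem {P : Subgroup G} {g : G} (h : ∀ x ∈ P, g * x * g⁻¹ ∈ P) :
    g ∈ Subgroup.normalizer (P : Set G) := by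
  have hle : P.map (MulAut.conj g).toMonoidHom ≤ P := by
    rintro _ ⟨x, hx, rfl⟩
    exact h x hx
  exact mem_normalizer_iff_map_conj.mpr (Subgroup.eq_of_le_of_card_ge hle (card_map_conj P g).ge)

/-- An isolated involution normalizes a Sylow subgroup for every prime. -/
theorem exists_invariant_sylow {z : G} (hz : IsIsolatedInvolution z) (p : ℕ) [Fact p.Prime] :
    ∃ P : Sylow p G, z ∈ Subgroup.normalizer ((P : Subgroup G) : Set G) := by
  set O := oddCore G
  haveI hOn : O.Normal := by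
    have := CfsgLib.Cores.pPrimeCore_characteristic (G := G) 2
    exact inferInstanceAs (pPrimeCore 2 G).Normal
  have hOodd : Odd (Nat.card O) := CfsgLib.Cores.odd_card_oddCore
  have hzz := mul_self_of_orderOf_two hz.1
  obtain ⟨P⟩ := (inferInstance : Nonempty (Sylow p G))
  set M := (P : Subgroup G) ⊔ O
  have hzM : (P : Subgroup G).map (MulAut.conj z).toMonoidHom ≤ M := by
    rintro _ ⟨x, hx, rfl⟩
    show z * x * z⁻¹ ∈ M
    rw [show z * x * z⁻¹ = (z * x * z⁻¹ * x⁻¹) * x by group]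
    exact M.mul_mem ((le_sup_right : O ≤ M) (zstar hz x)) ((le_sup_left : (P : Subgroup G) ≤ M) hx)
  obtain ⟨g, hg, hgP⟩ := CfsgLib.Transfer.exists_conj_mem_sylow_of_le P le_sup_left hzM (P.2.map _)
  obtain ⟨q, hq, o, ho, rfl⟩ := Subgroup.mem_sup_of_normal_right.mp hg
  -- `w = o * z` normalizes `P`
  have hwN : o * z ∈ Subgroup.normalizer ((P : Subgroup G) : Set G) := by
    refine mem_normalizer_of_conj_mem fun x hx => ?_
    have h1 := hgP _ (Subgroup.mem_map_of_mem _ hx)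
    have h2 := (P : Subgroup G).mul_mem ((P : Subgroup G).mul_mem ((P : Subgroup G).inv_mem hq) h1) hq
    rw [show o * z * x * (o * z)⁻¹ = q⁻¹ * (q * o * (z * x * z⁻¹) * (q * o)⁻¹) * q by group]
    exact h2
  set w := o * z
  have hw2 : w ^ 2 ∈ O := by
    rw [show w ^ 2 = o * (z * o * z⁻¹) * (z * z) by simp only [w, pow_two]; group, hzz, mul_one]
    exact O.mul_mem ho (hOn.conj_mem o ho z)
  have hm : Odd (orderOf (w ^ 2)) := hOodd.of_dvd_nat (Subgroup.orderOf_dvd_natCard O hw2)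
  set m := orderOf (w ^ 2)
  set u := w ^ m
  have huu : u * u = 1 := by
    rw [← pow_add, ← two_mul, pow_mul, pow_orderOf_eq_one]
  have huz : u * z ∈ O := by
    obtain ⟨j, hj⟩ := hm
    rw [show u = (w ^ 2) ^ j * w by rw [← pow_mul, ← pow_succ, ← hj], mul_assoc]
    refine O.mul_mem (O.pow_mem hw2 j) ?_
    show o * z * z ∈ O
    rwa [mul_assoc, hzz, mul_one]
  have hu : orderOf u = 2 := orderOf_eq_prime (by rw [pow_two, huu]) (fun h1 => by
    rw [h1, one_mul] at huz
    have := hOodd.of_dvd_nat (Subgroup.orderOf_dvd_natCard O huz)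
    rw [hz.1] at this
    exact absurd this (by decide))
  obtain ⟨d, -, hd⟩ := exists_conj_of_odd hu hz.1
    (hOodd.of_dvd_nat (Subgroup.orderOf_dvd_natCard O huz))
  refine ⟨MulAut.conj d • P, ?_⟩
  have huN : u ∈ Subgroup.normalizer ((P : Subgroup G) : Set G) := pow_mem hwN m
  refine mem_normalizer_of_conj_mem ?_
  rintro _ ⟨x, hx, rfl⟩
  refine ⟨u * x * u⁻¹, (Subgroup.mem_normalizer_iff.mp huN x).mp hx, ?_⟩
  show d * (u * x * u⁻¹) * d⁻¹ = z * (d * x * d⁻¹) * z⁻¹
  rw [← hd]; group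

/-- A maximal `p`-subgroup normalized by an isolated involution is a Sylow subgroup. -/
theorem maximal_invariant_is_sylow {z : G} (hz : IsIsolatedInvolution z) {p : ℕ} [Fact p.Prime]
    (Q : Subgroup G) (hQ : IsPGroup p Q) (hzQ : z ∈ Subgroup.normalizer (Q : Set G))
    (hmax : ∀ R : Subgroup G, IsPGroup p R → z ∈ Subgroup.normalizer (R : Set G) → Q ≤ R → R = Q) :
    ∃ P : Sylow p G, (P : Subgroup G) = Q := by
  set N := Subgroup.normalizer (Q : Set G)
  obtain ⟨R, hR⟩ := exists_invariant_sylow (isolated_subtype hz N hzQ) p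
  haveI : (Q.subgroupOf N).Normal := Subgroup.normal_in_normalizer
  have hQR : Q.subgroupOf N ≤ R := by
    obtain ⟨R', hR'⟩ := (hQ.of_equiv (Subgroup.subgroupOfEquivOfLe
      (Subgroup.le_normalizer : Q ≤ N)).symm).exists_le_sylow
    obtain ⟨g, rfl⟩ := MulAction.exists_smul_eq N R' R
    intro x hx
    refine ⟨g⁻¹ * x * g, hR' ?_, by simp [mul_assoc]⟩
    simpa using Subgroup.Normal.conj_mem inferInstance x hx g⁻¹
  set R0 := (R : Subgroup N).map N.subtype
  have hle : Q ≤ R0 := fun x hx => ⟨⟨x, Subgroup.le_normalizer hx⟩, hQR hx, rfl⟩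
  have hR0 : R0 = Q := hmax R0 (R.2.map _) (by
    refine mem_normalizer_of_conj_mem ?_
    rintro _ ⟨x, hx, rfl⟩
    exact ⟨_, (Subgroup.mem_normalizer_iff.mp hR x).mp hx, rfl⟩) hle
  obtain ⟨P, hP⟩ := hQ.exists_le_sylow
  refine ⟨P, ?_⟩
  by_contra hne
  have hlt : Q.subgroupOf (P : Subgroup G) < ⊤ := lt_top_iff_ne_top.mpr fun h => hne
    (le_antisymm (Subgroup.subgroupOf_eq_top.mp h) hP)
  haveI : Group.IsNilpotent (P : Subgroup G) := P.2.isNilpotent
  have h1 := Group.normalizerCondition_of_isNilpotent (G := (P : Subgroup G)) _ hlt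
  obtain ⟨x, hxN, hxQ⟩ := SetLike.exists_of_lt h1
  have hxQ' : (x : G) ∉ Q := hxQ
  have hxN' : (x : G) ∈ N := by
    refine mem_normalizer_of_conj_mem fun y hy => ?_
    exact (Subgroup.mem_normalizer_iff.mp hxN ⟨y, hP hy⟩).mp hy
  -- the `p`-subgroup of `N` generated by `Q` and `x` is conjugate into `R`
  set U := (P : Subgroup G) ⊓ N
  obtain ⟨g, hg⟩ := CfsgLib.Transfer.exists_conj_mem_sylow R (S := U.subgroupOf N)
    ((P.2.to_le inf_le_left).of_equiv (Subgroup.subgroupOfEquivOfLe (inf_le_right : U ≤ N)).symm)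
  have h2 := hg ⟨x, hxN'⟩ ⟨x.2, hxN'⟩
  have h3 : (g : G) * x * (g : G)⁻¹ ∈ Q := by
    rw [← hR0]
    exact ⟨_, h2, rfl⟩
  exact hxQ' ((Subgroup.mem_normalizer_iff.mp g.2 x).mpr h3)

end CfsgLib.Invol
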