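import Cfsg.Agent.Lib.Invol.ZStarFinal

/-!
# A Klein four-group in a non-cyclic simple group, from the odd order theorem
-/

set_option autoImplicit false

namespace CfsgLib.Invol

universe u

theorem exists_kleinFour_of_simple
    (hFT : ∀ (G : Type u) [Group G] [Finite G], Odd (Nat.card G) → Group.IsSolvable G)
    {G : Type u} [Group G] [Finite G] [IsSimpleGroup G] (hG : ¬ IsCyclic G) :
    ∃ E : Subgroup G, IsKleinFour E := by
  classical
  have hna : ¬ ∀ a b : G, a * b = b * a := by
    intro hcomm
    apply hG
    obtain ⟨g, hg⟩ := exists_ne (1 : G)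
    refine ⟨⟨g, fun x => ?_⟩⟩
    haveI : (Subgroup.zpowers g).Normal :=
      ⟨fun y hy z => by rwa [hcomm z y, mul_inv_cancel_right]⟩
    rcases Subgroup.Normal.eq_bot_or_eq_top (inferInstance : (Subgroup.zpowers g).Normal) with h | h
    all_goals first
      | exact absurd (Subgroup.zpowers_eq_bot.1 h) hg
      | exact (h ▸ Subgroup.mem_top x : x ∈ Subgroup.zpowers g)
  have heven : Even (Nat.card G) := by
    rw [← Nat.not_odd_iff_even]
    intro hodd
    haveI := hFT G hodd
    exact hna fun a b => IsSimpleGroup.comm_iff_isSolvable.2 inferInstance a b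
  by_contra hE
  push_neg at hE
  obtain ⟨z, hz, N, hN, hNodd, hzN⟩ := two_rank_one CfsgLib.Invol.constTwo heven hE
  rcases hN.eq_bot_or_eq_top with hb | ht
  · have hc : z ∈ Subgroup.center G := by
      refine Subgroup.mem_center_iff.2 fun g => ?_
      have h1 := hzN g
      rw [hb, Subgroup.mem_bot] at h1
      exact (commutatorElement_eq_one_iff_mul_comm.1 (by rwa [commutatorElement_def])).symm
    rcases (inferInstance : (Subgroup.center G).Normal).eq_bot_or_eq_top with hb' | ht'
    · rw [hb', Subgroup.mem_bot] at hc
      rw [hc, orderOf_one] at hz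
      exact absurd hz (by norm_num)
    · exact hna fun a b => (Subgroup.mem_center_iff.1 (ht' ▸ Subgroup.mem_top a) b).symm
  · rw [ht, Subgroup.card_top, ← Nat.not_even_iff_odd] at hNodd
    exact hNodd heven

end CfsgLib.Invol
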