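import Mathlib
import Cfsg.Agent.Lib.PGroup.Basic
import Cfsg.Agent.Lib.OddLocal.Puig

/-!
# A 2-group containing an elementary abelian subgroup of order 8 has a normal four-group
-/

set_option autoImplicit false

namespace CfsgLib.Invol.FourGroup

open Subgroup

variable {P : Type*} [Group P]

theorem closure_pair_cases {z w : P} (hz : z * z = 1) (hw : w * w = 1) (hzw : z * w = w * z) {x : P}
    (hx : x ∈ Subgroup.closure ({z, w} : Set P)) : x = 1 ∨ x = z ∨ x = w ∨ x = z * w := by
  have z1 : ∀ a : P, z * (z * a) = a := fun a => by rw [← mul_assoc, hz, one_mul]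
  have w1 : ∀ a : P, w * (w * a) = a := fun a => by rw [← mul_assoc, hw, one_mul]
  have wz : w * z = z * w := hzw.symm
  have wza : ∀ a : P, w * (z * a) = z * (w * a) := fun a => by rw [← mul_assoc, wz, mul_assoc]
  induction hx using Subgroup.closure_induction with
  | mem y hy => rcases hy with rfl | rfl <;> simp
  | one => simp
  | mul a b _ _ iha ihb =>
    rcases iha with rfl | rfl | rfl | rfl <;> rcases ihb with rfl | rfl | rfl | rfl <;>
      simp [mul_assoc, hz, hw, z1, w1, wz, wza]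
  | inv a _ iha =>
    rcases iha with rfl | rfl | rfl | rfl
    · simp
    · simp [inv_eq_of_mul_eq_one_right hz]
    · simp [inv_eq_of_mul_eq_one_right hw]
    · simp [inv_eq_of_mul_eq_one_right hw, inv_eq_of_mul_eq_one_right hz, wz]

/-- A four-group generated by a central involution and a second involution with few conjugates. -/
theorem four_of_pair [Finite P] {z w : P} (hz : z * z = 1) (hz1 : z ≠ 1) (hzc : z ∈ center P)
    (hw : w * w = 1) (hwz : w ≠ z) (hw1 : w ≠ 1) (hconj : ∀ g : P, g * w * g⁻¹ = w ∨ g * w * g⁻¹ = w * z) :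
    ∃ U : Subgroup P, U.Normal ∧ Nat.card U = 4 ∧ ∀ u ∈ U, u * u = 1 := by
  classical
  have hzw : z * w = w * z := (mem_center_iff.mp hzc w).symm
  set U := Subgroup.closure ({z, w} : Set P) with hU
  have hmem := fun x hx => closure_pair_cases hz hw hzw (x := x) hx
  have hzU : z ∈ U := subset_closure (Or.inl rfl)
  have hwU : w ∈ U := subset_closure (Or.inr rfl)
  refine ⟨U, ⟨fun x hx g => ?_⟩, ?_, fun u hu => ?_⟩
  · induction hx using Subgroup.closure_induction with
    | mem y hy =>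
      rcases hy with rfl | rfl
      · rw [mem_center_iff.mp hzc g, mul_inv_cancel_right]; exact hzU
      · rcases hconj g with h | h <;> rw [h]
        · exact hwU
        · exact mul_mem hwU hzU
    | one => simp
    | mul a b _ _ h1 h2 => rw [show g * (a * b) * g⁻¹ = (g * a * g⁻¹) * (g * b * g⁻¹) by group]; exact mul_mem h1 h2
    | inv a _ h1 => rw [show g * a⁻¹ * g⁻¹ = (g * a * g⁻¹)⁻¹ by group]; exact inv_mem h1
  · have hzw1 : z * w ≠ 1 := fun h => hwz (by rw [← inv_eq_of_mul_eq_one_right h, inv_eq_of_mul_eq_one_right hz])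
    have hset : (U : Set P) = {1, z, w, z * w} := by
      ext x
      constructor
      · intro hx; simpa using hmem x hx
      · intro hx
        simp only [Set.mem_insert_iff, Set.mem_singleton_iff] at hx
        rcases hx with rfl | rfl | rfl | rfl
        · exact one_mem U
        · exact hzU
        · exact hwU
        · exact mul_mem hzU hwU
    rw [show Nat.card U = (U : Set P).ncard from rfl, hset]
    rw [Set.ncard_insert_of_notMem (by simp [Ne.symm hz1, Ne.symm hw1, Ne.symm hzw1]),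
      Set.ncard_insert_of_notMem (by simp [Ne.symm hwz, hw1]), Set.ncard_pair (by simpa using hz1)]
  · rcases hmem u hu with rfl | rfl | rfl | rfl
    · exact one_mul 1
    · exact hz
    · exact hw
    · rw [show z * w * (z * w) = z * (w * z) * w by group, ← hzw,
        show z * (z * w) * w = (z * z) * (w * w) by group, hz, hw, one_mul]

variable [Finite P]

/-- The squares-to-one part of a normal commutative subgroup, when it has at least four elements. -/
theorem four_in_omega (hP : IsPGroup 2 P) (Ω : Subgroup P) [Ω.Normal] (h2 : ∀ x ∈ Ω, x * x = 1)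
    (hcard : 2 < Nat.card Ω) : ∃ U : Subgroup P, U.Normal ∧ Nat.card U = 4 ∧ ∀ u ∈ U, u * u = 1 := by
  haveI : Fact (Nat.Prime 2) := ⟨Nat.prime_two⟩
  have hne : Ω ≠ ⊥ := fun h => by rw [h, card_bot] at hcard; omega
  obtain ⟨Z, hZΩ, hZc, hZn, hZ2⟩ := CfsgLib.PGroup.exists_card_eq_le_center (p := 2) hP Ω hne
  haveI := hZn
  obtain ⟨z, hz, hz1⟩ : ∃ z ∈ Z, z ≠ 1 := by
    by_contra h
    push Not at h
    rw [Z.eq_bot_iff_forall.mpr h, card_bot] at hZ2
    omega
  have hZmem : ∀ x ∈ Z, x = 1 ∨ x = z := by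
    intro x hx
    by_contra h
    push Not at h
    have h3 : ({1, z, x} : Set P).ncard ≤ (Z : Set P).ncard := Set.ncard_le_ncard (by
      rintro y (rfl | rfl | rfl)
      · exact one_mem Z
      · exact hz
      · exact hx) (Set.toFinite _)
    rw [Set.ncard_insert_of_notMem (by simp [Ne.symm hz1, Ne.symm h.1]), Set.ncard_pair (Ne.symm h.2),
      show (Z : Set P).ncard = Nat.card Z from rfl, hZ2] at h3
    omega
  set π := QuotientGroup.mk' Z with hπ
  haveI : (Ω.map π).Normal := Subgroup.Normal.map inferInstance π (QuotientGroup.mk'_surjective Z)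
  have hne' : Ω.map π ≠ ⊥ := fun h => by
    rw [Subgroup.map_eq_bot_iff, QuotientGroup.ker_mk'] at h
    have := card_le_of_le h
    omega
  have h4 := CfsgLib.PGroup.inf_center_ne_bot (p := 2) (hP.to_quotient Z) (Ω.map π) hne'
  obtain ⟨q, ⟨⟨w, hw, rfl⟩, hqc⟩, hq1⟩ : ∃ q ∈ Ω.map π ⊓ center (P ⧸ Z), q ≠ 1 := by
    by_contra h
    push Not at h
    exact h4 ((eq_bot_iff_forall _).mpr h)
  have hwZ : w ∉ Z := fun h => hq1 ((QuotientGroup.eq_one_iff w).mpr h)
  refine four_of_pair (h2 z (hZΩ hz)) hz1 (hZc hz) (h2 w hw) (fun h => hwZ (h ▸ hz))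
    (fun h => hwZ (h ▸ one_mem Z)) fun g => ?_
  have h5 : w⁻¹ * (g * w * g⁻¹) ∈ Z := by
    rw [← QuotientGroup.eq_one_iff, ← QuotientGroup.mk'_apply, map_mul, map_inv, map_mul, map_mul, map_inv,
      mem_center_iff.mp hqc (π g), mul_inv_cancel_right, inv_mul_cancel]
  rcases hZmem _ h5 with h | h
  · exact Or.inl (inv_mul_eq_one.mp h).symm
  · exact Or.inr (inv_mul_eq_iff_eq_mul.mp h)

/-- A commutative 2-group with at most two solutions of `x * x = 1` is cyclic. -/
theorem exists_gen {A : Subgroup P} (hA : IsPGroup 2 A) (hc : IsMulCommutative A)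
    (h : ∀ s : Finset P, (∀ x ∈ s, x ∈ A ∧ x * x = 1) → s.card ≤ 2) : ∃ a ∈ A, A = zpowers a := by
  haveI : Fact (Nat.Prime 2) := ⟨Nat.prime_two⟩
  haveI := hc
  obtain ⟨m, hm⟩ := IsPGroup.iff_card.mp hA
  letI : CommGroup A := { (inferInstance : Group A) with mul_comm := mul_comm' }
  have hK : ∀ k, Nat.card (powMonoidHom (2 ^ k) : A →* A).ker ≤ 2 ^ k := by
    intro k
    induction k with
    | zero => simp [powMonoidHom]
    | succ k ih =>
      set K1 := (powMonoidHom (2 ^ (k + 1)) : A →* A).ker with hK1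
      let f : K1 →* A := (powMonoidHom 2).comp K1.subtype
      have hr : f.range ≤ (powMonoidHom (2 ^ k) : A →* A).ker := by
        rintro _ ⟨x, rfl⟩
        show ((x : A) ^ 2) ^ 2 ^ k = 1
        rw [← pow_mul, ← pow_succ']; exact x.2
      have hker : Nat.card f.ker ≤ 2 := by
        classical
        haveI := Fintype.ofFinite f.ker
        have h1 := h ((Finset.univ : Finset f.ker).image fun x : f.ker => (((x : K1) : A) : P)) (by
          intro y hy
          obtain ⟨x, -, rfl⟩ := Finset.mem_image.mp hy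
          exact ⟨((x : K1) : A).2, by rw [← pow_two]; exact congrArg Subtype.val (show ((x : K1) : A) ^ 2 = 1 from MonoidHom.mem_ker.mp x.2)⟩)
        rwa [Finset.card_image_of_injective _ (fun a b e => Subtype.ext (Subtype.ext (Subtype.ext e))),
          Finset.card_univ, ← Nat.card_eq_fintype_card] at h1
      have h2 := f.ker.card_mul_index
      rw [index_ker] at h2
      calc Nat.card K1 = Nat.card f.ker * Nat.card f.range := h2.symm
        _ ≤ 2 * 2 ^ k := Nat.mul_le_mul hker ((card_le_of_le hr).trans ih)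
        _ = 2 ^ (k + 1) := by rw [pow_succ']
  rcases Nat.eq_zero_or_pos m with rfl | hm0
  · refine ⟨1, one_mem A, ?_⟩
    rw [zpowers_one_eq_bot]
    exact eq_bot_of_card_eq A (by rw [hm, pow_zero])
  obtain ⟨x, hx⟩ : ∃ x : A, x ^ 2 ^ (m - 1) ≠ 1 := by
    by_contra hall
    push Not at hall
    have htop : (powMonoidHom (2 ^ (m - 1)) : A →* A).ker = ⊤ := (eq_top_iff' _).mpr hall
    have := hK (m - 1)
    rw [htop, card_top, hm] at this
    exact absurd this (not_le.mpr (Nat.pow_lt_pow_right (by norm_num) (by omega)))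
  refine ⟨(x : P), x.2, (eq_of_le_of_card_ge (zpowers_le.mpr x.2) ?_).symm⟩
  rw [Nat.card_zpowers, Subgroup.orderOf_coe, hm]
  obtain ⟨t, ht⟩ := IsPGroup.iff_orderOf.mp hA x
  rw [ht]
  refine Nat.pow_le_pow_right (by norm_num) ?_
  by_contra hlt
  apply hx
  rw [← orderOf_dvd_iff_pow_eq_one, ht]
  exact pow_dvd_pow 2 (by omega)

/-- In a cyclic 2-group one of two elements is a power of the other. -/
theorem mem_zpowers_or (hP : IsPGroup 2 P) {a u v : P} (hu : u ∈ zpowers a) (hv : v ∈ zpowers a) :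
    u ∈ zpowers v ∨ v ∈ zpowers u := by
  haveI : Fact (Nat.Prime 2) := ⟨Nat.prime_two⟩
  have key : ∀ {x y : P}, x ∈ zpowers a → y ∈ zpowers a → orderOf x ∣ orderOf y → x ∈ zpowers y := by
    intro x y hx hy hd
    classical
    let A := zpowers a
    let K : Subgroup A := zpowers (⟨y, hy⟩ : A)
    have h1 : (⟨x, hx⟩ : A) ∈ K := by
      haveI := Fintype.ofFinite A
      have hle := IsCyclic.card_pow_eq_one_le (α := A) (orderOf_pos (⟨y, hy⟩ : A))
      have hsub : (Finset.univ.filter (fun g : A => g ∈ K)) ⊆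
          Finset.univ.filter (fun g : A => g ^ orderOf (⟨y, hy⟩ : A) = 1) := fun g hg => by
        simp only [Finset.mem_filter, Finset.mem_univ, true_and] at hg ⊢
        obtain ⟨i, rfl⟩ := hg
        rw [← zpow_natCast, ← zpow_mul, mul_comm, zpow_mul, zpow_natCast, pow_orderOf_eq_one, one_zpow]
      have hcardK : (Finset.univ.filter (fun g : A => g ∈ K)).card = orderOf (⟨y, hy⟩ : A) := by
        rw [← Nat.card_zpowers, Nat.card_eq_fintype_card, Fintype.card_subtype]
      have heq := Finset.eq_of_subset_of_card_le hsub (hle.trans hcardK.ge)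
      have hxm : (⟨x, hx⟩ : A) ∈ Finset.univ.filter (fun g : A => g ^ orderOf (⟨y, hy⟩ : A) = 1) := by
        simp only [Finset.mem_filter, Finset.mem_univ, true_and]
        rw [← orderOf_dvd_iff_pow_eq_one, Subgroup.orderOf_mk, Subgroup.orderOf_mk]
        exact hd
      rw [← heq] at hxm
      exact (Finset.mem_filter.mp hxm).2
    obtain ⟨i, hi⟩ := h1
    exact ⟨i, congrArg Subtype.val hi⟩
  obtain ⟨i, hi⟩ := IsPGroup.iff_orderOf.mp hP u
  obtain ⟨j, hj⟩ := IsPGroup.iff_orderOf.mp hP v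
  rcases le_total i j with h | h
  · exact Or.inl (key hu hv (hi ▸ hj ▸ pow_dvd_pow 2 h))
  · exact Or.inr (key hv hu (hi ▸ hj ▸ pow_dvd_pow 2 h))

theorem exists_normal_four (hP : IsPGroup 2 P) (E : Subgroup P) (hE : Nat.card E = 8)
    (hE2 : ∀ e ∈ E, e * e = 1) : ∃ U : Subgroup P, U.Normal ∧ Nat.card U = 4 ∧ ∀ u ∈ U, u * u = 1 := by
  classical
  haveI : Fact (Nat.Prime 2) := ⟨Nat.prime_two⟩
  haveI := hP.isNilpotent
  obtain ⟨A, hAn, hAc, hAC⟩ := CfsgLib.OddLocal.exists_selfCentralizing_abelian_normal (G := P)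
  haveI := hAn
  have hAcomm : ∀ x ∈ A, ∀ y ∈ A, x * y = y * x := fun x hx y hy =>
    congrArg Subtype.val (mul_comm' (⟨x, hx⟩ : A) ⟨y, hy⟩)
  let Ω : Subgroup P :=
    { carrier := {x | x ∈ A ∧ x * x = 1}
      one_mem' := ⟨one_mem _, one_mul 1⟩
      mul_mem' := by
        rintro x y ⟨hx, hx2⟩ ⟨hy, hy2⟩
        refine ⟨mul_mem hx hy, ?_⟩
        rw [show x * y * (x * y) = x * (y * x) * y by group, ← hAcomm x hx y hy,
          show x * (x * y) * y = (x * x) * (y * y) by group, hx2, hy2, one_mul]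
      inv_mem' := by
        rintro x ⟨hx, hx2⟩
        exact ⟨inv_mem hx, by rw [← mul_inv_rev, hx2, inv_one]⟩ }
  haveI : Ω.Normal := ⟨fun x hx g => ⟨hAn.conj_mem x hx.1 g, by
    rw [show g * x * g⁻¹ * (g * x * g⁻¹) = g * (x * x) * g⁻¹ by group, hx.2, mul_one, mul_inv_cancel]⟩⟩
  by_cases hbig : 2 < Nat.card Ω
  · exact four_in_omega hP Ω (fun x hx => hx.2) hbig
  obtain ⟨a, haA, hAa⟩ := exists_gen (hP.to_subgroup A) hAc (fun s hs => by
    have : s.card ≤ Nat.card Ω := by
      rw [← Set.ncard_coe_finset]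
      exact Set.ncard_le_ncard (fun x hx => hs x hx) (Set.toFinite _)
    omega)
  -- centralising `a` means lying in `A`
  have hca : ∀ x : P, x * a * x⁻¹ = a → x ∈ A := by
    intro x hx
    rw [← hAC, mem_centralizer_iff]
    intro y hy
    rw [SetLike.mem_coe, hAa] at hy
    obtain ⟨i, rfl⟩ := hy
    exact ((Commute.zpow_left (show Commute a x from (mul_inv_eq_iff_eq_mul.mp hx).symm) i)).eq
  -- the involution of `A`
  have hA2 : ∀ x ∈ A, x * x = 1 → ∀ y ∈ A, y * y = 1 → x ≠ 1 → y ≠ 1 → x = y := by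
    intro x hx hx2 y hy hy2 hx1 hy1
    by_contra hne
    have h3 : ({1, x, y} : Set P).ncard ≤ (Ω : Set P).ncard := Set.ncard_le_ncard (by
      rintro t (rfl | rfl | rfl)
      · exact one_mem Ω
      · exact ⟨hx, hx2⟩
      · exact ⟨hy, hy2⟩) (Set.toFinite _)
    rw [Set.ncard_insert_of_notMem (by simp [Ne.symm hx1, Ne.symm hy1]), Set.ncard_pair hne,
      show (Ω : Set P).ncard = Nat.card Ω from rfl] at h3
    omega
  -- few values of the action
  have hfew : ∀ T : Finset P, (∀ e ∈ E, e * a * e⁻¹ ∈ T) → 2 < T.card := by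
    intro T hT
    by_contra hT2
    haveI := Fintype.ofFinite E
    have h1 : (Finset.univ : Finset E).card ≤ 2 * T.card := by
      refine Finset.card_le_mul_card_image_of_maps_to (f := fun e : E => (e : P) * a * (e : P)⁻¹)
        (fun e _ => hT e e.2) 2 fun b _ => ?_
      by_contra hlt
      push Not at hlt
      obtain ⟨e0, he0⟩ := Finset.card_pos.mp (by omega : 0 < (Finset.univ.filter fun e : E => (e : P) * a * (e : P)⁻¹ = b).card)
      simp only [Finset.mem_filter, Finset.mem_univ, true_and] at he0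
      have himg : (Finset.univ.filter fun e : E => (e : P) * a * (e : P)⁻¹ = b).image (fun e : E => (e0 : P)⁻¹ * (e : P)) ⊆
          (Finset.univ.filter fun y : E => (y : P) ∈ A).image (fun y : E => (y : P)) := by
        intro y hy
        obtain ⟨e, he, rfl⟩ := Finset.mem_image.mp hy
        simp only [Finset.mem_filter, Finset.mem_univ, true_and] at he
        refine Finset.mem_image.mpr ⟨e0⁻¹ * e, ?_, rfl⟩
        simp only [Finset.mem_filter, Finset.mem_univ, true_and]
        refine hca _ ?_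
        show (e0 : P)⁻¹ * e * a * ((e0 : P)⁻¹ * e)⁻¹ = a
        rw [show (e0 : P)⁻¹ * e * a * ((e0 : P)⁻¹ * e)⁻¹ = (e0 : P)⁻¹ * ((e : P) * a * (e : P)⁻¹) * e0 by group, he, ← he0]
        group
      have h2 := Finset.card_le_card himg
      rw [Finset.card_image_of_injective _ (fun u v e => Subtype.ext (mul_left_cancel e))] at h2
      have h3 : ((Finset.univ.filter fun y : E => (y : P) ∈ A).image (fun y : E => (y : P))).card ≤ Nat.card Ω := by
        rw [← Set.ncard_coe_finset]
        refine Set.ncard_le_ncard (fun x hx => ?_) (Set.toFinite _)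
        obtain ⟨y, hy, rfl⟩ := Finset.mem_image.mp hx
        simp only [Finset.mem_filter, Finset.mem_univ, true_and] at hy
        exact ⟨hy, hE2 y y.2⟩
      omega
    rw [Finset.card_univ, ← Nat.card_eq_fintype_card, hE] at h1
    omega
  -- the four possible images of `a`
  have himage : ∀ e ∈ E, (e * a * e⁻¹ * a⁻¹) * (e * a * e⁻¹ * a⁻¹) = 1 ∨
      (e * a * e⁻¹ * a) * (e * a * e⁻¹ * a) = 1 := by
    intro e he
    have hb : e * a * e⁻¹ ∈ A := hAn.conj_mem a haA e
    have he2 : e⁻¹ = e := inv_eq_of_mul_eq_one_right (hE2 e he)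
    have hback : e * (e * a * e⁻¹) * e⁻¹ = a := by
      rw [show e * (e * a * e⁻¹) * e⁻¹ = (e * e) * a * (e * e)⁻¹ by group, hE2 e he]; group
    set b := e * a * e⁻¹ with hbdef
    have hu : e * (b * a⁻¹) * e⁻¹ = (b * a⁻¹)⁻¹ := by
      rw [show e * (b * a⁻¹) * e⁻¹ = (e * b * e⁻¹) * (e * a * e⁻¹)⁻¹ by group, hback, ← hbdef]; group
    have hv : e * (b * a) * e⁻¹ = b * a := by
      rw [show e * (b * a) * e⁻¹ = (e * b * e⁻¹) * (e * a * e⁻¹) by group, hback, ← hbdef, hAcomm b hb a haA]
    rcases mem_zpowers_or hP (u := b * a⁻¹) (v := b * a) (hAa ▸ mul_mem hb (inv_mem haA))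
      (hAa ▸ mul_mem hb haA) with ⟨i, hi⟩ | ⟨i, hi⟩
    · left
      have h1 : e * (b * a⁻¹) * e⁻¹ = b * a⁻¹ := by rw [← hi, ← conj_zpow, hv]
      nth_rw 2 [← h1]
      rw [hu, mul_inv_cancel]
    · right
      have h1 : e * (b * a) * e⁻¹ = (b * a)⁻¹ := by rw [← hi, ← conj_zpow, hu, inv_zpow]
      nth_rw 2 [← hv]
      rw [h1, mul_inv_cancel]
  obtain ⟨z, hzA, hz2, hz1⟩ : ∃ z ∈ A, z * z = 1 ∧ z ≠ 1 := by
    by_contra h
    push Not at h
    have hall : ∀ e ∈ E, e * a * e⁻¹ ∈ ({a, a⁻¹} : Finset P) := by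
      intro e he
      simp only [Finset.mem_insert, Finset.mem_singleton]
      rcases himage e he with h2 | h2
      · exact Or.inl (mul_inv_eq_one.mp (h _ (mul_mem (hAn.conj_mem a haA e) (inv_mem haA)) h2))
      · exact Or.inr (eq_inv_of_mul_eq_one_left (h _ (mul_mem (hAn.conj_mem a haA e) haA) h2))
    exact absurd (hfew _ hall) (not_lt.mpr Finset.card_le_two)
  have hval : ∀ e ∈ E, e * a * e⁻¹ = a ∨ e * a * e⁻¹ = z * a ∨ e * a * e⁻¹ = a⁻¹ ∨ e * a * e⁻¹ = z * a⁻¹ := by
    intro e he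
    rcases himage e he with h2 | h2
    · by_cases h1 : e * a * e⁻¹ * a⁻¹ = 1
      · exact Or.inl (mul_inv_eq_one.mp h1)
      · exact Or.inr (Or.inl (mul_inv_eq_iff_eq_mul.mp
          (hA2 _ (mul_mem (hAn.conj_mem a haA e) (inv_mem haA)) h2 z hzA hz2 h1 hz1)))
    · by_cases h1 : e * a * e⁻¹ * a = 1
      · exact Or.inr (Or.inr (Or.inl (eq_inv_of_mul_eq_one_left h1)))
      · exact Or.inr (Or.inr (Or.inr (eq_mul_inv_iff_mul_eq.mpr
          (hA2 _ (mul_mem (hAn.conj_mem a haA e) haA) h2 z hzA hz2 h1 hz1))))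
  have hzc : z ∈ center P := mem_center_iff.mpr fun g => by
    have h1 : g * z * g⁻¹ = z := hA2 _ (hAn.conj_mem z hzA g)
      (by rw [show g * z * g⁻¹ * (g * z * g⁻¹) = g * (z * z) * g⁻¹ by group, hz2, mul_one, mul_inv_cancel])
      z hzA hz2 (fun h => hz1 (conj_eq_one_iff.mp h)) hz1
    exact mul_inv_eq_iff_eq_mul.mp h1
  obtain ⟨e, he, hea, hza, hza'⟩ : ∃ e ∈ E, e * a * e⁻¹ = z * a ∧ z * a ≠ a ∧ z * a ≠ a⁻¹ := by
    have hne : z * a ≠ a := fun h => hz1 (mul_eq_right.mp h)
    by_cases hsmall : z * a = a⁻¹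
    · exfalso
      have hall : ∀ e ∈ E, e * a * e⁻¹ ∈ ({a, a⁻¹} : Finset P) := by
        intro e he
        simp only [Finset.mem_insert, Finset.mem_singleton]
        rcases hval e he with h | h | h | h
        · exact Or.inl h
        · exact Or.inr (h.trans hsmall)
        · exact Or.inr h
        · refine Or.inl (h.trans ?_)
          rw [← hsmall, ← mul_assoc, hz2, one_mul]
      exact absurd (hfew _ hall) (not_lt.mpr Finset.card_le_two)
    by_cases hex : ∃ e ∈ E, e * a * e⁻¹ = z * a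
    · obtain ⟨e, he, h⟩ := hex; exact ⟨e, he, h, hne, hsmall⟩
    push Not at hex
    exfalso
    by_cases hinv : ∃ e ∈ E, e * a * e⁻¹ = a⁻¹
    · obtain ⟨e1, he1, h1⟩ := hinv
      have hall : ∀ e ∈ E, e * a * e⁻¹ ∈ ({a, a⁻¹} : Finset P) := by
        intro e he
        simp only [Finset.mem_insert, Finset.mem_singleton]
        rcases hval e he with h | h | h | h
        · exact Or.inl h
        · exact absurd h (hex e he)
        · exact Or.inr h
        · refine absurd ?_ (hex (e1 * e) (mul_mem he1 he))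
          rw [show e1 * e * a * (e1 * e)⁻¹ = e1 * (e * a * e⁻¹) * e1⁻¹ by group, h,
            show e1 * (z * a⁻¹) * e1⁻¹ = (e1 * z) * e1⁻¹ * (e1 * a * e1⁻¹)⁻¹ by group, h1, inv_inv,
            mem_center_iff.mp hzc e1, mul_inv_cancel_right]
      exact absurd (hfew _ hall) (not_lt.mpr Finset.card_le_two)
    · push Not at hinv
      have hall : ∀ e ∈ E, e * a * e⁻¹ ∈ ({a, z * a⁻¹} : Finset P) := by
        intro e he
        simp only [Finset.mem_insert, Finset.mem_singleton]
        rcases hval e he with h | h | h | h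
        · exact Or.inl h
        · exact absurd h (hex e he)
        · exact absurd h (hinv e he)
        · exact Or.inr h
      exact absurd (hfew _ hall) (not_lt.mpr Finset.card_le_two)
  have heA : e ∉ A := fun h => hza (hea.symm.trans (by rw [hAcomm e h a haA, mul_inv_cancel_right]))
  refine four_of_pair hz2 hz1 hzc (hE2 e he) (fun h => heA (h ▸ hzA)) (fun h => heA (h ▸ one_mem A)) fun g => ?_
  -- a conjugate of `e` acts on `a` in the same way
  set f := g * e * g⁻¹ with hf
  have hfa : f * a * f⁻¹ = z * a := by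
    have hga : g⁻¹ * a * g ∈ A := by simpa using hAn.conj_mem a haA g⁻¹
    rw [hAa] at hga
    obtain ⟨l, hl⟩ := hga
    have hkey : f * a * f⁻¹ = g * z ^ l * g⁻¹ * a := by
      calc f * a * f⁻¹ = g * (e * (g⁻¹ * a * g) * e⁻¹) * g⁻¹ := by rw [hf]; group
        _ = g * (z ^ l * a ^ l) * g⁻¹ := by
          rw [← hl, ← conj_zpow, hea, (show Commute z a from (mem_center_iff.mp hzc a).symm).mul_zpow]
        _ = g * z ^ l * g⁻¹ * (g * a ^ l * g⁻¹) := by group
        _ = g * z ^ l * g⁻¹ * a := by rw [show a ^ l = g⁻¹ * a * g from hl]; group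
    have hzl : z ^ l = 1 ∨ z ^ l = z := by
      rcases Int.even_or_odd l with ⟨j, rfl⟩ | ⟨j, rfl⟩
      · left; rw [← two_mul, zpow_mul, zpow_two, hz2, one_zpow]
      · right; rw [zpow_add, zpow_mul, zpow_two, hz2, one_zpow, one_mul, zpow_one]
    rcases hzl with h | h <;> rw [h] at hkey
    · exfalso
      rw [mul_one, mul_inv_cancel, one_mul] at hkey
      exact heA (by simpa [hf, mul_assoc] using hAn.conj_mem f (hca f hkey) g⁻¹)
    · rw [hkey, mem_center_iff.mp hzc g, mul_inv_cancel_right]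
  have hfe : f * e⁻¹ ∈ A := by
    refine hca _ ?_
    have he' : e⁻¹ * a * e = z * a := by rw [inv_eq_of_mul_eq_one_right (hE2 e he)]; exact hea ▸ by rw [inv_eq_of_mul_eq_one_right (hE2 e he)]
    calc f * e⁻¹ * a * (f * e⁻¹)⁻¹ = f * (e⁻¹ * a * e) * f⁻¹ := by group
      _ = (f * z) * f⁻¹ * (f * a * f⁻¹) := by rw [he']; group
      _ = a := by rw [mem_center_iff.mp hzc f, mul_inv_cancel_right, hfa, ← mul_assoc, hz2, one_mul]
  have hfe2 := hfe
  rw [hAa] at hfe2
  obtain ⟨i, hi⟩ := hfe2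
  have hf2 : f * f = 1 := by rw [hf, show g * e * g⁻¹ * (g * e * g⁻¹) = g * (e * e) * g⁻¹ by group, hE2 e he, mul_one, mul_inv_cancel]
  have hsq : a ^ (2 * i) * z ^ i = 1 := by
    have he1 : e⁻¹ = e := inv_eq_of_mul_eq_one_right (hE2 e he)
    have h1 : f = a ^ i * e := mul_inv_eq_iff_eq_mul.mp hi.symm
    have h2 : e * a ^ i * e = z ^ i * a ^ i := by
      nth_rw 2 [← he1]
      rw [← conj_zpow, hea, (show Commute z a from (mem_center_iff.mp hzc a).symm).mul_zpow]
    calc a ^ (2 * i) * z ^ i = a ^ i * (z ^ i * a ^ i) := by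
          rw [((show Commute z a from (mem_center_iff.mp hzc a).symm).zpow_zpow i i).eq, ← mul_assoc, ← zpow_add, two_mul]
      _ = f * f := by rw [h1, ← h2]; group
      _ = 1 := hf2
  rcases Int.even_or_odd i with ⟨j, hj⟩ | ⟨j, hj⟩
  · have hzi : z ^ i = 1 := by rw [hj, ← two_mul, zpow_mul, zpow_two, hz2, one_zpow]
    rw [hzi, mul_one] at hsq
    by_cases h0 : f * e⁻¹ = 1
    · exact Or.inl (mul_inv_eq_one.mp h0)
    · right
      have hw2 : f * e⁻¹ * (f * e⁻¹) = 1 := by rw [← hi, ← zpow_add, ← two_mul]; exact hsq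
      have := hA2 _ hfe hw2 z hzA hz2 h0 hz1
      rw [mul_inv_eq_iff_eq_mul.mp this]
      exact (mem_center_iff.mp hzc e).symm
  · exfalso
    have hzi : z ^ i = z := by rw [hj, zpow_add, zpow_mul, zpow_two, hz2, one_zpow, one_mul, zpow_one]
    rw [hzi] at hsq
    have h4 : a ^ (4 * i) = 1 := by
      have h5 : a ^ (2 * i) = z := by rw [eq_inv_of_mul_eq_one_left hsq]; exact inv_eq_of_mul_eq_one_right hz2
      rw [show 4 * i = 2 * i + 2 * i by ring, zpow_add, h5, hz2]
    obtain ⟨t, ht⟩ := IsPGroup.iff_orderOf.mp hP a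
    have hd : (2 ^ t : ℤ) ∣ 4 := by
      have h5 : ((2 ^ t : ℕ) : ℤ) ∣ 4 * i := ht ▸ orderOf_dvd_iff_zpow_eq_one.mpr h4
      push_cast at h5
      refine IsCoprime.dvd_of_dvd_mul_right (IsCoprime.pow_left ?_) h5
      exact ⟨-j, 1, by rw [hj]; ring⟩
    have ha4 : a ^ (4 : ℤ) = 1 := orderOf_dvd_iff_zpow_eq_one.mp (by rw [ht]; push_cast; exact hd)
    -- then the square of `a` is an involution
    by_cases ha2 : a * a = 1
    · have ha1 : a ≠ 1 := fun h => hza (by
        rw [← hea, h]; group)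
      have haz : a = z := hA2 a haA ha2 z hzA hz2 ha1 hz1
      exact hza (hea.symm.trans (by rw [haz, mem_center_iff.mp hzc e, mul_inv_cancel_right]))
    · have hz' : a * a = z := hA2 _ (mul_mem haA haA) (by
        rw [show (4 : ℤ) = ((4 : ℕ) : ℤ) from rfl, zpow_natCast] at ha4
        rw [← ha4]; simp [pow_succ, mul_assoc]) z hzA hz2 ha2 hz1
      apply hza'
      refine eq_inv_of_mul_eq_one_left ?_
      rw [mul_assoc, hz', hz2]

end CfsgLib.Invol.FourGroup
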