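import Mathlib
import Cfsg.Prelude.Def_CaseTheorems
import Cfsg.Agent.Lib.Cores.Basic

/-!
# A group with one class of involutions and trivial odd core has a simple minimal normal subgroup
-/

set_option autoImplicit false

namespace CfsgLib.Invol

variable {H : Type*} [Group H] [Finite H]

omit [Finite H] in
theorem mem_map_conj' {N : Subgroup H} {g x : H} :
    x ∈ N.map (MulAut.conj g).toMonoidHom ↔ g⁻¹ * x * g ∈ N := by
  constructor
  · rintro ⟨y, hy, rfl⟩
    show g⁻¹ * (g * y * g⁻¹) * g ∈ N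
    rwa [show g⁻¹ * (g * y * g⁻¹) * g = y by group]
  · intro h; exact ⟨_, h, by show g * (g⁻¹ * x * g) * g⁻¹ = x; group⟩

theorem exists_simple_normal_of_one_class (hO : Cfsg.oddCore H = ⊥)
    (hcls : ∀ a b : H, orderOf a = 2 → orderOf b = 2 → IsConj a b)
    (hnc : ∃ a b : H, orderOf a = 2 ∧ orderOf b = 2 ∧ a * b ≠ b * a) :
    ∃ L : Subgroup H, L.Normal ∧ IsSimpleGroup L ∧ ¬ IsMulCommutative L ∧
      ∀ t : H, orderOf t = 2 → t ∈ L := by
  classical
  haveI : Fact (Nat.Prime 2) := ⟨Nat.prime_two⟩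
  obtain ⟨a₀, b₀, ha₀, hb₀, hab₀⟩ := hnc
  obtain ⟨L, ⟨hLn, hL1⟩, hLmin⟩ := Set.exists_min_image {L : Subgroup H | L.Normal ∧ L ≠ ⊥}
    (fun L : Subgroup H => Nat.card L) (Set.toFinite _)
    ⟨⊤, inferInstance, fun h => by
      have : a₀ ∈ (⊥ : Subgroup H) := h ▸ Subgroup.mem_top a₀
      rw [Subgroup.mem_bot.mp this, orderOf_one] at ha₀; omega⟩
  replace hLmin : ∀ M : Subgroup H, (M.Normal ∧ M ≠ ⊥) → Nat.card L ≤ Nat.card M := fun M hM => hLmin M hM
  haveI := hLn
  have hLmin' : ∀ M : Subgroup H, M.Normal → M ≠ ⊥ → M ≤ L → M = L := fun M h1 h2 h3 =>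
    Subgroup.eq_of_le_of_card_ge h3 (hLmin M ⟨h1, h2⟩)
  have hall : ∀ t : H, orderOf t = 2 → t ∈ L := by
    have hev : 2 ∣ Nat.card L := by
      by_contra h
      apply hL1
      rw [← le_bot_iff, ← hO]
      exact CfsgLib.Cores.le_oddCore_of_odd (Nat.not_even_iff_odd.mp fun e => h e.two_dvd)
    obtain ⟨y, hy⟩ := exists_prime_orderOf_dvd_card' 2 hev
    intro t ht
    obtain ⟨g, rfl⟩ := isConj_iff.mp (hcls (y : H) t (by rw [Subgroup.orderOf_coe, hy]) ht)
    exact hLn.conj_mem _ y.2 g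
  have hLc : ¬ IsMulCommutative L := fun h =>
    hab₀ (congrArg Subtype.val (mul_comm' (⟨a₀, hall _ ha₀⟩ : L) ⟨b₀, hall _ hb₀⟩))
  refine ⟨L, hLn, ?_, hLc, hall⟩
  let F : Set (Subgroup H) := {N | N ≤ L ∧ N ≠ ⊥ ∧ ∀ l ∈ L, ∀ x ∈ N, l * x * l⁻¹ ∈ N}
  obtain ⟨N, ⟨hNL, hN1, hNn⟩, hNmin⟩ := Set.exists_min_image F (fun N : Subgroup H => Nat.card N)
    (Set.toFinite _) ⟨L, le_rfl, hL1, fun l hl x hx => L.mul_mem (L.mul_mem hl hx) (L.inv_mem hl)⟩
  replace hNmin : ∀ M ∈ F, Nat.card N ≤ Nat.card M := hNmin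
  have hFconj : ∀ g : H, N.map (MulAut.conj g).toMonoidHom ∈ F ∧
      Nat.card (N.map (MulAut.conj g).toMonoidHom) = Nat.card N := by
    intro g
    refine ⟨⟨?_, fun h => hN1 ?_, ?_⟩, Subgroup.card_map_of_injective (MulAut.conj g).injective⟩
    · rintro _ ⟨y, hy, rfl⟩; exact hLn.conj_mem y (hNL hy) g
    · exact (Subgroup.map_eq_bot_iff_of_injective N (MulAut.conj g).injective).mp h
    · intro l hl x hx
      rw [mem_map_conj'] at hx ⊢
      have hl' : g⁻¹ * l * g ∈ L := by simpa using hLn.conj_mem l hl g⁻¹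
      have := hNn _ hl' _ hx
      rwa [show g⁻¹ * l * g * (g⁻¹ * x * g) * (g⁻¹ * l * g)⁻¹ = g⁻¹ * (l * x * l⁻¹) * g by group] at this
  have hdisj : ∀ A ∈ F, ∀ B ∈ F, Nat.card A = Nat.card N → Nat.card B = Nat.card N → A ≠ B →
      ∀ x ∈ A, ∀ y ∈ B, (x = y → x = 1) ∧ x * y = y * x := by
    intro A hA B hB cA cB hne x hx y hy
    have hbot : A ⊓ B = ⊥ := by
      by_contra h
      have hmem : A ⊓ B ∈ F := ⟨inf_le_left.trans hA.1, h,
        fun l hl z hz => ⟨hA.2.2 l hl z hz.1, hB.2.2 l hl z hz.2⟩⟩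
      have h1 := hNmin _ hmem
      have e1 := Subgroup.eq_of_le_of_card_ge (inf_le_left : A ⊓ B ≤ A) (cA ▸ h1)
      have e2 := Subgroup.eq_of_le_of_card_ge (inf_le_right : A ⊓ B ≤ B) (cB ▸ h1)
      exact hne (e1.symm.trans e2)
    refine ⟨fun e => Subgroup.mem_bot.mp (hbot ▸ ⟨hx, e ▸ hy⟩), ?_⟩
    have hxy : x * y * x⁻¹ * y⁻¹ ∈ A ⊓ B := by
      refine ⟨?_, B.mul_mem (hB.2.2 x (hA.1 hx) y hy) (B.inv_mem hy)⟩
      rw [SetLike.mem_coe, show x * y * x⁻¹ * y⁻¹ = x * (y * x⁻¹ * y⁻¹) by group]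
      exact A.mul_mem hx (hA.2.2 y (hB.1 hy) _ (A.inv_mem hx))
    rw [hbot, Subgroup.mem_bot] at hxy
    calc x * y = (x * y * x⁻¹ * y⁻¹) * (y * x) := by group
      _ = y * x := by rw [hxy, one_mul]
  -- `N` is all of `L`
  have hNL' : N = L := by
    by_cases hfix : ∀ g : H, N.map (MulAut.conj g).toMonoidHom = N
    · refine hLmin' N ⟨fun x hx g => ?_⟩ hN1 hNL
      have := hfix g ▸ (Subgroup.mem_map_of_mem (MulAut.conj g).toMonoidHom hx)
      exact this
    push Not at hfix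
    obtain ⟨g, hg⟩ := hfix
    exfalso
    have hev : 2 ∣ Nat.card N := by
      by_contra h
      apply hN1
      haveI : (N.subgroupOf L).Normal := (Subgroup.normal_subgroupOf_iff hNL).mpr fun x l hx hl => hNn l hl x hx
      have h1 : N.subgroupOf L ≤ Cfsg.oddCore L := CfsgLib.Cores.le_oddCore_of_odd (by
        rw [Nat.card_congr (Subgroup.subgroupOfEquivOfLe hNL).toEquiv]
        exact Nat.not_even_iff_odd.mp fun e => h e.two_dvd)
      haveI : (Cfsg.oddCore L).Characteristic := CfsgLib.Cores.pPrimeCore_characteristic 2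
      have h2 : (Cfsg.oddCore L).map L.subtype ≤ Cfsg.oddCore H := CfsgLib.Cores.le_oddCore_of_odd (by
        rw [Subgroup.card_map_of_injective L.subtype_injective]; exact CfsgLib.Cores.odd_card_oddCore)
      rw [← le_bot_iff, ← hO]
      refine le_trans (fun x hx => ?_) h2
      exact ⟨⟨x, hNL hx⟩, h1 (Subgroup.mem_subgroupOf.mpr hx), rfl⟩
    obtain ⟨y, hy⟩ := exists_prime_orderOf_dvd_card' 2 hev
    set a : H := (y : H) with ha
    have hao : orderOf a = 2 := by rw [ha, Subgroup.orderOf_coe, hy]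
    set b : H := g * a * g⁻¹ with hb
    have hNF : N ∈ F := ⟨hNL, hN1, hNn⟩
    have hbN' : b ∈ N.map (MulAut.conj g).toMonoidHom := ⟨a, y.2, rfl⟩
    obtain ⟨hne_ab, hcomm⟩ := hdisj N hNF _ (hFconj g).1 rfl (hFconj g).2 (fun e => hg e.symm) a y.2 b hbN'
    have hbo : orderOf b = 2 := by rw [hb, ← MulAut.conj_apply, MulEquiv.orderOf_eq, hao]
    have ha2 : a * a = 1 := by rw [← pow_two, ← hao, pow_orderOf_eq_one]
    have hb2 : b * b = 1 := by rw [← pow_two, ← hbo, pow_orderOf_eq_one]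
    have habo : orderOf (a * b) = 2 := by
      refine orderOf_eq_prime ?_ fun e => ?_
      · rw [pow_two, show a * b * (a * b) = a * (b * a) * b by group, ← hcomm,
          show a * (a * b) * b = (a * a) * (b * b) by group, ha2, hb2, one_mul]
      · have : a = b := by rw [eq_inv_of_mul_eq_one_left e]; exact inv_eq_of_mul_eq_one_left hb2
        rw [hne_ab this, orderOf_one] at hao; omega
    obtain ⟨h, hh⟩ := isConj_iff.mp (hcls a (a * b) hao habo)
    have habN : a * b ∈ N.map (MulAut.conj h).toMonoidHom := ⟨a, y.2, hh⟩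
    have hne1 : N ≠ N.map (MulAut.conj h).toMonoidHom := fun e => by
      have hbN : b ∈ N := by
        have hab : a * b ∈ N := e.symm ▸ habN
        have h' : a⁻¹ * (a * b) ∈ N := N.mul_mem (N.inv_mem y.2) hab
        rwa [inv_mul_cancel_left] at h'
      have hb1 := (hdisj N hNF _ (hFconj g).1 rfl (hFconj g).2 (fun e => hg e.symm) b hbN b hbN').1 rfl
      rw [hb1, orderOf_one] at hbo; omega
    have hcen : ∀ x ∈ N, x * a = a * x := by
      intro x hx
      have h1 := (hdisj N hNF _ (hFconj h).1 rfl (hFconj h).2 hne1 x hx _ habN).2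
      have h2 := (hdisj N hNF _ (hFconj g).1 rfl (hFconj g).2 (fun e => hg e.symm) x hx b hbN').2
      calc x * a = x * (a * b) * b⁻¹ := by group
        _ = a * (b * x) * b⁻¹ := by rw [h1]; group
        _ = a * (x * b) * b⁻¹ := by rw [h2]
        _ = a * x := by group
    have hab : N ⊓ Subgroup.centralizer (N : Set H) = N := by
      refine Subgroup.eq_of_le_of_card_ge inf_le_left (hNmin _ ⟨inf_le_left.trans hNL, fun e => ?_, ?_⟩)
      · have ha1 : a = 1 := Subgroup.mem_bot.mp (e ▸ ⟨y.2, Subgroup.mem_centralizer_iff.mpr fun x hx => hcen x hx⟩)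
        rw [ha1, orderOf_one] at hao; omega
      · rintro l hl x ⟨hx, hxc⟩
        refine ⟨hNn l hl x hx, Subgroup.mem_centralizer_iff.mpr fun z hz => ?_⟩
        have hz' : l⁻¹ * z * l ∈ N := by simpa using hNn _ (L.inv_mem hl) z hz
        calc z * (l * x * l⁻¹) = l * ((l⁻¹ * z * l) * x) * l⁻¹ := by group
          _ = l * (x * (l⁻¹ * z * l)) * l⁻¹ := by rw [Subgroup.mem_centralizer_iff.mp hxc _ hz']
          _ = l * x * l⁻¹ * z := by group
    have habel : ∀ x ∈ N, ∀ z ∈ N, x * z = z * x := fun x hx z hz =>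
      Subgroup.mem_centralizer_iff.mp ((hab.symm ▸ hz : z ∈ N ⊓ Subgroup.centralizer (N : Set H))).2 x hx
    let T : Set H := {x | ∃ u : H, x ∈ N.map (MulAut.conj u).toMonoidHom}
    have hT : ∀ x ∈ T, ∀ z ∈ T, x * z = z * x := by
      rintro x ⟨u, hx⟩ z ⟨v, hz⟩
      by_cases huv : N.map (MulAut.conj u).toMonoidHom = N.map (MulAut.conj v).toMonoidHom
      · rw [← huv] at hz
        obtain ⟨x', hx', rfl⟩ := hx
        obtain ⟨z', hz', rfl⟩ := hz
        rw [← map_mul, ← map_mul, habel x' hx' z' hz']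
      · exact (hdisj _ (hFconj u).1 _ (hFconj v).1 (hFconj u).2 (hFconj v).2 huv x hx z hz).2
    set M := Subgroup.closure T with hM
    have hMn : M.Normal := by
      refine ⟨fun x hx u => ?_⟩
      induction hx using Subgroup.closure_induction with
      | mem x hx =>
        obtain ⟨v, w, hw, rfl⟩ := hx
        refine Subgroup.subset_closure ⟨u * v, w, hw, ?_⟩
        simp [mul_assoc]
      | one => simp
      | mul x z _ _ h1 h2 =>
        rw [show u * (x * z) * u⁻¹ = (u * x * u⁻¹) * (u * z * u⁻¹) by group]; exact mul_mem h1 h2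
      | inv x _ h1 =>
        rw [show u * x⁻¹ * u⁻¹ = (u * x * u⁻¹)⁻¹ by group]; exact inv_mem h1
    have hMeq : M = L := by
      refine hLmin' M hMn (fun e => ?_) ((Subgroup.closure_le _).mpr ?_)
      · have haM : a ∈ M := Subgroup.subset_closure ⟨1, a, y.2, by simp⟩
        rw [e, Subgroup.mem_bot] at haM
        rw [haM, orderOf_one] at hao; omega
      · rintro x ⟨u, hx⟩; exact (hFconj u).1.1 hx
    apply hLc
    rw [← hMeq]
    have h1 : T ⊆ Subgroup.centralizer T := fun x hx => Subgroup.mem_centralizer_iff.mpr fun z hz => hT z hz x hx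
    have h2 : M ≤ Subgroup.centralizer T := (Subgroup.closure_le _).mpr h1
    have h3 : T ⊆ Subgroup.centralizer (M : Set H) := fun x hx =>
      Subgroup.mem_centralizer_iff.mpr fun z hz => (Subgroup.mem_centralizer_iff.mp (h2 hz) x hx).symm
    have h4 : M ≤ Subgroup.centralizer (M : Set H) := (Subgroup.closure_le _).mpr h3
    exact ⟨⟨fun x z => Subtype.ext (Subgroup.mem_centralizer_iff.mp (h4 z.2) x x.2)⟩⟩
  haveI : Nontrivial L := L.nontrivial_iff_ne_bot.mpr hL1
  refine ⟨fun K hK => ?_⟩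
  by_cases hK1 : K = ⊥
  · exact Or.inl hK1
  right
  have hmem : K.map L.subtype ∈ F := by
    refine ⟨Subgroup.map_subtype_le K, fun e => hK1 ((Subgroup.map_eq_bot_iff_of_injective K L.subtype_injective).mp e), ?_⟩
    rintro l hl _ ⟨k, hk, rfl⟩
    exact ⟨⟨l, hl⟩ * k * ⟨l, hl⟩⁻¹, hK.conj_mem k hk _, rfl⟩
  have h1 := hNmin _ hmem
  rw [hNL', Subgroup.card_map_of_injective L.subtype_injective] at h1
  exact Subgroup.eq_top_of_card_eq K (le_antisymm (Subgroup.card_le_card_group K) h1)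

end CfsgLib.Invol
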