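import Cfsg.Agent.Lib.Invol.IsolatedSylow
import Cfsg.Agent.Lib.Cores.Basic

/-!
# An involution class with pairwise products of `p`-power order lies in `O_p(G) d`
-/

set_option autoImplicit false

namespace CfsgLib.Invol

open Cfsg

variable {G : Type*} [Group G] [Finite G]

theorem mul_mem_pCore_of_products {p : ℕ} (hp : p.Prime) (hp2 : p ≠ 2) (d : G) (hd : orderOf d = 2)
    (hprod : ∀ a ∈ conjugatesOf d, ∀ b ∈ conjugatesOf d, ∃ k : ℕ, orderOf (a * b) = p ^ k) :
    ∀ a ∈ conjugatesOf d, ∀ b ∈ conjugatesOf d, a * b ∈ Cfsg.pCore p G := by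
  haveI : Fact p.Prime := ⟨hp⟩
  have hdd : d * d = 1 := mul_self_of_orderOf_two hd
  have hconj : ∀ g : G, g * d * g⁻¹ ∈ conjugatesOf d := fun g => isConj_iff.2 ⟨g, rfl⟩
  have hself : d ∈ conjugatesOf d := mem_conjugatesOf_self
  -- the involution is isolated
  have hiso : IsIsolatedInvolution d := by
    refine ⟨hd, fun g hg => ?_⟩
    have hb : g * d * g⁻¹ * (g * d * g⁻¹) = 1 :=
      mul_self_of_orderOf_two ((orderOf_conj_eq g d).trans hd)
    obtain ⟨k, hk⟩ := hprod d hself _ (hconj g)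
    have h2 : orderOf (d * (g * d * g⁻¹)) ∣ 2 := orderOf_dvd_of_pow_eq_one (by
      rw [hg.mul_pow, pow_two, pow_two, hdd, hb, one_mul])
    have h1 : orderOf (d * (g * d * g⁻¹)) = 1 := by
      have hco : Nat.Coprime 2 (p ^ k) :=
        ((Nat.coprime_primes Nat.prime_two hp).2 (Ne.symm hp2)).pow_right k
      exact Nat.dvd_one.1 (hco ▸ Nat.dvd_gcd h2 (hk ▸ dvd_rfl))
    rw [orderOf_eq_one_iff] at h1
    rw [eq_inv_of_mul_eq_one_right h1, inv_eq_of_orderOf_two hd]
  -- the class has order a power of `p`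
  set C := Subgroup.centralizer ({d} : Set G)
  have hr : ∀ r : ℕ, r.Prime → r ≠ p → ¬ r ∣ C.index := by
    intro r hr hrp hdvd
    haveI : Fact r.Prime := ⟨hr⟩
    obtain ⟨R, hR⟩ := exists_invariant_sylow hiso r
    have hRC : (R : Subgroup G) ≤ C := by
      intro x hx
      rw [Subgroup.mem_centralizer_singleton_iff]
      have hy : x⁻¹ * d * x * d ∈ (R : Subgroup G) := by
        have h1 := (Subgroup.mem_normalizer_iff.1 hR x).1 hx
        rw [inv_eq_of_orderOf_two hd] at h1
        rw [show x⁻¹ * d * x * d = x⁻¹ * (d * x * d) by simp only [mul_assoc]]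
        exact mul_mem (inv_mem hx) h1
      obtain ⟨k, hk⟩ := hprod (x⁻¹ * d * x) (by simpa using hconj x⁻¹) d hself
      obtain ⟨m, hm⟩ := IsPGroup.iff_orderOf.1 R.2 ⟨_, hy⟩
      rw [Subgroup.orderOf_mk, hk] at hm
      have hk0 : p ^ k = 1 :=
        Nat.eq_one_of_dvd_coprimes (((Nat.coprime_primes hp hr).2 (Ne.symm hrp)).pow k m) dvd_rfl
          (hm ▸ dvd_rfl)
      rw [hk0, orderOf_eq_one_iff] at hk
      have h3 : x⁻¹ * d * x = d := by rw [eq_inv_of_mul_eq_one_left hk, inv_eq_of_orderOf_two hd]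
      calc x * d = x * (x⁻¹ * d * x) := by rw [h3]
        _ = d * x := by group
    exact R.not_dvd_index (hdvd.trans (Subgroup.index_dvd_of_le hRC))
  obtain ⟨Q, hQ⟩ := exists_invariant_sylow hiso p
  have hrel : C.index ≤ C.relIndex (Q : Subgroup G) := by
    have h1 : C.index ∣ C.relIndex (Q : Subgroup G) * (Q : Subgroup G).index := by
      rw [← Subgroup.inf_relIndex_right, Subgroup.relIndex_mul_index inf_le_right]
      exact Subgroup.index_dvd_of_le inf_le_left
    have h2 : Nat.Coprime C.index (Q : Subgroup G).index := Nat.coprime_of_dvd fun r hr' hd1 hd2 => by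
      rcases eq_or_ne r p with rfl | hrp
      · exact Q.not_dvd_index hd2
      · exact hr r hr' hrp hd1
    exact Nat.le_of_dvd (Nat.pos_of_ne_zero Subgroup.FiniteIndex.index_ne_zero)
      (h2.dvd_of_dvd_mul_right h1)
  -- the conjugates come from `Q`
  have hcov : ∀ g : G, ∃ q ∈ (Q : Subgroup G), q * d * q⁻¹ = g * d * g⁻¹ := by
    let f : (Q : Subgroup G) ⧸ C.subgroupOf Q → G ⧸ C :=
      Quotient.map' Subtype.val fun a b h => by
        rw [QuotientGroup.leftRel_apply] at h ⊢
        simpa [Subgroup.mem_subgroupOf] using h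
    have hf : Function.Injective f := by
      intro a b
      induction a using Quotient.inductionOn'
      induction b using Quotient.inductionOn'
      intro h
      have h' := Quotient.eq''.1 h
      refine Quotient.eq''.2 ?_
      rw [QuotientGroup.leftRel_apply] at h' ⊢
      simpa [Subgroup.mem_subgroupOf] using h'
    have hbij : Function.Bijective f :=
      hf.bijective_of_nat_card_le hrel
    intro g
    obtain ⟨a, ha⟩ := hbij.2 (g : G ⧸ C)
    induction a using Quotient.inductionOn' with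
    | _ q =>
      refine ⟨q.1, q.2, ?_⟩
      have hc : (q : G)⁻¹ * g ∈ C := by
        have h' := Quotient.eq''.1 ha
        rwa [QuotientGroup.leftRel_apply] at h'
      rw [Subgroup.mem_centralizer_singleton_iff] at hc
      calc (q : G) * d * (q : G)⁻¹ = (q : G) * (d * ((q : G)⁻¹ * g)) * g⁻¹ := by group
        _ = (q : G) * (((q : G)⁻¹ * g) * d) * g⁻¹ := by rw [hc]
        _ = g * d * g⁻¹ := by group
  -- the subgroup generated by the quotients
  let T : Subgroup G := Subgroup.closure ((fun b => b * d) '' conjugatesOf d)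
  have hTQ : T ≤ (Q : Subgroup G) := by
    rw [Subgroup.closure_le]
    rintro _ ⟨b, hb, rfl⟩
    obtain ⟨g, rfl⟩ := isConj_iff.1 hb
    obtain ⟨q, hq, hqe⟩ := hcov g
    show g * d * g⁻¹ * d ∈ (Q : Subgroup G)
    rw [← hqe]
    have h1 := (Subgroup.mem_normalizer_iff.1 hQ q⁻¹).1 (inv_mem hq)
    rw [inv_eq_of_orderOf_two hd] at h1
    rw [show q * d * q⁻¹ * d = q * (d * q⁻¹ * d) by simp only [mul_assoc]]
    exact mul_mem hq h1
  have hmem : ∀ b ∈ conjugatesOf d, b * d ∈ T := fun b hb => Subgroup.subset_closure ⟨b, hb, rfl⟩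
  have hTn : T.Normal := by
    refine ⟨fun x hx g => ?_⟩
    induction hx using Subgroup.closure_induction with
    | mem x hx =>
      obtain ⟨b, hb, rfl⟩ := hx
      show g * (b * d) * g⁻¹ ∈ T
      obtain ⟨h, rfl⟩ := isConj_iff.1 hb
      rw [show g * (h * d * h⁻¹ * d) * g⁻¹ = (g * h * d * (g * h)⁻¹ * d) * (g * d * g⁻¹ * d)⁻¹ *
        ((g * d * g⁻¹) * (g * d * g⁻¹)) by group]
      rw [show g * d * g⁻¹ * (g * d * g⁻¹) = 1 by
        rw [show g * d * g⁻¹ * (g * d * g⁻¹) = g * (d * d) * g⁻¹ by group, hdd]; group, mul_one]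
      exact mul_mem (hmem _ (hconj _)) (inv_mem (hmem _ (hconj _)))
    | one => simp
    | mul x y _ _ ihx ihy =>
      rw [show g * (x * y) * g⁻¹ = (g * x * g⁻¹) * (g * y * g⁻¹) by group]
      exact mul_mem ihx ihy
    | inv x _ ih =>
      rw [show g * x⁻¹ * g⁻¹ = (g * x * g⁻¹)⁻¹ by group]
      exact inv_mem ih
  intro a ha b hb
  refine CfsgLib.Cores.le_pCore (hn := hTn) (Q.2.to_le hTQ) ?_
  have hbb : b * b = 1 := by
    obtain ⟨g, rfl⟩ := isConj_iff.1 hb
    exact mul_self_of_orderOf_two ((orderOf_conj_eq g d).trans hd)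
  rw [show a * b = (a * d) * (b * d)⁻¹ * (b * b) by group]
  rw [hbb, mul_one]
  exact mul_mem (hmem a ha) (inv_mem (hmem b hb))

end CfsgLib.Invol
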