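import Mathlib
import Cfsg.Agent.Lib.Invol.ZStarFinal
import Cfsg.Prelude.Def_TwoFusion

/-!
# A strongly closed 2-subgroup meeting a core-free invariant subgroup trivially centralizes it
-/

set_option autoImplicit false

namespace CfsgLib.Invol

open Cfsg

theorem centralizes_of_stronglyClosed_top {K : Type*} [Group K] [Finite K] (H A : Subgroup K)
    [H.Normal] (hsup : H ⊔ A = ⊤) (hdisj : A ⊓ H = ⊥) (T : Sylow 2 K) (hAT : A ≤ (T : Subgroup K))
    (hclosed : ∀ x ∈ A, ∀ g : K, g * x * g⁻¹ ∈ (T : Subgroup K) → g * x * g⁻¹ ∈ A)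
    (hO : ∀ N : Subgroup K, N.Normal → Odd (Nat.card N) → N ≤ H → N = ⊥) :
    A ≤ Subgroup.centralizer (H : Set K) := by
  classical
  set B := A ⊓ Subgroup.centralizer (H : Set K) with hBdef
  by_contra hle
  have hCn : (Subgroup.centralizer (H : Set K)).Normal := inferInstance
  have hfact : ∀ k : K, ∃ h ∈ H, ∃ a ∈ A, h * a = k := fun k => by
    have hk : k ∈ H ⊔ A := hsup ▸ Subgroup.mem_top k
    exact (Subgroup.mem_sup_of_normal_left.mp hk)
  have hHA : ∀ u ∈ A, ∀ v ∈ A, u * v⁻¹ ∈ H → u = v := fun u hu v hv h => by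
    have h1 : u * v⁻¹ ∈ A ⊓ H := ⟨A.mul_mem hu (A.inv_mem hv), h⟩
    rw [hdisj, Subgroup.mem_bot, mul_inv_eq_one] at h1
    exact h1
  have hBn : B.Normal := ⟨fun b hb k => by
    obtain ⟨h, hh, a, ha, rfl⟩ := hfact k
    have h1 : a * b * a⁻¹ ∈ B := ⟨A.mul_mem (A.mul_mem ha hb.1) (A.inv_mem ha), hCn.conj_mem b hb.2 a⟩
    rw [show h * a * b * (h * a)⁻¹ = h * (a * b * a⁻¹) * h⁻¹ by group,
      Subgroup.mem_centralizer_iff.mp h1.2 h hh, mul_inv_cancel_right]
    exact h1⟩
  -- a central involution of A/B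
  set BA := B.subgroupOf A with hBA
  have hA2 : IsPGroup 2 A := T.2.to_le hAT
  have hne : BA ≠ ⊤ := fun h => hle fun a ha => by
    have : (⟨a, ha⟩ : A) ∈ BA := h ▸ Subgroup.mem_top _
    exact this.2
  have hq2 : IsPGroup 2 (A ⧸ BA) := hA2.to_quotient BA
  have hnt : Nontrivial (A ⧸ BA) := QuotientGroup.nontrivial_iff.mpr hne
  have hcnt : Nontrivial (Subgroup.center (A ⧸ BA)) := hq2.center_nontrivial
  obtain ⟨q, hq⟩ : ∃ q : Subgroup.center (A ⧸ BA), orderOf q = 2 := by
    obtain ⟨m, hm⟩ := (hq2.to_subgroup (Subgroup.center (A ⧸ BA))).exists_card_eq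
    refine exists_prime_orderOf_dvd_card' 2 ?_
    rcases Nat.eq_zero_or_pos m with h0 | h0
    · have := Finite.one_lt_card (α := Subgroup.center (A ⧸ BA))
      rw [hm, h0, pow_zero] at this; omega
    · rw [hm]; exact dvd_pow_self 2 h0.ne'
  obtain ⟨a, ha⟩ := QuotientGroup.mk'_surjective BA (q : A ⧸ BA)
  have hqc : ∀ r, r * (q : A ⧸ BA) = (q : A ⧸ BA) * r := Subgroup.mem_center_iff.mp q.2
  have haB : (a : K) ∉ B := fun h => by
    have h1 : (q : A ⧸ BA) = 1 := by
      rw [← ha, QuotientGroup.mk'_apply, QuotientGroup.eq_one_iff]; exact h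
    rw [← Subgroup.orderOf_coe, h1, orderOf_one] at hq
    omega
  have ha2 : (a : K) ^ 2 ∈ B := by
    have h1 : (q : A ⧸ BA) ^ 2 = 1 := by
      rw [← SubmonoidClass.coe_pow, ← hq, pow_orderOf_eq_one, OneMemClass.coe_one]
    rw [← ha, ← map_pow, QuotientGroup.mk'_apply, QuotientGroup.eq_one_iff] at h1
    exact h1
  have hac : ∀ u ∈ A, u * (a : K) * u⁻¹ * (a : K)⁻¹ ∈ B := by
    intro u hu
    have h1 : QuotientGroup.mk' BA (⟨u, hu⟩ * a * ⟨u, hu⟩⁻¹ * a⁻¹) = 1 := by
      rw [map_mul, map_mul, map_mul, ha, hqc, map_inv, map_inv, ha, mul_inv_cancel_right, mul_inv_cancel]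
    rw [QuotientGroup.mk'_apply, QuotientGroup.eq_one_iff] at h1
    exact h1
  -- isolated in the quotient
  set π := QuotientGroup.mk' B with hπ
  have hπa : orderOf (π a) = 2 :=
    orderOf_eq_prime (by rw [← map_pow, QuotientGroup.mk'_apply, QuotientGroup.eq_one_iff]; exact ha2)
      (fun h => haB ((QuotientGroup.eq_one_iff _).mp h))
  have hiso : IsIsolatedInvolution (π a) := by
    refine isolated_of_sylow (T.mapSurjective (QuotientGroup.mk'_surjective B)) hπa
      (Subgroup.mem_map_of_mem _ (hAT a.2)) ?_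
    intro g hg
    obtain ⟨k, rfl⟩ := QuotientGroup.mk'_surjective B g
    rw [← map_inv, ← map_mul, ← map_mul] at hg ⊢
    obtain ⟨t, ht, htk⟩ := Subgroup.mem_map.mp hg
    have hkT : k * (a : K) * k⁻¹ ∈ (T : Subgroup K) := by
      have h1 : t⁻¹ * (k * (a : K) * k⁻¹) ∈ B := by
        rw [← QuotientGroup.eq]; exact htk
      have := mul_mem ht (hAT h1.1)
      rwa [mul_inv_cancel_left] at this
    have hkA := hclosed a a.2 k hkT
    obtain ⟨h, hh, u, hu, rfl⟩ := hfact k
    have hconj : h * u * (a : K) * (h * u)⁻¹ = u * (a : K) * u⁻¹ := by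
      refine hHA _ hkA _ (A.mul_mem (A.mul_mem hu a.2) (A.inv_mem hu)) ?_
      rw [show h * u * (a : K) * (h * u)⁻¹ * (u * (a : K) * u⁻¹)⁻¹ =
        h * ((u * a * u⁻¹) * h⁻¹ * (u * a * u⁻¹)⁻¹) by group]
      exact H.mul_mem hh (Subgroup.Normal.conj_mem inferInstance _ (H.inv_mem hh) _)
    rw [hconj, ← mul_inv_eq_one, ← map_inv, ← map_mul, QuotientGroup.mk'_apply,
      QuotientGroup.eq_one_iff]
    exact hac u hu
  have hO' : oddCore (K ⧸ B) = ⊥ := by
    set R := oddCore (K ⧸ B)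
    have hRn : R.Normal := by
      have := CfsgLib.Cores.pPrimeCore_characteristic (G := K ⧸ B) 2
      infer_instance
    have hRodd : Odd (Nat.card R) := CfsgLib.Cores.odd_card_oddCore
    -- odd elements lie in `H`
    set ν := QuotientGroup.mk' H
    have hsub : ∀ w : K, Odd (orderOf w) → w ∈ H := by
      intro w hw
      obtain ⟨h, hh, u, hu, rfl⟩ := hfact w
      have h1 : ν (h * u) = ν u := by
        rw [map_mul, show ν h = 1 from (QuotientGroup.eq_one_iff h).mpr hh, one_mul]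
      obtain ⟨m, hm⟩ := hA2 ⟨u, hu⟩
      have h2 : orderOf (ν (h * u)) ∣ 2 ^ m := by
        rw [h1]
        exact (orderOf_map_dvd ν u).trans (orderOf_dvd_of_pow_eq_one (by simpa using congrArg Subtype.val hm))
      have h3 : orderOf (ν (h * u)) = 1 :=
        Nat.eq_one_of_dvd_coprimes ((Nat.coprime_two_right.mpr hw).pow_right m)
          (orderOf_map_dvd ν _) h2
      exact (QuotientGroup.eq_one_iff _).mp (orderOf_eq_one_iff.mp h3)
    set N := R.comap π ⊓ H with hN
    have hNn : N.Normal := Subgroup.normal_inf_normal _ _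
    have hNodd : Odd (Nat.card N) := by
      have hinj : Function.Injective (fun x : N => (⟨π x, x.2.1⟩ : R)) := by
        intro x y hxy
        have h1 : (x : K)⁻¹ * y ∈ B := by
          rw [← QuotientGroup.eq]; exact congrArg Subtype.val hxy
        have h2 : (x : K)⁻¹ * y ∈ A ⊓ H := ⟨h1.1, H.mul_mem (H.inv_mem x.2.2) y.2.2⟩
        rw [hdisj, Subgroup.mem_bot, inv_mul_eq_one] at h2
        exact Subtype.ext h2
      let f : N →* R :=
        { toFun := fun x => ⟨π x, x.2.1⟩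
          map_one' := by ext; simp
          map_mul' := fun x y => by ext; simp }
      exact hRodd.of_dvd_nat (Subgroup.card_dvd_of_injective f hinj)
    have hNbot : N = ⊥ := hO N hNn hNodd inf_le_right
    rw [eq_bot_iff]
    intro r hr
    rw [Subgroup.mem_bot]
    obtain ⟨w, rfl⟩ := QuotientGroup.mk'_surjective B r
    obtain ⟨l, m, hm, hlm⟩ := Nat.exists_eq_two_pow_mul_odd (orderOf_pos w).ne'
    have hwodd : Odd (orderOf (w ^ 2 ^ l)) := by
      rw [orderOf_pow' w (by positivity), hlm, Nat.gcd_eq_right (dvd_mul_right _ _),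
        Nat.mul_div_cancel_left _ (by positivity)]
      exact hm
    have hwN : w ^ 2 ^ l ∈ N :=
      ⟨Subgroup.mem_comap.mpr (by rw [map_pow]; exact pow_mem hr _), hsub _ hwodd⟩
    rw [hNbot, Subgroup.mem_bot] at hwN
    have h1 : orderOf (π w) ∣ 2 ^ l := (orderOf_map_dvd π w).trans (orderOf_dvd_of_pow_eq_one hwN)
    have h2 : Odd (orderOf (π w)) := hRodd.of_dvd_nat (Subgroup.orderOf_dvd_natCard R hr)
    exact orderOf_eq_one_iff.mp
      (Nat.eq_one_of_dvd_coprimes ((Nat.coprime_two_right.mpr h2).pow_right l) dvd_rfl h1)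
  have hcen := zstar_center hiso hO'
  apply haB
  refine ⟨a.2, Subgroup.mem_centralizer_iff.mpr fun h hh => ?_⟩
  have h1 : π (h * a * h⁻¹ * (a : K)⁻¹) = 1 := by
    rw [map_mul, map_mul, map_mul, Subgroup.mem_center_iff.mp hcen (π h), map_inv,
      mul_inv_cancel_right, map_inv, mul_inv_cancel]
  rw [QuotientGroup.mk'_apply, QuotientGroup.eq_one_iff] at h1
  have h2 : h * a * h⁻¹ * (a : K)⁻¹ ∈ A ⊓ H := ⟨h1.1, by
    rw [show h * a * h⁻¹ * (a : K)⁻¹ = h * (a * h⁻¹ * (a : K)⁻¹) by group]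
    exact H.mul_mem hh (Subgroup.Normal.conj_mem inferInstance _ (H.inv_mem hh) _)⟩
  rw [hdisj, Subgroup.mem_bot] at h2
  exact mul_inv_eq_iff_eq_mul.mp (mul_inv_eq_one.mp h2)

end CfsgLib.Invol
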